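import Mathlib

set_option autoImplicit false
set_option linter.unusedSectionVars false
set_option linter.unusedVariables false

/-! Class numbers of direct products with a central involution. -/

namespace Cfsg.Agent.H43

theorem card_conj_congr {G H : Type*} [Group G] [Group H] (e : G ≃* H) : Nat.card (ConjClasses G) = Nat.card (ConjClasses H) := by
  apply Nat.card_congr
  refine ⟨ConjClasses.map e.toMonoidHom, ConjClasses.map e.symm.toMonoidHom, ?_, ?_⟩
  · intro c
    obtain ⟨x, rfl⟩ := ConjClasses.exists_rep c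
    exact congrArg ConjClasses.mk (e.symm_apply_apply x)
  · intro c
    obtain ⟨x, rfl⟩ := ConjClasses.exists_rep c
    exact congrArg ConjClasses.mk (e.apply_symm_apply x)

theorem card_commutator_congr {G H : Type*} [Group G] [Group H] (e : G ≃* H) :
    Nat.card (ConjClasses (commutator G)) = Nat.card (ConjClasses (commutator H)) := by
  have h1 : (commutator G).map (e : G →* H) = commutator H := by
    rw [commutator_def, commutator_def, Subgroup.map_commutator, ← MonoidHom.range_eq_map, MonoidHom.range_eq_top.2 e.surjective]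
  exact card_conj_congr ((e.subgroupMap (commutator G)).trans (MulEquiv.subgroupCongr h1))

theorem card_conj_prod_units {A : Type*} [Group A] [Finite A] : Nat.card (ConjClasses (A × ℤˣ)) = 2 * Nat.card (ConjClasses A) := by
  have h1 := commProb_prod A ℤˣ
  have h2 : commProb ℤˣ = 1 := commProb_eq_one_iff.2 ⟨⟨fun a b => mul_comm a b⟩⟩
  rw [h2, mul_one, commProb_def', commProb_def', Nat.card_prod] at h1
  have h3 : Nat.card ℤˣ = 2 := by rw [Nat.card_eq_fintype_card]; rfl
  rw [h3] at h1
  have h4 : (0 : ℚ) < Nat.card A := by exact_mod_cast Nat.card_pos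
  push_cast at h1
  rw [div_eq_div_iff (by positivity) h4.ne'] at h1
  have h5 : (Nat.card (ConjClasses (A × ℤˣ)) : ℚ) = 2 * Nat.card (ConjClasses A) := by
    apply mul_right_cancel₀ h4.ne'
    rw [h1]; ring
  exact_mod_cast h5

theorem card_conj_double {G : Type*} [Group G] [Finite G] (Om : Subgroup G) (z : G) (hz : ∀ g, z * g = g * z) (hz2 : z * z = 1) (hzn : z ∉ Om)
    (K : Subgroup G) (hK : ∀ g, g ∈ K ↔ g ∈ Om ∨ z * g ∈ Om) :
    Nat.card (ConjClasses K) = 2 * Nat.card (ConjClasses Om) ∧ Nat.card K = 2 * Nat.card Om := by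
  classical
  obtain ⟨f, hf⟩ : ∃ f : Om × ℤˣ →* G, ∀ p, f p = (p.1 : G) * (if p.2 = 1 then 1 else z) := by
    refine ⟨⟨⟨fun p => (p.1 : G) * (if p.2 = 1 then 1 else z), ?_⟩, ?_⟩, fun p => rfl⟩
    · simp
    · rintro ⟨a, s⟩ ⟨b, t⟩
      rcases Int.units_eq_one_or s with rfl | rfl <;> rcases Int.units_eq_one_or t with rfl | rfl
      · simp
      · have : ((-1 : ℤˣ) = 1) ↔ False := by simp
        simp [this, mul_assoc]
      · have : ((-1 : ℤˣ) = 1) ↔ False := by simp
        simp [this, mul_assoc, hz]
      · have : ((-1 : ℤˣ) = 1) ↔ False := by simp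
        simp only [Prod.mk_mul_mk, this, if_false, Subgroup.coe_mul]
        have h1 : ((-1 : ℤˣ) * -1 = 1) := by decide
        rw [if_pos h1, mul_one]
        calc (a : G) * b = a * b * (z * z) := by rw [hz2, mul_one]
          _ = a * (b * z) * z := by group
          _ = a * (z * b) * z := by rw [hz]
          _ = a * z * (b * z) := by group
  have hinj : Function.Injective f := by
    rw [injective_iff_map_eq_one]
    rintro ⟨a, s⟩ h
    rw [hf] at h
    rcases Int.units_eq_one_or s with rfl | rfl
    · simp only [if_true, mul_one] at h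
      have : a = 1 := Subtype.ext h
      rw [this]; rfl
    · exfalso
      have h1 : ((-1 : ℤˣ) = 1) ↔ False := by simp
      simp only [h1, if_false] at h
      apply hzn
      have h3 : z = ((a⁻¹ : Om) : G) := by
        rw [Subgroup.coe_inv]
        exact eq_inv_of_mul_eq_one_right h
      rw [h3]; exact (a⁻¹).2
  have hrange : f.range = K := by
    ext g
    rw [hK]
    constructor
    · rintro ⟨⟨a, s⟩, rfl⟩
      rw [hf]
      rcases Int.units_eq_one_or s with rfl | rfl
      · left; simp
      · right
        have h1 : ((-1 : ℤˣ) = 1) ↔ False := by simp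
        simp only [h1, if_false]
        rw [hz, mul_assoc, hz2, mul_one]; exact a.2
    · rintro (h | h)
      · exact ⟨(⟨g, h⟩, 1), by rw [hf]; simp⟩
      · refine ⟨(⟨z * g, h⟩, -1), ?_⟩
        have h1 : ((-1 : ℤˣ) = 1) ↔ False := by simp
        rw [hf]
        simp only [h1, if_false]
        rw [hz, mul_assoc, hz2, mul_one]
  have e : Om × ℤˣ ≃* K := (MonoidHom.ofInjective hinj).trans (MulEquiv.subgroupCongr hrange)
  refine ⟨?_, ?_⟩
  · rw [← card_conj_congr e, card_conj_prod_units]
  · rw [← Nat.card_congr e.toEquiv, Nat.card_prod, Nat.card_eq_fintype_card (α := ℤˣ), mul_comm]; rfl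

theorem exists_double {G : Type*} [Group G] (Om : Subgroup G) (z : G) (hz : ∀ g, z * g = g * z) (hz2 : z * z = 1) :
    ∃ K : Subgroup G, ∀ g, g ∈ K ↔ g ∈ Om ∨ z * g ∈ Om := by
  refine ⟨⟨⟨⟨{g | g ∈ Om ∨ z * g ∈ Om}, ?_⟩, ?_⟩, ?_⟩, fun g => Iff.rfl⟩
  · rintro a b (ha | ha) (hb | hb)
    · exact Or.inl (Om.mul_mem ha hb)
    · right
      have : z * (a * b) = a * (z * b) := by rw [← mul_assoc, hz, mul_assoc]
      rw [this]; exact Om.mul_mem ha hb
    · right
      rw [← mul_assoc]; exact Om.mul_mem ha hb
    · left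
      have : a * b = (z * a) * (z * b) := by
        calc a * b = (z * z) * (a * b) := by rw [hz2, one_mul]
          _ = z * (z * a) * b := by group
          _ = z * (a * z) * b := by rw [hz a]
          _ = _ := by group
      rw [this]; exact Om.mul_mem ha hb
  · exact Or.inl Om.one_mem
  · rintro a (ha | ha)
    · exact Or.inl (Om.inv_mem ha)
    · right
      have h1 : z⁻¹ = z := inv_eq_of_mul_eq_one_left hz2
      have : z * a⁻¹ = (z * a)⁻¹ := by rw [mul_inv_rev, h1, hz]
      rw [this]; exact Om.inv_mem ha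

theorem index_double {G : Type*} [Group G] [Finite G] (Om K : Subgroup G) (h4 : Om.index = 4) (hK : Nat.card K = 2 * Nat.card Om) : K.index = 2 := by
  have h1 := Om.card_mul_index
  have h2 := K.card_mul_index
  rw [hK] at h2
  rw [h4, ← h2] at h1
  have h3 : 0 < Nat.card Om := Nat.card_pos
  nlinarith

end Cfsg.Agent.H43
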