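import Mathlib

set_option autoImplicit false

namespace Cfsg.Agent.H43

variable {F V : Type*} [Field F] [AddCommGroup V] [Module F V] [FiniteDimensional F V]

/-- `dim ker (f^k) ≤ k * dim ker f`. -/
theorem finrank_ker_pow_le (f : Module.End F V) (k : ℕ) :
    Module.finrank F (LinearMap.ker (f ^ k)) ≤ k * Module.finrank F (LinearMap.ker f) := by
  induction k with
  | zero => simp [Module.End.one_eq_id]
  | succ k ih =>
    let g : LinearMap.ker (f ^ (k + 1)) →ₗ[F] LinearMap.ker f :=
      ((f ^ k).domRestrict (LinearMap.ker (f ^ (k + 1)))).codRestrict _ (by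
        rintro ⟨x, hx⟩
        rw [LinearMap.mem_ker] at hx ⊢
        rw [pow_succ'] at hx
        exact hx)
    have h1 := LinearMap.finrank_range_add_finrank_ker g
    have h2 : Module.finrank F (LinearMap.range g) ≤ Module.finrank F (LinearMap.ker f) :=
      Submodule.finrank_le _
    have h3 : Module.finrank F (LinearMap.ker g) ≤ Module.finrank F (LinearMap.ker (f ^ k)) := by
      let h : LinearMap.ker g →ₗ[F] LinearMap.ker (f ^ k) :=
        ((LinearMap.ker (f ^ (k + 1))).subtype.domRestrict (LinearMap.ker g)).codRestrict _ (by
          rintro ⟨x, hx⟩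
          rw [LinearMap.mem_ker] at hx ⊢
          have := congrArg Subtype.val hx
          simpa [g] using this)
      refine LinearMap.finrank_le_finrank_of_injective (f := h) ?_
      intro x y hxy
      have := congrArg Subtype.val hxy
      simp only [h, LinearMap.codRestrict_apply, LinearMap.domRestrict_apply, Submodule.subtype_apply] at this
      exact Subtype.ext (Subtype.ext this)
    calc Module.finrank F (LinearMap.ker (f ^ (k + 1)))
        = Module.finrank F (LinearMap.range g) + Module.finrank F (LinearMap.ker g) := h1.symm
      _ ≤ Module.finrank F (LinearMap.ker f) + k * Module.finrank F (LinearMap.ker f) := by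
          gcongr; exact h3.trans ih
      _ = (k + 1) * Module.finrank F (LinearMap.ker f) := by ring

/-- An invariant subspace of a nilpotent endomorphism with kernel of dimension at most one is the kernel of a power. -/
theorem eq_ker_pow_of_invariant (f : Module.End F V) (hf : IsNilpotent f)
    (h1 : Module.finrank F (LinearMap.ker f) ≤ 1) (W : Submodule F V) (hW : ∀ v ∈ W, f v ∈ W) :
    W = LinearMap.ker (f ^ Module.finrank F W) := by
  have hle : W ≤ LinearMap.ker (f ^ Module.finrank F W) := by
    intro w hw
    let g : Module.End F W := f.restrict hW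
    have hpow : ∀ (k : ℕ) (x : W), ((g ^ k) x : V) = (f ^ k) x := by
      intro k
      induction k with
      | zero => simp
      | succ k ih =>
        intro x
        rw [pow_succ', pow_succ', Module.End.mul_apply, Module.End.mul_apply, ← ih]
        rfl
    obtain ⟨n, hn⟩ := hf
    have hgn : g ^ n = 0 := by
      ext x
      rw [hpow, hn]
      rfl
    have h2 := Module.End.ker_pow_le_ker_pow_finrank g n
    rw [hgn, LinearMap.ker_zero, top_le_iff] at h2
    have h3 : (⟨w, hw⟩ : W) ∈ LinearMap.ker (g ^ Module.finrank F W) := by rw [h2]; trivial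
    rw [LinearMap.mem_ker] at h3 ⊢
    have := hpow (Module.finrank F W) ⟨w, hw⟩
    rw [h3] at this
    exact this.symm
  refine Submodule.eq_of_le_of_finrank_le hle ?_
  refine (finrank_ker_pow_le f _).trans ?_
  calc _ ≤ Module.finrank F W * 1 := by gcongr
    _ = _ := by simp

end Cfsg.Agent.H43
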