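import Mathlib
import Cfsg.Agent.H43.RegNil

set_option autoImplicit false

/-! Nilpotent endomorphisms with a cyclic vector. -/

namespace Cfsg.Agent.H43

variable {F V : Type*} [Field F] [AddCommGroup V] [Module F V]

/-- If `f^n v = 0` and `f^(n-1) v ≠ 0` then `v, f v, ..., f^(n-1) v` are linearly independent. -/
theorem linearIndependent_pow (f : Module.End F V) (n : ℕ) (v : V) (h0 : (f ^ n) v = 0)
    (h1 : (f ^ (n - 1)) v ≠ 0) : LinearIndependent F (fun i : Fin n => (f ^ (i : ℕ)) v) := by
  rw [Fintype.linearIndependent_iff]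
  intro c hc
  have key : ∀ k : ℕ, ∀ i : Fin n, (i : ℕ) = k → c i = 0 := by
    intro k
    induction k using Nat.strong_induction_on with
    | _ k ih =>
      intro i hik
      have h2 := congrArg (f ^ (n - 1 - k)) hc
      rw [map_zero, map_sum, Finset.sum_eq_single i] at h2
      · rw [map_smul, ← Module.End.mul_apply, ← pow_add, hik,
          Nat.sub_add_cancel (by omega)] at h2
        exact (smul_eq_zero.1 h2).resolve_right h1
      · intro j _ hj
        rcases lt_or_gt_of_ne (fun h => hj (Fin.ext h) : (j : ℕ) ≠ i) with hlt | hgt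
        · rw [ih j (by omega) j rfl, zero_smul, map_zero]
        · have h3 : (f ^ (n - 1 - k)) ((f ^ (j : ℕ)) v) = 0 := by
            rw [← Module.End.mul_apply, ← pow_add]
            obtain ⟨e, he⟩ := Nat.exists_eq_add_of_le (show n ≤ n - 1 - k + j by omega)
            rw [he, add_comm, pow_add, Module.End.mul_apply, h0, map_zero]
          rw [map_smul, h3, smul_zero]
      · intro h; exact absurd (Finset.mem_univ i) h
  intro i
  exact key i i rfl

variable [FiniteDimensional F V]

/-- A regular nilpotent endomorphism has nonzero `(n-1)`-st power. -/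
theorem exists_cyclic_vector (f : Module.End F V) (h1 : Module.finrank F (LinearMap.ker f) ≤ 1)
    (hn : 1 ≤ Module.finrank F V) : ∃ v, (f ^ (Module.finrank F V - 1)) v ≠ 0 := by
  by_contra h
  push Not at h
  have h2 : LinearMap.ker (f ^ (Module.finrank F V - 1)) = ⊤ := by
    rw [eq_top_iff]
    intro v _
    exact h v
  have h3 := finrank_ker_pow_le f (Module.finrank F V - 1)
  rw [h2, finrank_top] at h3
  have h4 : (Module.finrank F V - 1) * Module.finrank F (LinearMap.ker f) ≤ (Module.finrank F V - 1) * 1 :=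
    Nat.mul_le_mul_left _ h1
  omega

/-- The cyclic basis. -/
noncomputable def cycBasis (f : Module.End F V) (n : ℕ) (hn : n = Module.finrank F V) (v : V)
    (h0 : (f ^ n) v = 0) (h1 : (f ^ (n - 1)) v ≠ 0) : Module.Basis (Fin n) F V :=
  basisOfLinearIndependentOfCardEqFinrank' _ (linearIndependent_pow f n v h0 h1)
    (by rw [Fintype.card_fin, hn])

theorem cycBasis_apply (f : Module.End F V) (n : ℕ) (hn : n = Module.finrank F V) (v : V)
    (h0 : (f ^ n) v = 0) (h1 : (f ^ (n - 1)) v ≠ 0) (i : Fin n) :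
    cycBasis f n hn v h0 h1 i = (f ^ (i : ℕ)) v := by
  unfold cycBasis
  rw [coe_basisOfLinearIndependentOfCardEqFinrank']

/-- Two endomorphisms commuting with `f` and agreeing on a cyclic vector are equal. -/
theorem eq_of_commute_of_apply_eq (f : Module.End F V) (n : ℕ) (hn : n = Module.finrank F V) (v : V)
    (h0 : (f ^ n) v = 0) (h1 : (f ^ (n - 1)) v ≠ 0) {g g' : Module.End F V} (hg : Commute g f)
    (hg' : Commute g' f) (h : g v = g' v) : g = g' := by
  apply (cycBasis f n hn v h0 h1).ext
  intro i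
  rw [cycBasis_apply, ← Module.End.mul_apply, ← Module.End.mul_apply, (hg.pow_right _).eq,
    (hg'.pow_right _).eq, Module.End.mul_apply, Module.End.mul_apply, h]

/-- For every `w` there is an endomorphism commuting with `f` and sending the cyclic vector to `w`. -/
theorem exists_commute_apply_eq (f : Module.End F V) (n : ℕ) (hn : n = Module.finrank F V) (v : V)
    (hf : f ^ n = 0) (h1 : (f ^ (n - 1)) v ≠ 0) (w : V) :
    ∃ g : Module.End F V, Commute g f ∧ g v = w := by
  have h0 : (f ^ n) v = 0 := by rw [hf]; rfl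
  have hn0 : 0 < n := by
    rcases Nat.eq_zero_or_pos n with h | h
    · subst h
      exact absurd h0 h1
    · exact h
  obtain ⟨g, hg⟩ : ∃ g : Module.End F V, g = (cycBasis f n hn v h0 h1).constr F (fun i : Fin n => (f ^ (i : ℕ)) w) := ⟨_, rfl⟩
  have hgi : ∀ i : ℕ, g ((f ^ i) v) = (f ^ i) w := by
    intro i
    by_cases hi : i < n
    · have := (cycBasis f n hn v h0 h1).constr_basis F (fun i : Fin n => (f ^ (i : ℕ)) w) ⟨i, hi⟩
      rw [cycBasis_apply, ← hg] at this
      exact this
    · obtain ⟨e, rfl⟩ := Nat.exists_eq_add_of_le (not_lt.1 hi)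
      rw [add_comm, pow_add, hf, mul_zero]
      simp
  refine ⟨g, ?_, by simpa using hgi 0⟩
  apply (cycBasis f n hn v h0 h1).ext
  intro i
  have e1 : f ((f ^ (i : ℕ)) v) = (f ^ ((i : ℕ) + 1)) v := by rw [pow_succ']; rfl
  have e2 : f ((f ^ (i : ℕ)) w) = (f ^ ((i : ℕ) + 1)) w := by rw [pow_succ']; rfl
  rw [cycBasis_apply, Module.End.mul_apply, Module.End.mul_apply, hgi, e1, hgi, e2]

/-- An endomorphism commuting with regular nilpotent `f` is invertible iff it maps the cyclic vector
outside of `ker f^(n-1)`. -/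
theorem isUnit_iff_of_commute (f : Module.End F V) (n : ℕ) (hn : n = Module.finrank F V) (v : V)
    (hf : f ^ n = 0) (h1 : (f ^ (n - 1)) v ≠ 0) {g : Module.End F V} (hg : Commute g f) :
    IsUnit g ↔ (f ^ (n - 1)) (g v) ≠ 0 := by
  have h0 : (f ^ n) v = 0 := by rw [hf]; rfl
  have e : (f ^ (n - 1)) (g v) = g ((f ^ (n - 1)) v) := by
    rw [← Module.End.mul_apply, ← (hg.pow_right _).eq, Module.End.mul_apply]
  constructor
  · intro h h2
    rw [e] at h2
    have := ((Module.End.isUnit_iff g).1 h).1 (h2.trans (map_zero g).symm)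
    exact h1 this
  · intro h2
    have h0' : (f ^ n) (g v) = 0 := by rw [hf]; rfl
    obtain ⟨g', hg', hg'v⟩ := exists_commute_apply_eq f n hn (g v) hf h2 v
    have e1 : g' * g = 1 := by
      apply eq_of_commute_of_apply_eq f n hn v h0 h1 (hg'.mul_left hg) (Commute.one_left f)
      rw [Module.End.mul_apply, hg'v]; rfl
    have e2 : g * g' = 1 := by
      apply eq_of_commute_of_apply_eq f n hn (g v) h0' h2 (hg.mul_left hg') (Commute.one_left f)
      rw [Module.End.mul_apply, hg'v]; rfl
    exact ⟨⟨g, g', e2, e1⟩, rfl⟩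

/-- The number of units commuting with a regular nilpotent `f`. -/
theorem card_units_commute [Finite F] (f : Module.End F V) (n : ℕ) (hn : n = Module.finrank F V) (hn1 : 1 ≤ n)
    (hf : f ^ n = 0) (hk : Module.finrank F (LinearMap.ker f) ≤ 1) :
    Nat.card {g : (Module.End F V)ˣ // Commute (g : Module.End F V) f} = (Nat.card F - 1) * Nat.card F ^ (n - 1) := by
  obtain ⟨v, h1⟩ : ∃ v, (f ^ (n - 1)) v ≠ 0 := by
    subst hn; exact exists_cyclic_vector f hk hn1
  have h0 : (f ^ n) v = 0 := by rw [hf]; rfl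
  have hfinV : Finite V := Module.finite_of_finite F
  let φ : {g : (Module.End F V)ˣ // Commute (g : Module.End F V) f} → ((LinearMap.ker (f ^ (n - 1)) : Set V)ᶜ : Set V) :=
    fun g => ⟨(g.1 : Module.End F V) v, fun h => (isUnit_iff_of_commute f n hn v hf h1 g.2).1 g.1.isUnit h⟩
  have hφ : Function.Bijective φ := by
    constructor
    · intro g g' h
      have := eq_of_commute_of_apply_eq f n hn v h0 h1 g.2 g'.2 (congrArg Subtype.val h)
      exact Subtype.ext (Units.ext this)
    · rintro ⟨w, hw⟩
      obtain ⟨g, hg, hgv⟩ := exists_commute_apply_eq f n hn v hf h1 w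
      have hu : IsUnit g := (isUnit_iff_of_commute f n hn v hf h1 hg).2 (by rw [hgv]; exact hw)
      obtain ⟨u, rfl⟩ := hu
      exact ⟨⟨u, hg⟩, Subtype.ext hgv⟩
  rw [Nat.card_eq_of_bijective φ hφ, Nat.card_coe_set_eq, Set.ncard_compl, ← Nat.card_coe_set_eq]
  have hker : Module.finrank F (LinearMap.ker (f ^ (n - 1))) = n - 1 := by
    have h3 := finrank_ker_pow_le f (n - 1)
    have h4 : (n - 1) * Module.finrank F (LinearMap.ker f) ≤ (n - 1) * 1 := Nat.mul_le_mul_left _ hk
    have h5 := LinearMap.finrank_range_add_finrank_ker (f ^ (n - 1))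
    have h6 : Module.finrank F (LinearMap.range (f ^ (n - 1))) ≤ 1 := by
      have h7 : LinearMap.range (f ^ (n - 1)) ≤ LinearMap.ker f := by
        rintro _ ⟨x, rfl⟩
        rw [LinearMap.mem_ker, ← Module.End.mul_apply, ← pow_succ', Nat.sub_add_cancel hn1, hf]
        rfl
      exact (Submodule.finrank_mono h7).trans hk
    omega
  have e1 : Nat.card V = Nat.card F ^ n := by rw [hn]; exact Module.natCard_eq_pow_finrank (K := F)
  have e2 : Nat.card (LinearMap.ker (f ^ (n - 1))) = Nat.card F ^ (n - 1) := by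
    rw [Module.natCard_eq_pow_finrank (K := F), hker]
  change Nat.card V - Nat.card (LinearMap.ker (f ^ (n - 1))) = _
  rw [e1, e2, Nat.sub_one_mul]
  congr 1
  rw [← pow_succ', Nat.sub_add_cancel hn1]

end Cfsg.Agent.H43
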