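import Mathlib
import Cfsg.Agent.H43.Cyclic

set_option autoImplicit false
set_option linter.unusedSectionVars false

/-! More on regular nilpotent endomorphisms. -/

namespace Cfsg.Agent.H43

variable {F V : Type*} [Field F] [AddCommGroup V] [Module F V] [FiniteDimensional F V]

/-- A nilpotent endomorphism with `f^(n-1) ≠ 0` has kernel of dimension one. -/
theorem finrank_ker_eq_one (f : Module.End F V) (n : ℕ) (hn : n = Module.finrank F V) (hn1 : 1 ≤ n) (v : V)
    (h0 : f ^ n = 0) (h1 : (f ^ (n - 1)) v ≠ 0) : Module.finrank F (LinearMap.ker f) = 1 := by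
  obtain ⟨k, rfl⟩ : ∃ k, n = k + 1 := ⟨n - 1, by omega⟩
  rw [Nat.add_sub_cancel] at h1
  have hv0 : (f ^ (k + 1)) v = 0 := by rw [h0]; rfl
  have hli := linearIndependent_pow f (k + 1) v hv0 h1
  have hli2 : LinearIndependent F (fun i : Fin k => (f ^ ((i.succ : Fin (k + 1)) : ℕ)) v) :=
    hli.comp _ (Fin.succ_injective k)
  have hli3 : LinearIndependent F (fun i : Fin k => (⟨f ((f ^ (i : ℕ)) v), ⟨_, rfl⟩⟩ : LinearMap.range f)) := by
    apply LinearIndependent.of_comp (LinearMap.range f).subtype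
    have e : (fun i : Fin k => (f ^ ((i.succ : Fin (k + 1)) : ℕ)) v) =
        (LinearMap.range f).subtype ∘ (fun i : Fin k => (⟨f ((f ^ (i : ℕ)) v), ⟨_, rfl⟩⟩ : LinearMap.range f)) := by
      funext i
      rw [Fin.val_succ, pow_succ']
      rfl
    rw [← e]
    exact hli2
  have h2 := hli3.fintype_card_le_finrank
  rw [Fintype.card_fin] at h2
  have h3 := LinearMap.finrank_range_add_finrank_ker f
  have h4 : Module.finrank F (LinearMap.ker f) ≠ 0 := by
    intro h5
    rw [Submodule.finrank_eq_zero] at h5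
    have h6 : (f ^ k) v ∈ LinearMap.ker f := by
      rw [LinearMap.mem_ker, ← Module.End.mul_apply, ← pow_succ', h0]; rfl
    rw [h5] at h6
    exact h1 ((Submodule.mem_bot F).1 h6)
  omega

/-- Two regular nilpotent endomorphisms are conjugate. -/
theorem exists_conj_regular {W : Type*} [AddCommGroup W] [Module F W] [FiniteDimensional F W]
    (f : Module.End F V) (f' : Module.End F W) (n : ℕ) (hn : n = Module.finrank F V)
    (hn' : n = Module.finrank F W) (hn1 : 1 ≤ n) (hf : f ^ n = 0) (hf' : f' ^ n = 0)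
    (hk : Module.finrank F (LinearMap.ker f) ≤ 1) (hk' : Module.finrank F (LinearMap.ker f') ≤ 1) :
    ∃ g : V ≃ₗ[F] W, ∀ x, g (f x) = f' (g x) := by
  obtain ⟨v, h1⟩ : ∃ v, (f ^ (n - 1)) v ≠ 0 := by
    have := exists_cyclic_vector f hk (by omega)
    rwa [← hn] at this
  obtain ⟨v', h1'⟩ : ∃ v', (f' ^ (n - 1)) v' ≠ 0 := by
    have := exists_cyclic_vector f' hk' (by omega)
    rwa [← hn'] at this
  have h0 : (f ^ n) v = 0 := by rw [hf]; rfl
  have h0' : (f' ^ n) v' = 0 := by rw [hf']; rfl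
  obtain ⟨g, hg⟩ : ∃ g : V ≃ₗ[F] W, ∀ i : Fin n, g ((f ^ (i : ℕ)) v) = (f' ^ (i : ℕ)) v' := by
    refine ⟨(cycBasis f n hn v h0 h1).equiv (cycBasis f' n hn' v' h0' h1') (Equiv.refl _), ?_⟩
    intro i
    rw [← cycBasis_apply f n hn v h0 h1, Module.Basis.equiv_apply, Equiv.refl_apply, cycBasis_apply]
  have hg' : ∀ i : ℕ, g ((f ^ i) v) = (f' ^ i) v' := by
    intro i
    by_cases hi : i < n
    · exact hg ⟨i, hi⟩
    · obtain ⟨e, rfl⟩ := Nat.exists_eq_add_of_le (not_lt.1 hi)
      rw [add_comm, pow_add, pow_add, hf, hf', mul_zero, mul_zero]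
      simp
  refine ⟨g, ?_⟩
  have : (g : V →ₗ[F] W) ∘ₗ f = f' ∘ₗ (g : V →ₗ[F] W) := by
    apply (cycBasis f n hn v h0 h1).ext
    intro i
    rw [cycBasis_apply, LinearMap.comp_apply, LinearMap.comp_apply]
    have e1 : f ((f ^ (i : ℕ)) v) = (f ^ ((i : ℕ) + 1)) v := by rw [pow_succ']; rfl
    have e2 : f' ((f' ^ (i : ℕ)) v') = (f' ^ ((i : ℕ) + 1)) v' := by rw [pow_succ']; rfl
    rw [e1]
    change g _ = f' (g _)
    rw [hg', hg', e2]
  intro x
  exact LinearMap.congr_fun this x

/-- An endomorphism commuting with a regular nilpotent one is scalar plus nilpotent. -/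
theorem exists_scalar_add_nilpotent (f : Module.End F V) (n : ℕ) (hn : n = Module.finrank F V) (hn1 : 1 ≤ n)
    (hf : f ^ n = 0) (hk : Module.finrank F (LinearMap.ker f) ≤ 1) (c : Module.End F V) (hc : Commute c f) :
    ∃ (a : F) (h : Module.End F V), Commute h f ∧ c = algebraMap F (Module.End F V) a + f * h := by
  obtain ⟨v, h1⟩ : ∃ v, (f ^ (n - 1)) v ≠ 0 := by
    have := exists_cyclic_vector f hk (by omega)
    rwa [← hn] at this
  have h0 : (f ^ n) v = 0 := by rw [hf]; rfl
  obtain ⟨k, rfl⟩ : ∃ k, n = k + 1 := ⟨n - 1, by omega⟩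
  have hsum := (cycBasis f (k + 1) hn v h0 h1).sum_repr (c v)
  obtain ⟨b, hb⟩ : ∃ b : Fin (k + 1) → F, b = (cycBasis f (k + 1) hn v h0 h1).repr (c v) := ⟨_, rfl⟩
  rw [← hb] at hsum
  rw [Fin.sum_univ_succ] at hsum
  simp only [cycBasis_apply] at hsum
  obtain ⟨w, hw⟩ : ∃ w, w = ∑ i : Fin k, b i.succ • (f ^ (i : ℕ)) v := ⟨_, rfl⟩
  have hfw : f w = ∑ i : Fin k, b i.succ • (f ^ ((i.succ : Fin (k + 1)) : ℕ)) v := by
    rw [hw, map_sum]
    refine Finset.sum_congr rfl fun i _ => ?_
    rw [map_smul, Fin.val_succ, pow_succ']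
    rfl
  obtain ⟨h, hh, hhv⟩ := exists_commute_apply_eq f (k + 1) hn v hf h1 w
  refine ⟨b 0, h, hh, ?_⟩
  apply eq_of_commute_of_apply_eq f (k + 1) hn v h0 h1 hc
  · exact (show Commute (algebraMap F (Module.End F V) (b 0)) f from Algebra.commutes _ _).add_left
      ((Commute.refl f).mul_left hh)
  · rw [LinearMap.add_apply, Module.algebraMap_end_apply, Module.End.mul_apply, hhv, hfw, ← hsum]
    simp

theorem isNilpotent_sub (f : Module.End F V) (n : ℕ) (hf : f ^ n = 0) {c h : Module.End F V} {a : F} (hh : Commute h f)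
    (hc : c = algebraMap F (Module.End F V) a + f * h) : IsNilpotent (c - algebraMap F (Module.End F V) a) := by
  rw [hc, add_sub_cancel_left]
  refine ⟨n, ?_⟩
  rw [hh.symm.mul_pow, hf, zero_mul]

/-- Determinant of scalar plus nilpotent. -/
theorem det_scalar_add_nilpotent (a : F) (N : Module.End F V) (hN : IsNilpotent N) :
    LinearMap.det (algebraMap F (Module.End F V) a + N) = a ^ Module.finrank F V := by
  have h1 := (IsNilpotent.neg hN).charpoly_eq_X_pow_finrank
  have h2 := LinearMap.eval_charpoly (-N) a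
  rw [sub_neg_eq_add, h1, Polynomial.eval_pow, Polynomial.eval_X] at h2
  exact h2.symm

theorem det_commute_regular (f : Module.End F V) (n : ℕ) (hn : n = Module.finrank F V) (hn1 : 1 ≤ n)
    (hf : f ^ n = 0) (hk : Module.finrank F (LinearMap.ker f) ≤ 1) (c : Module.End F V) (hc : Commute c f) :
    ∃ a : F, LinearMap.det c = a ^ n := by
  obtain ⟨a, h, hh, rfl⟩ := exists_scalar_add_nilpotent f n hn hn1 hf hk c hc
  refine ⟨a, ?_⟩
  rw [det_scalar_add_nilpotent a (f * h), hn]
  exact ⟨n, by rw [hh.symm.mul_pow, hf, zero_mul]⟩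

section Shift

variable (n : ℕ) (F)

/-- The vector with a one in position `k` (zero if `k ≥ n`). -/
def eVec (k : ℕ) : Fin n → F := fun i => if (i : ℕ) = k then 1 else 0

/-- The lower shift matrix. -/
def shiftM : Matrix (Fin n) (Fin n) F := Matrix.of fun i j => if (i : ℕ) = (j : ℕ) + 1 then 1 else 0

theorem shiftM_mulVec (k : ℕ) (hk : k < n) : (shiftM F n).mulVec (eVec F n k) = eVec F n (k + 1) := by
  funext i
  unfold shiftM eVec Matrix.mulVec dotProduct
  rw [Finset.sum_eq_single (⟨k, hk⟩ : Fin n)]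
  · simp
  · intro j _ hj
    have : (j : ℕ) ≠ k := fun h => hj (Fin.ext h)
    simp [this]
  · intro h; exact absurd (Finset.mem_univ _) h

theorem eVec_eq_zero (k : ℕ) (hk : n ≤ k) : eVec F n k = 0 := by
  funext i
  unfold eVec
  have := i.2
  rw [if_neg (by omega)]
  rfl

/-- The shift endomorphism. -/
noncomputable def shiftE : Module.End F (Fin n → F) := Matrix.toLin' (shiftM F n)

theorem shiftE_eVec (k : ℕ) : shiftE F n (eVec F n k) = eVec F n (k + 1) := by
  by_cases hk : k < n
  · exact shiftM_mulVec F n k hk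
  · rw [eVec_eq_zero F n k (by omega), eVec_eq_zero F n (k + 1) (by omega), map_zero]

theorem shiftE_pow_eVec (j k : ℕ) : (shiftE F n ^ j) (eVec F n k) = eVec F n (k + j) := by
  induction j with
  | zero => simp
  | succ j ih => rw [pow_succ', Module.End.mul_apply, ih, shiftE_eVec]; rfl

theorem shiftE_pow : shiftE F n ^ n = 0 := by
  apply (Pi.basisFun F (Fin n)).ext
  intro j
  have e : (Pi.basisFun F (Fin n)) j = eVec F n j := by
    funext i
    rw [Pi.basisFun_apply]
    unfold eVec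
    rw [Pi.single_apply]
    simp only [Fin.ext_iff]
  rw [e, shiftE_pow_eVec, eVec_eq_zero F n _ (by omega)]
  rfl

theorem shiftE_finrank_ker (hn : 1 ≤ n) : Module.finrank F (LinearMap.ker (shiftE F n)) = 1 := by
  apply finrank_ker_eq_one (shiftE F n) n (by rw [Module.finrank_fintype_fun_eq_card, Fintype.card_fin]) hn (eVec F n 0)
    (shiftE_pow F n)
  rw [shiftE_pow_eVec]
  intro h
  have := congrFun h ⟨n - 1, by omega⟩
  unfold eVec at this
  simp at this

theorem shiftM_pow : shiftM F n ^ n = 0 := by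
  have h := shiftE_pow F n
  unfold shiftE at h
  rw [← Matrix.toLin'_pow] at h
  exact (Matrix.toLin' (R := F) (m := Fin n) (n := Fin n)).map_eq_zero_iff.1 h

theorem shiftM_rank (hn : 1 ≤ n) : (shiftM F n).rank = n - 1 := by
  have h1 := shiftE_finrank_ker F n hn
  have h2 := LinearMap.finrank_range_add_finrank_ker (shiftE F n)
  rw [h1, Module.finrank_fintype_fun_eq_card, Fintype.card_fin] at h2
  have h3 : (shiftM F n).rank = Module.finrank F (LinearMap.range (shiftE F n)) := rfl
  omega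

end Shift

end Cfsg.Agent.H43
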