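import Mathlib

set_option autoImplicit false

/-! Primary decomposition of an endomorphism via the structure theorem for modules over `F[X]`. -/

namespace Cfsg.Agent.H43

open Polynomial

universe u v

/-- Structure theorem for an endomorphism of a finite-dimensional vector space: `V` is isomorphic to a
finite product of `F[X]/(p_i^(e_i))` with `f` acting as multiplication by `X`. -/
theorem exists_decomp {F : Type u} {V : Type v} [Field F] [AddCommGroup V] [Module F V] [FiniteDimensional F V]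
    (f : Module.End F V) :
    ∃ (t : ℕ) (p : Fin t → F[X]) (e : Fin t → ℕ)
      (φ : V ≃ₗ[F] ((i : Fin t) → F[X] ⧸ Ideal.span {p i ^ e i})),
      (∀ i, Irreducible (p i)) ∧ ∀ v i, φ (f v) i = Ideal.Quotient.mk _ X * φ v i := by
  classical
  have htor : Module.IsTorsion F[X] (Module.AEval' f) :=
    Module.AEval.isTorsion_of_finiteDimensional F V f
  obtain ⟨ι, hι, p, hp, e, ⟨ψ⟩⟩ := Module.equiv_directSum_of_isTorsion htor
  let σ : Fin (Fintype.card ι) ≃ ι := (Fintype.equivFin ι).symm
  let ψ' : Module.AEval' f ≃ₗ[F[X]] ((i : ι) → F[X] ⧸ (Ideal.span {p i ^ e i})) :=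
    ψ.trans (DirectSum.linearEquivFunOnFintype F[X] ι _)
  let ψ'' : Module.AEval' f ≃ₗ[F[X]] ((i : Fin (Fintype.card ι)) → F[X] ⧸ (Ideal.span {p (σ i) ^ e (σ i)})) :=
    ψ'.trans (LinearEquiv.piCongrLeft F[X] (fun i : ι => F[X] ⧸ (Ideal.span {p i ^ e i})) σ).symm
  refine ⟨Fintype.card ι, fun i => p (σ i), fun i => e (σ i), (Module.AEval'.of f).trans (ψ''.restrictScalars F), fun i => hp _, ?_⟩
  intro v i
  have h1 : Module.AEval'.of f (f v) = (X : F[X]) • Module.AEval'.of f v := (Module.AEval'.X_smul_of f v).symm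
  change ψ'' (Module.AEval'.of f (f v)) i = Ideal.Quotient.mk (Ideal.span {p (σ i) ^ e (σ i)}) X * ψ'' (Module.AEval'.of f v) i
  rw [h1, map_smul, Pi.smul_apply]
  obtain ⟨y, hy⟩ := Ideal.Quotient.mk_surjective (ψ'' (Module.AEval'.of f v) i)
  rw [← hy, ← map_mul]
  rfl

end Cfsg.Agent.H43
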