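import Mathlib

set_option autoImplicit false
set_option linter.unusedSectionVars false
set_option linter.unusedVariables false

/-! Hilbert 90 and surjectivity of the norm for finite commutative rings with an involution. -/

namespace Cfsg.Agent.H43

/-- Some power of an element of a finite monoid is idempotent. -/
theorem exists_idem_pow {R : Type*} [CommRing R] [Finite R] (d : R) : ∃ n : ℕ, 1 ≤ n ∧ d ^ n * d ^ n = d ^ n := by
  obtain ⟨i, j, hij, h⟩ : ∃ i j : ℕ, i ≠ j ∧ d ^ i = d ^ j := by
    by_contra hc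
    push Not at hc
    have hinj : Function.Injective (fun n : ℕ => d ^ n) := by
      intro i j hij
      by_contra hne
      exact hc i j hne hij
    exact not_injective_infinite_finite _ hinj
  wlog hlt : i < j generalizing i j
  · exact this j i hij.symm h.symm (by omega)
  obtain ⟨k, rfl⟩ := Nat.exists_eq_add_of_lt hlt
  -- d^(i + a (k+1)) = d^i for all a
  have h1 : ∀ a b : ℕ, d ^ (i + b + a * (k + 1)) = d ^ (i + b) := by
    intro a
    induction a with
    | zero => intro b; simp
    | succ a ih =>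
      intro b
      have e : i + b + (a + 1) * (k + 1) = i + (b + (k + 1)) + a * (k + 1) := by ring
      rw [e, ih, show i + (b + (k + 1)) = (i + k + 1) + b by ring, pow_add, ← h, ← pow_add]
  refine ⟨(i + 1) * (k + 1), by nlinarith, ?_⟩
  obtain ⟨b, hb⟩ : ∃ b, (i + 1) * (k + 1) = i + b := ⟨(i + 1) * (k + 1) - i, by
    have : i ≤ (i + 1) * (k + 1) := by nlinarith
    omega⟩
  rw [← pow_add]
  have := h1 (i + 1) b
  rw [← hb] at this
  exact this

theorem idem_eq_zero_of_nilpotent {R : Type*} [CommRing R] {e : R} (he : e * e = e) (h : IsNilpotent e) : e = 0 := by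
  obtain ⟨k, hk⟩ := h
  have : ∀ n : ℕ, e ^ (n + 1) = e := by
    intro n
    induction n with
    | zero => simp
    | succ n ih => rw [pow_succ, ih, he]
  have h2 : e ^ (k + 1) = 0 := by rw [pow_succ, hk, zero_mul]
  rw [this] at h2
  exact h2

variable {R : Type*} [CommRing R] [Finite R] (τ : R →+* R) (hτ : ∀ x, τ (τ x) = x)
include hτ

/-- Hilbert 90 -/
theorem hilbert90 (t : R) (ht : IsUnit (t - τ t)) (s : R) (hs : s * τ s = 1) : ∃ y : R, IsUnit y ∧ y = s * τ y := by
  classical
  -- elements with `y = s * τ y`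
  obtain ⟨x, hx, hmax⟩ : ∃ x : R, x = s * τ x ∧ ∀ y : R, y = s * τ y →
      ∀ ex ey : R, ex * ex = ex → ey * ey = ey → (∃ n, 1 ≤ n ∧ ex = x ^ n) → (∃ n, 1 ≤ n ∧ ey = y ^ n) →
      Nat.card (Ideal.span {ey}) ≤ Nat.card (Ideal.span {ex}) := by
    have hfin : Finite {x : R // x = s * τ x} := inferInstance
    have hne : Nonempty {x : R // x = s * τ x} := ⟨⟨0, by simp⟩⟩
    choose N hN1 hN2 using fun d : R => exists_idem_pow d
    obtain ⟨x, hx⟩ := Finite.exists_max (fun x : {x : R // x = s * τ x} => Nat.card (Ideal.span {x.1 ^ N x.1}))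
    refine ⟨x.1, x.2, ?_⟩
    intro y hy ex ey hex hey hx' hy'
    have huniq : ∀ (z e e' : R), e * e = e → e' * e' = e' → (∃ n, 1 ≤ n ∧ e = z ^ n) → (∃ n, 1 ≤ n ∧ e' = z ^ n) → e = e' := by
      rintro z e e' he he' ⟨n, hn, rfl⟩ ⟨m, hm, rfl⟩
      have hpow : ∀ (w : R), w * w = w → ∀ k : ℕ, 1 ≤ k → w ^ k = w := by
        intro w hw k hk
        obtain ⟨k, rfl⟩ := Nat.exists_eq_add_of_le hk
        induction k with
        | zero => simp
        | succ k ih => rw [← add_assoc, pow_succ, ih (by omega), hw]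
      rw [← hpow _ he m hm, ← hpow _ he' n hn, ← pow_mul, ← pow_mul, mul_comm]
    rw [huniq x.1 ex (x.1 ^ N x.1) hex (hN2 _) hx' ⟨_, hN1 _, rfl⟩,
      huniq y ey (y ^ N y) hey (hN2 _) hy' ⟨_, hN1 _, rfl⟩]
    exact hx ⟨y, hy⟩
  obtain ⟨n, hn, he⟩ := exists_idem_pow x
  obtain ⟨e, hed⟩ : ∃ e, e = x ^ n := ⟨_, rfl⟩
  rw [← hed] at he
  have hτe : τ e = e := by
    -- e = s^n τ(e)
    have h1 : e = s ^ n * τ e := by
      conv_lhs => rw [hed, hx]
      rw [mul_pow, ← map_pow, ← hed]
    have h2 : τ e * τ e = τ e := by rw [← map_mul, he]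
    have h3 : e * τ e = e := by
      conv_lhs => enter [1]; rw [h1]
      rw [mul_assoc, h2]
      exact h1.symm
    have h4 : τ e * e = τ e := by
      have := congrArg τ h3
      rw [map_mul, hτ] at this
      exact this
    rw [← h4, mul_comm, h3]
  by_cases hf : 1 - e = 0
  · refine ⟨x, ?_, hx⟩
    have h1 : x ^ n = 1 := by rw [← hed]; exact (sub_eq_zero.1 hf).symm
    exact IsUnit.of_pow_eq_one h1 (by omega)
  · exfalso
    have hff : (1 - e) * (1 - e) = 1 - e := by ring_nf; rw [pow_two, he]; ring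
    have hτf : τ (1 - e) = 1 - e := by rw [map_sub, map_one, hτe]
    -- find z
    obtain ⟨z, hz⟩ : ∃ z : R, ¬ IsNilpotent ((1 - e) * (z + s * τ z)) := by
      by_contra hc
      push Not at hc
      have h1 := hc 1
      have h2 := hc t
      have h3 : IsNilpotent ((1 - e) * (t - τ t)) := by
        have e1 : (1 - e) * (t - τ t) = (1 - e) * (t + s * τ t) - τ t * ((1 - e) * (1 + s * τ 1)) := by
          rw [map_one]; ring
        rw [e1]
        exact (Commute.all _ _).isNilpotent_sub h2 ((Commute.all _ _).isNilpotent_mul_left h1)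
      obtain ⟨w, hw⟩ := ht
      have h4 : IsNilpotent (1 - e) := by
        have : 1 - e = (1 - e) * (t - τ t) * (w⁻¹ : Rˣ) := by
          rw [mul_assoc, ← hw, Units.mul_inv, mul_one]
        rw [this]
        exact (Commute.all _ _).isNilpotent_mul_right h3
      exact hf (idem_eq_zero_of_nilpotent hff h4)
    obtain ⟨d, hd⟩ : ∃ d, d = z + s * τ z := ⟨_, rfl⟩
    rw [← hd] at hz
    have hds : d = s * τ d := by
      rw [hd, map_add, map_mul, hτ, mul_add, ← mul_assoc, hs, one_mul, add_comm]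
    obtain ⟨y, hy⟩ : ∃ y, y = e * x + (1 - e) * d := ⟨_, rfl⟩
    have hys : y = s * τ y := by
      rw [hy, map_add, map_mul, map_mul, hτe, hτf]
      have e1 : s * (e * τ x + (1 - e) * τ d) = e * (s * τ x) + (1 - e) * (s * τ d) := by ring
      rw [e1, ← hx, ← hds]
    obtain ⟨m, hm, hm2⟩ := exists_idem_pow y
    have h1 := hmax y hys e (y ^ m) he hm2 ⟨n, hn, hed⟩ ⟨m, hm, rfl⟩
    -- contradiction
    have hey : e * y = e * x := by
      rw [hy]
      have : e * (e * x + (1 - e) * d) = (e * e) * x + (e - e * e) * d := by ring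
      rw [this, he]; ring
    have hfy : (1 - e) * y = (1 - e) * d := by
      rw [hy]
      have : (1 - e) * (e * x + (1 - e) * d) = (e - e * e) * x + ((1 - e) * (1 - e)) * d := by ring
      rw [this, he, hff]; ring
    have hpow : ∀ (w : R), w * w = w → ∀ k : ℕ, 1 ≤ k → w ^ k = w := by
      intro w hw k hk
      obtain ⟨k, rfl⟩ := Nat.exists_eq_add_of_le hk
      induction k with
      | zero => simp
      | succ k ih => rw [← add_assoc, pow_succ, ih (by omega), hw]
    have h2 : e * y ^ m = e := by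
      -- e y^m = e x^m, and e = e^... 
      have h3 : e * y ^ m = e * x ^ m := by
        have h4 : (e * y) ^ m = (e * x) ^ m := by rw [hey]
        rw [mul_pow, mul_pow, hpow e he m hm] at h4
        exact h4
      have h5 : (y ^ m) ^ n = y ^ m := hpow _ hm2 n hn
      have h6 : e * y ^ m = e * (x ^ n) ^ m := by
        calc e * y ^ m = e ^ n * (y ^ m) ^ n := by rw [h5, hpow e he n hn]
          _ = (e * y ^ m) ^ n := by rw [mul_pow]
          _ = (e * x ^ m) ^ n := by rw [h3]
          _ = e ^ n * (x ^ n) ^ m := by rw [mul_pow, ← pow_mul, ← pow_mul, mul_comm m n]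
          _ = e * (x ^ n) ^ m := by rw [hpow e he n hn]
      rw [h6, ← hed, hpow e he m hm, he]
    have h3 : (1 - e) * y ^ m ≠ 0 := by
      intro h4
      apply hz
      refine ⟨m, ?_⟩
      rw [← hfy, mul_pow, hpow _ hff m hm, h4]
    have h4 : Ideal.span {e} < Ideal.span {y ^ m} := by
      refine lt_of_le_of_ne ?_ ?_
      · rw [Ideal.span_singleton_le_iff_mem, Ideal.mem_span_singleton]
        exact ⟨e, by rw [mul_comm]; exact h2.symm⟩
      · intro h5
        have h6 : y ^ m ∈ Ideal.span {e} := by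
          rw [h5]; exact Ideal.mem_span_singleton_self _
        rw [Ideal.mem_span_singleton] at h6
        obtain ⟨r, hr⟩ := h6
        apply h3
        rw [hr]
        have : (1 - e) * (e * r) = (e - e * e) * r := by ring
        rw [this, he]; ring
    have h5 : Nat.card (Ideal.span {e}) < Nat.card (Ideal.span {y ^ m}) := by
      have := Set.ncard_lt_ncard (SetLike.coe_ssubset_coe.2 h4) (Set.toFinite _)
      exact this
    omega

/-- The norm is surjective onto the fixed units. -/
theorem norm_surj (t : R) (ht : IsUnit (t - τ t)) (u : R) (hu : IsUnit u) (huτ : τ u = u) :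
    ∃ c : R, IsUnit c ∧ c * τ c = u := by
  classical
  obtain ⟨T, hT⟩ : ∃ T : Rˣ →* Rˣ, T = Units.map (τ : R →* R) := ⟨_, rfl⟩
  have hTv : ∀ x : Rˣ, ((T x : Rˣ) : R) = τ (x : R) := by intro x; rw [hT]; rfl
  have hfin : Finite Rˣ := inferInstance
  obtain ⟨N, hN⟩ : ∃ N : Rˣ →* Rˣ, ∀ x, N x = x * T x := ⟨MonoidHom.id Rˣ * T, fun x => rfl⟩
  obtain ⟨D, hD⟩ : ∃ D : Rˣ →* Rˣ, ∀ x, D x = x * (T x)⁻¹ := ⟨MonoidHom.id Rˣ * T⁻¹, fun x => rfl⟩
  have hTT : ∀ x, T (T x) = x := by
    intro x
    apply Units.ext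
    rw [hTv, hTv, hτ]
  have h1 : N.ker = D.range := by
    ext x
    rw [MonoidHom.mem_ker, MonoidHom.mem_range]
    constructor
    · intro hx
      rw [hN] at hx
      have hx' : (x : R) * τ (x : R) = 1 := by
        have := congrArg Units.val hx
        rw [Units.val_mul, hTv] at this
        exact this
      obtain ⟨y, hy, hyx⟩ := hilbert90 τ hτ t ht (x : R) hx'
      obtain ⟨y, rfl⟩ := hy
      refine ⟨y, ?_⟩
      rw [hD, mul_inv_eq_iff_eq_mul]
      apply Units.ext
      rw [Units.val_mul, hTv]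
      exact hyx
    · rintro ⟨y, rfl⟩
      rw [hN, hD, map_mul, map_inv, hTT]
      group
  have h2 : N.range ≤ D.ker := by
    rintro _ ⟨x, rfl⟩
    rw [MonoidHom.mem_ker, hD, hN, map_mul, hTT, mul_comm (T x) x, mul_inv_cancel]
  have c1 : Nat.card N.range * Nat.card N.ker = Nat.card Rˣ := by
    rw [← Subgroup.index_ker, Subgroup.index_mul_card]
  have c2 : Nat.card D.range * Nat.card D.ker = Nat.card Rˣ := by
    rw [← Subgroup.index_ker, Subgroup.index_mul_card]
  have h3 : N.range = D.ker := by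
    apply Subgroup.eq_of_le_of_card_ge h2
    rw [h1] at c1
    have hpos : 0 < Nat.card D.range := Nat.card_pos
    have : Nat.card D.range * Nat.card N.range = Nat.card D.range * Nat.card D.ker := by
      rw [c2, ← c1, mul_comm]
    exact (Nat.eq_of_mul_eq_mul_left hpos this).ge
  obtain ⟨u, rfl⟩ := hu
  have h4 : u ∈ D.ker := by
    rw [MonoidHom.mem_ker, hD, mul_inv_eq_one]
    apply Units.ext
    rw [hTv, huτ]
  rw [← h3] at h4
  obtain ⟨c, hc⟩ := h4
  refine ⟨c, c.isUnit, ?_⟩
  rw [← hTv, ← Units.val_mul, ← hN, hc]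

end Cfsg.Agent.H43
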