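import Mathlib
import Cfsg.Agent.H43.Decomp
import Cfsg.Agent.H43.Cyclic

set_option autoImplicit false
set_option linter.unusedSectionVars false
set_option linter.unusedVariables false

/-! Jordan bases of nilpotent endomorphisms. -/

namespace Cfsg.Agent.H43

open Polynomial

universe u v

section def_
variable {F : Type*} {V : Type*} [Field F] [AddCommGroup V] [Module F V]

/-- `b` is a Jordan basis of `N` with block sizes `d`. -/
def JB {ι : Type*} (N : Module.End F V) (d : ι → ℕ) (b : Module.Basis ((k : ι) × Fin (d k)) F V) : Prop :=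
  ∀ (k : ι) (i : Fin (d k)), N (b ⟨k, i⟩) = if h : (i : ℕ) + 1 < d k then b ⟨k, ⟨(i : ℕ) + 1, h⟩⟩ else 0

theorem JB.pow {ι : Type*} {N : Module.End F V} {d : ι → ℕ} {b : Module.Basis ((k : ι) × Fin (d k)) F V} (h : JB N d b)
    (j : ℕ) (k : ι) (i : Fin (d k)) :
    (N ^ j) (b ⟨k, i⟩) = if h : (i : ℕ) + j < d k then b ⟨k, ⟨(i : ℕ) + j, h⟩⟩ else 0 := by
  induction j with
  | zero =>
    have := i.2
    rw [dif_pos (by omega)]
    rfl
  | succ j ih =>
    rw [pow_succ', Module.End.mul_apply, ih]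
    by_cases h1 : (i : ℕ) + j < d k
    · rw [dif_pos h1, h]
      by_cases h2 : (i : ℕ) + j + 1 < d k
      · rw [dif_pos h2, dif_pos (by omega)]
        rfl
      · rw [dif_neg h2, dif_neg (by omega)]
    · rw [dif_neg h1, dif_neg (by omega), map_zero]

theorem JB.pow_zero {ι : Type*} {N : Module.End F V} {d : ι → ℕ} {b : Module.Basis ((k : ι) × Fin (d k)) F V} (h : JB N d b)
    (j : ℕ) (hj : ∀ k, d k ≤ j) : N ^ j = 0 := by
  apply b.ext
  rintro ⟨k, i⟩
  rw [h.pow, dif_neg (by have := hj k; omega)]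
  rfl

/-- change of the index -/
theorem JB.reindex {ι ι' : Type*} {N : Module.End F V} {d : ι → ℕ} {b : Module.Basis ((k : ι) × Fin (d k)) F V} (h : JB N d b)
    {d' : ι' → ℕ} (σ : ι ≃ ι') (hσ : ∀ k, d' (σ k) = d k) :
    ∃ b' : Module.Basis ((k : ι') × Fin (d' k)) F V, JB N d' b' := by
  obtain ⟨τ, rfl⟩ : ∃ τ : ι' ≃ ι, τ.symm = σ := ⟨σ.symm, rfl⟩
  obtain rfl : d' = fun k => d (τ k) := by
    funext k
    have := hσ (τ k)
    rw [Equiv.symm_apply_apply] at this
    exact this
  let E : ((k : ι') × Fin (d (τ k))) ≃ ((k : ι) × Fin (d k)) := Equiv.sigmaCongrLeft (β := fun k => Fin (d k)) τ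
  refine ⟨b.reindex E.symm, ?_⟩
  intro k i
  have hE : ∀ (k : ι') (i : Fin (d (τ k))), (b.reindex E.symm) ⟨k, i⟩ = b ⟨τ k, i⟩ := by
    intro k i
    rw [Module.Basis.reindex_apply, Equiv.symm_symm]
    rfl
  rw [hE, h]
  by_cases h1 : (i : ℕ) + 1 < d (τ k)
  · rw [dif_pos h1, dif_pos h1, hE]
  · rw [dif_neg h1, dif_neg h1]

/-- transport along an equivalence -/
theorem JB.map {ι W : Type*} [AddCommGroup W] [Module F W] {N : Module.End F V} {d : ι → ℕ}
    {b : Module.Basis ((k : ι) × Fin (d k)) F V} (h : JB N d b) (g : V ≃ₗ[F] W) {N' : Module.End F W}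
    (hg : ∀ x, g (N x) = N' (g x)) : JB N' d (b.map g) := by
  intro k i
  rw [Module.Basis.map_apply, ← hg, h]
  by_cases h1 : (i : ℕ) + 1 < d k
  · rw [dif_pos h1, dif_pos h1, Module.Basis.map_apply]
  · rw [dif_neg h1, dif_neg h1, map_zero]

/-- Endomorphisms with the same Jordan type are conjugate. -/
theorem JB.exists_conj {ι W : Type*} [AddCommGroup W] [Module F W] {N : Module.End F V} {N' : Module.End F W} {d : ι → ℕ}
    {b : Module.Basis ((k : ι) × Fin (d k)) F V} (h : JB N d b)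
    {b' : Module.Basis ((k : ι) × Fin (d k)) F W} (h' : JB N' d b') :
    ∃ g : V ≃ₗ[F] W, ∀ x, g (N x) = N' (g x) := by
  refine ⟨b.equiv b' (Equiv.refl _), ?_⟩
  have : ((b.equiv b' (Equiv.refl _) : V ≃ₗ[F] W) : V →ₗ[F] W) ∘ₗ N = N' ∘ₗ ((b.equiv b' (Equiv.refl _) : V ≃ₗ[F] W) : V →ₗ[F] W) := by
    apply b.ext
    rintro ⟨k, i⟩
    rw [LinearMap.comp_apply, LinearMap.comp_apply, h]
    change (b.equiv b' (Equiv.refl _)) _ = N' ((b.equiv b' (Equiv.refl _)) _)
    rw [Module.Basis.equiv_apply, Equiv.refl_apply, h']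
    by_cases h1 : (i : ℕ) + 1 < d k
    · rw [dif_pos h1, dif_pos h1, Module.Basis.equiv_apply, Equiv.refl_apply]
    · rw [dif_neg h1, dif_neg h1, map_zero]
  intro x
  exact LinearMap.congr_fun this x

end def_

section exist

variable {F : Type u} {V : Type v} [Field F] [AddCommGroup V] [Module F V] [FiniteDimensional F V]

/-- A cyclic space for a nilpotent endomorphism. -/
theorem exists_cyclic_basis (f : Module.End F V) (hf : IsNilpotent f) (v : V)
    (hv : Submodule.span F (Set.range (fun j : ℕ => (f ^ j) v)) = ⊤) :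
    ∃ (d : ℕ) (b : Module.Basis (Fin d) F V), (∀ i : Fin d, b i = (f ^ (i : ℕ)) v) ∧ (f ^ d) v = 0 := by
  classical
  have hex : ∃ n, (f ^ n) v = 0 := by
    obtain ⟨n, hn⟩ := hf
    exact ⟨n, by rw [hn]; rfl⟩
  obtain ⟨d, hd, hmin⟩ : ∃ d, (f ^ d) v = 0 ∧ ∀ m < d, (f ^ m) v ≠ 0 := ⟨Nat.find hex, Nat.find_spec hex, fun m hm => Nat.find_min hex hm⟩
  have hli : LinearIndependent F (fun i : Fin d => (f ^ (i : ℕ)) v) := by
    rcases Nat.eq_zero_or_pos d with h0 | h0
    · subst h0
      exact linearIndependent_empty_type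
    · exact linearIndependent_pow f d v hd (hmin _ (by omega))
  have hsp : ⊤ ≤ Submodule.span F (Set.range (fun i : Fin d => (f ^ (i : ℕ)) v)) := by
    rw [← hv, Submodule.span_le]
    rintro _ ⟨j, rfl⟩
    by_cases hj : j < d
    · exact Submodule.subset_span ⟨⟨j, hj⟩, rfl⟩
    · obtain ⟨e, rfl⟩ := Nat.exists_eq_add_of_le (not_lt.1 hj)
      have : (f ^ (d + e)) v = 0 := by
        rw [add_comm, pow_add, Module.End.mul_apply, hd, map_zero]
      simp only [this]
      exact Submodule.zero_mem _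
  refine ⟨d, Module.Basis.mk hli hsp, ?_, hd⟩
  intro i
  rw [Module.Basis.mk_apply]

/-- Existence of a Jordan basis. -/
theorem exists_JB (N : Module.End F V) (hN : IsNilpotent N) :
    ∃ (t : ℕ) (d : Fin t → ℕ) (b : Module.Basis ((k : Fin t) × Fin (d k)) F V), (∀ k, 1 ≤ d k) ∧ JB N d b := by
  classical
  obtain ⟨t, p, e, φ, hp, hφ⟩ := exists_decomp N
  -- the multiplication by X on each factor
  have hfin : ∀ i, FiniteDimensional F (F[X] ⧸ Ideal.span {p i ^ e i}) := by
    intro i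
    exact Module.Finite.of_surjective ((LinearMap.proj (R := F) (φ := fun i : Fin t => F[X] ⧸ Ideal.span {p i ^ e i}) i) ∘ₗ (φ : V →ₗ[F] _))
      ((Function.surjective_eval i).comp φ.surjective)
  let f : ∀ i : Fin t, Module.End F (F[X] ⧸ Ideal.span {p i ^ e i}) := fun i => LinearMap.mulLeft F (Ideal.Quotient.mk _ X)
  have hfa : ∀ i x, f i x = Ideal.Quotient.mk _ X * x := fun i x => rfl
  have hφpow : ∀ (j : ℕ) v i, φ ((N ^ j) v) i = (f i ^ j) (φ v i) := by
    intro j
    induction j with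
    | zero => intro v i; rfl
    | succ j ih =>
      intro v i
      rw [pow_succ, Module.End.mul_apply, ih, hφ, pow_succ, Module.End.mul_apply, hfa]
  have hnil : ∀ i, IsNilpotent (f i) := by
    intro i
    obtain ⟨n, hn⟩ := hN
    refine ⟨n, ?_⟩
    apply LinearMap.ext
    intro x
    obtain ⟨v, hv⟩ := ((Function.surjective_eval i).comp φ.surjective) x
    rw [← hv]
    change (f i ^ n) (φ v i) = 0
    rw [← hφpow, hn]
    simp
  have hcyc : ∀ i, Submodule.span F (Set.range (fun j : ℕ => (f i ^ j) (1 : F[X] ⧸ Ideal.span {p i ^ e i}))) = ⊤ := by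
    intro i
    rw [eq_top_iff]
    intro x _
    obtain ⟨q, rfl⟩ := Ideal.Quotient.mk_surjective x
    have hpw : ∀ j : ℕ, (f i ^ j) (1 : F[X] ⧸ Ideal.span {p i ^ e i}) = Ideal.Quotient.mk _ (X ^ j) := by
      intro j
      induction j with
      | zero => simp
      | succ j ih => rw [pow_succ', Module.End.mul_apply, ih, hfa, ← map_mul, pow_succ']
    have hq : Ideal.Quotient.mk (Ideal.span {p i ^ e i}) q = ∑ j ∈ q.support, q.coeff j • (f i ^ j) (1 : F[X] ⧸ Ideal.span {p i ^ e i}) := by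
      conv_lhs => rw [Polynomial.as_sum_support_C_mul_X_pow q]
      rw [map_sum]
      refine Finset.sum_congr rfl fun j _ => ?_
      rw [hpw, ← Polynomial.smul_eq_C_mul]
      rfl
    rw [hq]
    exact Submodule.sum_mem _ fun j _ => Submodule.smul_mem _ _ (Submodule.subset_span ⟨j, rfl⟩)
  choose d b hb hd using fun i => exists_cyclic_basis (f i) (hnil i) 1 (hcyc i)
  -- product basis
  let B : Module.Basis ((i : Fin t) × Fin (d i)) F V := (Pi.basis b).map φ.symm
  have hB : ∀ k i, B ⟨k, i⟩ = φ.symm (Pi.single k ((f k ^ (i : ℕ)) 1)) := by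
    intro k i
    change φ.symm ((Pi.basis b) ⟨k, i⟩) = _
    rw [Pi.basis_apply, hb]
  have hJB : JB N d B := by
    intro k i
    rw [hB]
    have h1 : N (φ.symm (Pi.single k ((f k ^ (i : ℕ)) 1))) = φ.symm (Pi.single k ((f k ^ ((i : ℕ) + 1)) 1)) := by
      apply φ.injective
      rw [LinearEquiv.apply_symm_apply]
      funext l
      rw [hφ, LinearEquiv.apply_symm_apply]
      by_cases hl : l = k
      · subst hl
        rw [Pi.single_eq_same, Pi.single_eq_same, pow_succ', Module.End.mul_apply, hfa]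
      · rw [Pi.single_eq_of_ne hl, Pi.single_eq_of_ne hl, mul_zero]
    rw [h1]
    by_cases h2 : (i : ℕ) + 1 < d k
    · rw [dif_pos h2, hB]
    · have h3 : (i : ℕ) + 1 = d k := by have := i.2; omega
      rw [dif_neg h2, h3, hd]
      simp
  -- remove blocks of size zero
  let ι := {k : Fin t // d k ≠ 0}
  let E : ((k : Fin t) × Fin (d k)) ≃ ((k : ι) × Fin (d k.1)) :=
    { toFun := fun x => ⟨⟨x.1, by have := x.2.2; omega⟩, x.2⟩
      invFun := fun x => ⟨x.1.1, x.2⟩
      left_inv := fun x => rfl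
      right_inv := fun x => rfl }
  have hJB2 : JB N (fun k : ι => d k.1) (B.reindex E) := by
    intro k i
    have hE : ∀ (k : ι) (i : Fin (d k.1)), (B.reindex E) ⟨k, i⟩ = B ⟨k.1, i⟩ := by
      intro k i
      rw [Module.Basis.reindex_apply]
      rfl
    rw [hE, hJB]
    by_cases h1 : (i : ℕ) + 1 < d k.1
    · rw [dif_pos h1, dif_pos h1, hE]
    · rw [dif_neg h1, dif_neg h1]
  obtain ⟨b', hb'⟩ := hJB2.reindex (d' := fun k => d ((Fintype.equivFin ι).symm k).1) (Fintype.equivFin ι) (by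
    intro k
    simp)
  exact ⟨_, _, b', fun k => Nat.one_le_iff_ne_zero.2 ((Fintype.equivFin ι).symm k).2, hb'⟩

end exist

end Cfsg.Agent.H43
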