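import Mathlib

set_option autoImplicit false

/-! Transfer between matrices and endomorphisms. -/

namespace Cfsg.Agent.H43

variable {F : Type*} [Field F] {ι : Type*} [Fintype ι] [DecidableEq ι]

/-- `GL ι F` as units of the endomorphism ring of `ι → F`. -/
noncomputable def glEnd : GL ι F ≃* (Module.End F (ι → F))ˣ :=
  Units.mapEquiv (Matrix.toLinAlgEquiv' (R := F) (n := ι)).toMulEquiv

theorem glEnd_coe (g : GL ι F) : ((glEnd g : (Module.End F (ι → F))ˣ) : Module.End F (ι → F)) =
    Matrix.toLin' (g : Matrix ι ι F) := rfl

theorem glEnd_apply (g : GL ι F) (v : ι → F) :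
    ((glEnd g : (Module.End F (ι → F))ˣ) : Module.End F (ι → F)) v = (g : Matrix ι ι F).mulVec v := rfl

theorem toLin'_mul_eq (A B : Matrix ι ι F) :
    Matrix.toLin' (A * B) = (Matrix.toLin' A : Module.End F (ι → F)) * (Matrix.toLin' B : Module.End F (ι → F)) :=
  Matrix.toLin'_mul A B

theorem commute_toLin'_iff (A B : Matrix ι ι F) :
    Commute (Matrix.toLin' A : Module.End F (ι → F)) (Matrix.toLin' B : Module.End F (ι → F)) ↔ A * B = B * A := by
  unfold Commute SemiconjBy
  rw [← toLin'_mul_eq, ← toLin'_mul_eq]
  exact (Matrix.toLin' (R := F) (m := ι) (n := ι)).injective.eq_iff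

/-- Invertible matrices commuting with `A` correspond to units of the endomorphism ring commuting with
`toLin' A`. -/
theorem card_gl_commute (A : Matrix ι ι F) :
    Nat.card {g : GL ι F // (g : Matrix ι ι F) * A = A * (g : Matrix ι ι F)} =
      Nat.card {g : (Module.End F (ι → F))ˣ // Commute (g : Module.End F (ι → F)) (Matrix.toLin' A)} := by
  refine Nat.card_congr (Equiv.subtypeEquiv glEnd.toEquiv ?_)
  intro g
  rw [← commute_toLin'_iff]
  rfl

theorem card_centralizer (u : GL ι F) :
    Nat.card ↥(Subgroup.centralizer ({u} : Set (GL ι F))) =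
      Nat.card {g : (Module.End F (ι → F))ˣ // Commute (g : Module.End F (ι → F)) (Matrix.toLin' (u : Matrix ι ι F))} := by
  rw [← card_gl_commute]
  refine Nat.card_congr (Equiv.subtypeEquiv (Equiv.refl _) ?_)
  intro g
  rw [Subgroup.mem_centralizer_singleton_iff]
  constructor
  · intro h
    have := congrArg (fun x : GL ι F => (x : Matrix ι ι F)) h
    exact this
  · intro h
    exact Units.ext h

theorem commute_sub_one_iff {A : Type*} [Ring A] (g u : A) : Commute g (u - 1) ↔ Commute g u := by
  constructor
  · intro h
    have := h.add_right (Commute.one_right g)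
    simpa using this
  · intro h
    exact h.sub_right (Commute.one_right g)

theorem toLin'_sub_one (A : Matrix ι ι F) :
    (Matrix.toLin' (A - 1) : Module.End F (ι → F)) = (Matrix.toLin' A : Module.End F (ι → F)) - 1 := by
  rw [map_sub, Matrix.toLin'_one]
  rfl

theorem finrank_ker_toLin' (A : Matrix ι ι F) :
    A.rank + Module.finrank F (LinearMap.ker (Matrix.toLin' A)) = Fintype.card ι := by
  have h := LinearMap.finrank_range_add_finrank_ker (Matrix.toLin' A)
  rw [Module.finrank_fintype_fun_eq_card] at h
  exact h

end Cfsg.Agent.H43
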