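import Mathlib
import Cfsg.Agent.H43.Jordan
import Cfsg.Agent.H43.MatEnd
import Cfsg.Prelude.Def_JordanBlocks

set_option autoImplicit false
set_option linter.unusedSectionVars false
set_option linter.unusedVariables false

/-! Invariance of the Jordan type. -/

namespace Cfsg.Agent.H43

variable {F : Type*} {V : Type*} [Field F] [AddCommGroup V] [Module F V] [FiniteDimensional F V]

theorem card_fin_le (n j : ℕ) : ∑ i : Fin n, (if j ≤ (i : ℕ) then 1 else 0) = n - j := by
  rw [Fin.sum_univ_eq_sum_range (fun i => if j ≤ i then 1 else 0), ← Finset.sum_filter, Finset.sum_const, smul_eq_mul, mul_one]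
  have : (Finset.range n).filter (fun i => j ≤ i) = Finset.Ico j n := by
    ext i
    simp only [Finset.mem_filter, Finset.mem_range, Finset.mem_Ico]
    tauto
  rw [this, Nat.card_Ico]

theorem JB.finrank_range {ι : Type*} [Fintype ι] {N : Module.End F V} {d : ι → ℕ} {b : Module.Basis ((k : ι) × Fin (d k)) F V}
    (h : JB N d b) (j : ℕ) : Module.finrank F (LinearMap.range (N ^ j)) = ∑ k, (d k - j) := by
  classical
  have h1 : LinearMap.range (N ^ j) = Submodule.span F (Set.range (fun x : {x : (k : ι) × Fin (d k) // j ≤ (x.2 : ℕ)} => b x.1)) := by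
    apply le_antisymm
    · rw [LinearMap.range_eq_map, ← b.span_eq, Submodule.map_span, Submodule.span_le]
      rintro _ ⟨_, ⟨⟨k, i⟩, rfl⟩, rfl⟩
      rw [h.pow]
      by_cases h2 : (i : ℕ) + j < d k
      · rw [dif_pos h2]
        exact Submodule.subset_span ⟨⟨⟨k, ⟨(i : ℕ) + j, h2⟩⟩, by simp⟩, rfl⟩
      · rw [dif_neg h2]
        exact Submodule.zero_mem _
    · rw [Submodule.span_le]
      rintro _ ⟨⟨⟨k, i⟩, hi⟩, rfl⟩
      have hi' : j ≤ (i : ℕ) := hi
      refine ⟨b ⟨k, ⟨(i : ℕ) - j, by have := i.2; omega⟩⟩, ?_⟩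
      rw [h.pow]
      have hi2 := i.2
      simp only
      rw [dif_pos (by omega)]
      congr 3
      omega
  have hli : LinearIndependent F (fun x : {x : (k : ι) × Fin (d k) // j ≤ (x.2 : ℕ)} => b x.1) :=
    b.linearIndependent.comp _ Subtype.val_injective
  rw [h1, finrank_span_eq_card hli, Fintype.card_subtype,
    Finset.card_filter, ← Finset.univ_sigma_univ, Finset.sum_sigma]
  refine Finset.sum_congr rfl fun k _ => ?_
  exact card_fin_le (d k) j

theorem sum_sub_eq {ι : Type*} [Fintype ι] (d : ι → ℕ) (j : ℕ) :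
    ∑ k, (d k - j) = ∑ k, (d k - (j + 1)) + (Finset.univ.filter (fun k => j < d k)).card := by
  classical
  rw [Finset.card_filter, ← Finset.sum_add_distrib]
  refine Finset.sum_congr rfl fun k _ => ?_
  by_cases h : j < d k
  · rw [if_pos h]; omega
  · rw [if_neg h]; omega

theorem card_lt_eq {ι : Type*} [Fintype ι] (d : ι → ℕ) (j : ℕ) :
    (Finset.univ.filter (fun k => j < d k)).card =
      (Finset.univ.filter (fun k => d k = j + 1)).card + (Finset.univ.filter (fun k => j + 1 < d k)).card := by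
  classical
  rw [← Finset.card_union_of_disjoint]
  · congr 1
    ext k
    simp only [Finset.mem_filter, Finset.mem_univ, true_and, Finset.mem_union]
    omega
  · rw [Finset.disjoint_left]
    intro k hk hk'
    simp only [Finset.mem_filter, Finset.mem_univ, true_and] at hk hk'
    omega

/-- counts determined by the truncated sums -/
theorem card_eq_of_sums {ι ι' : Type*} [Fintype ι] [Fintype ι'] (d : ι → ℕ) (d' : ι' → ℕ)
    (h : ∀ j, ∑ k, (d k - j) = ∑ k, (d' k - j)) (j : ℕ) (hj : 1 ≤ j) :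
    (Finset.univ.filter (fun k => d k = j)).card = (Finset.univ.filter (fun k => d' k = j)).card := by
  obtain ⟨i, rfl⟩ : ∃ i, j = i + 1 := ⟨j - 1, by omega⟩
  have h1 := sum_sub_eq d i
  have h2 := sum_sub_eq d' i
  have h3 := sum_sub_eq d (i + 1)
  have h4 := sum_sub_eq d' (i + 1)
  have h5 := card_lt_eq d i
  have h6 := card_lt_eq d' i
  have h7 := h i
  have h8 := h (i + 1)
  have h9 := h (i + 1 + 1)
  omega

theorem JB.card_eq {ι ι' W : Type*} [Fintype ι] [Fintype ι'] [AddCommGroup W] [Module F W] [FiniteDimensional F W]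
    {N : Module.End F V} {N' : Module.End F W} {d : ι → ℕ} {d' : ι' → ℕ}
    {b : Module.Basis ((k : ι) × Fin (d k)) F V} (h : JB N d b)
    {b' : Module.Basis ((k : ι') × Fin (d' k)) F W} (h' : JB N' d' b') (g : V ≃ₗ[F] W) (hg : ∀ x, g (N x) = N' (g x))
    (j : ℕ) (hj : 1 ≤ j) :
    (Finset.univ.filter (fun k => d k = j)).card = (Finset.univ.filter (fun k => d' k = j)).card := by
  apply card_eq_of_sums d d' _ j hj
  intro j
  rw [← h.finrank_range, ← h'.finrank_range]
  have hpow : ∀ (n : ℕ) x, g ((N ^ n) x) = (N' ^ n) (g x) := by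
    intro n
    induction n with
    | zero => intro x; rfl
    | succ n ih => intro x; rw [pow_succ, pow_succ, Module.End.mul_apply, Module.End.mul_apply, ih, hg]
  have : LinearMap.range (N' ^ j) = (LinearMap.range (N ^ j)).map (g : V →ₗ[F] W) := by
    ext y
    constructor
    · rintro ⟨x, rfl⟩
      obtain ⟨x', rfl⟩ := g.surjective x
      exact ⟨(N ^ j) x', ⟨x', rfl⟩, hpow j x'⟩
    · rintro ⟨_, ⟨x, rfl⟩, rfl⟩
      exact ⟨g x, (hpow j x).symm⟩
  rw [this]
  exact (LinearEquiv.finrank_map_eq g _).symm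

/-- Equal fibres give an equivalence. -/
theorem exists_equiv_of_card {ι ι' : Type*} [Fintype ι] [Fintype ι'] (d : ι → ℕ) (d' : ι' → ℕ)
    (h : ∀ j, (Finset.univ.filter (fun k => d k = j)).card = (Finset.univ.filter (fun k => d' k = j)).card) :
    ∃ σ : ι ≃ ι', ∀ k, d' (σ k) = d k := by
  classical
  have h1 : ∀ j, Nonempty ({k // d k = j} ≃ {k // d' k = j}) := by
    intro j
    refine ⟨Fintype.equivOfCardEq ?_⟩
    rw [Fintype.card_subtype, Fintype.card_subtype, h]
  let σ : ι ≃ ι' := (Equiv.sigmaFiberEquiv d).symm.trans ((Equiv.sigmaCongrRight (fun j => (h1 j).some)).trans (Equiv.sigmaFiberEquiv d'))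
  refine ⟨σ, ?_⟩
  intro k
  have : σ k = ((h1 (d k)).some ⟨k, rfl⟩ : {k' // d' k' = d k}) := rfl
  rw [this]
  exact ((h1 (d k)).some ⟨k, rfl⟩).2

/-- The standard Jordan basis. -/
theorem jordan_JB {t : ℕ} (d : Fin t → ℕ) (F : Type*) [Field F] :
    JB (Matrix.toLin' (Cfsg.jordanTypeMatrix d F) - 1) d (Pi.basisFun F ((k : Fin t) × Fin (d k))) := by
  intro k i
  rw [LinearMap.sub_apply, Matrix.toLin'_apply, Pi.basisFun_apply, Matrix.mulVec_single_one]
  funext ⟨l, j⟩
  change Cfsg.jordanTypeMatrix d F ⟨l, j⟩ ⟨k, i⟩ - (Pi.single (M := fun _ => F) (⟨k, i⟩ : (k : Fin t) × Fin (d k)) (1 : F) : ((k : Fin t) × Fin (d k)) → F) ⟨l, j⟩ = _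
  unfold Cfsg.jordanTypeMatrix
  by_cases hl : l = k
  · subst hl
    rw [Matrix.blockDiagonal'_apply_eq, Pi.single_apply]
    unfold Cfsg.jordanBlock
    rw [Matrix.of_apply]
    have e : ((⟨l, j⟩ : (k : Fin t) × Fin (d k)) = ⟨l, i⟩) ↔ (j : ℕ) = i := by
      constructor
      · intro h
        rw [Sigma.mk.injEq] at h
        rw [eq_of_heq h.2]
      · intro h
        rw [Fin.ext h]
    have e2 : ∀ (h : (i : ℕ) + 1 < d l), ((⟨l, j⟩ : (k : Fin t) × Fin (d k)) = ⟨l, ⟨(i : ℕ) + 1, h⟩⟩) ↔ (j : ℕ) = (i : ℕ) + 1 := by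
      intro h0
      constructor
      · intro h
        rw [Sigma.mk.injEq] at h
        rw [eq_of_heq h.2]
      · intro h
        congr 1
        exact Fin.ext h
    by_cases h1 : (i : ℕ) + 1 < d l
    · rw [dif_pos h1, Pi.basisFun_apply, Pi.single_apply]
      simp only [e, e2 h1]
      by_cases h2 : (j : ℕ) = i
      · rw [if_pos h2, if_pos h2, if_neg (by omega), sub_self]
      · rw [if_neg h2, if_neg h2, sub_zero]
    · rw [dif_neg h1, Pi.zero_apply]
      simp only [e]
      have := j.2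
      by_cases h2 : (j : ℕ) = i
      · rw [if_pos h2, if_pos h2, sub_self]
      · rw [if_neg h2, if_neg h2, if_neg (by omega), sub_self]
  · rw [Matrix.blockDiagonal'_apply_ne _ _ _ hl, Pi.single_eq_of_ne (by
      intro h
      rw [Sigma.mk.injEq] at h
      exact hl h.1)]
    by_cases h1 : (i : ℕ) + 1 < d k
    · rw [dif_pos h1, Pi.basisFun_apply, Pi.single_eq_of_ne (by
        intro h
        rw [Sigma.mk.injEq] at h
        exact hl h.1), sub_zero]
    · rw [dif_neg h1, sub_zero]; rfl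

/-- Matrix version. -/
theorem isConj_reindex_iff {t : ℕ} (d : Fin t → ℕ) {F ν : Type*} [Field F] [Fintype ν] [DecidableEq ν]
    (e : ((k : Fin t) × Fin (d k)) ≃ ν) (A : Matrix ν ν F) :
    IsConj (Matrix.reindex e e (Cfsg.jordanTypeMatrix d F)) A ↔
      ∃ b : Module.Basis ((k : Fin t) × Fin (d k)) F (ν → F), JB (Matrix.toLin' A - 1) d b := by
  -- the reindexed matrix as an endomorphism
  let E : ((((k : Fin t) × Fin (d k))) → F) ≃ₗ[F] (ν → F) := LinearEquiv.funCongrLeft F F e.symm
  have hE : ∀ x, E (Matrix.toLin' (Cfsg.jordanTypeMatrix d F) x) = Matrix.toLin' (Matrix.reindex e e (Cfsg.jordanTypeMatrix d F)) (E x) := by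
    intro x
    funext i
    rw [Matrix.toLin'_apply, Matrix.toLin'_apply]
    change (∑ j, Cfsg.jordanTypeMatrix d F (e.symm i) j * x j) = ∑ j, Cfsg.jordanTypeMatrix d F (e.symm i) (e.symm j) * x (e.symm j)
    exact (Equiv.sum_comp e.symm (fun j => Cfsg.jordanTypeMatrix d F (e.symm i) j * x j)).symm
  have hJ : JB (Matrix.toLin' (Matrix.reindex e e (Cfsg.jordanTypeMatrix d F)) - 1) d ((Pi.basisFun F ((k : Fin t) × Fin (d k))).map E) := by
    apply (jordan_JB d F).map E
    intro x
    rw [LinearMap.sub_apply, map_sub, hE]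
    rfl
  constructor
  · rintro ⟨g, hg⟩
    have hg' : (g : Matrix ν ν F) * (Matrix.reindex e e (Cfsg.jordanTypeMatrix d F)) = A * (g : Matrix ν ν F) := hg
    refine ⟨_, hJ.map (LinearMap.GeneralLinearGroup.generalLinearEquiv F _ (glEnd g)) ?_⟩
    intro x
    change (g : Matrix ν ν F).mulVec ((Matrix.reindex e e (Cfsg.jordanTypeMatrix d F)).mulVec x - x) =
      A.mulVec ((g : Matrix ν ν F).mulVec x) - (g : Matrix ν ν F).mulVec x
    rw [Matrix.mulVec_sub, Matrix.mulVec_mulVec, Matrix.mulVec_mulVec, hg']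
  · rintro ⟨b, hb⟩
    obtain ⟨g, hg⟩ := hJ.exists_conj hb
    obtain ⟨K, hK⟩ : ∃ K : GL ν F, glEnd K = (LinearMap.GeneralLinearGroup.generalLinearEquiv F (ν → F)).symm g :=
      ⟨glEnd.symm _, MulEquiv.apply_symm_apply _ _⟩
    have hKv : ∀ x, (K : Matrix ν ν F).mulVec x = g x := by
      intro x
      rw [← glEnd_apply, hK]
      rfl
    refine ⟨K, ?_⟩
    change (K : Matrix ν ν F) * (Matrix.reindex e e (Cfsg.jordanTypeMatrix d F)) = A * (K : Matrix ν ν F)
    apply (Matrix.toLin' (R := F) (m := ν) (n := ν)).injective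
    apply LinearMap.ext
    intro x
    rw [Matrix.toLin'_apply, Matrix.toLin'_apply, ← Matrix.mulVec_mulVec, ← Matrix.mulVec_mulVec, hKv, hKv]
    have h1 := hg x
    rw [LinearMap.sub_apply, LinearMap.sub_apply, map_sub] at h1
    change g ((Matrix.reindex e e (Cfsg.jordanTypeMatrix d F)).mulVec x) - g x = A.mulVec (g x) - g x at h1
    exact sub_left_injective h1

end Cfsg.Agent.H43
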