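import Mathlib
import Cfsg.Agent.H43.Hilbert90

set_option autoImplicit false
set_option linter.unusedSectionVars false
set_option linter.unusedVariables false

/-! Hilbert 90 in commutative subrings of finite rings. -/

namespace Cfsg.Agent.H43

section sub

variable {E : Type*} [Ring E] [Finite E] (R' : Subring E) (hc : ∀ x ∈ R', ∀ y ∈ R', x * y = y * x)
  (τ : E → E) (hτR : ∀ x ∈ R', τ x ∈ R') (hadd : ∀ x ∈ R', ∀ y ∈ R', τ (x + y) = τ x + τ y)
  (hmul : ∀ x ∈ R', ∀ y ∈ R', τ (x * y) = τ y * τ x) (h1 : τ 1 = 1) (hinv : ∀ x ∈ R', τ (τ x) = x)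
include hc hτR hadd hmul h1 hinv

theorem norm_package (t : E) (ht : t ∈ R') (ht1 : IsUnit (t - τ t)) :
    (∀ s ∈ R', s * τ s = 1 → ∃ y ∈ R', IsUnit y ∧ y = s * τ y) ∧
    (∀ u ∈ R', IsUnit u → τ u = u → ∃ c ∈ R', IsUnit c ∧ c * τ c = u) := by
  let _ : CommRing R' := { (inferInstance : Ring R') with mul_comm := fun x y => Subtype.ext (hc x.1 x.2 y.1 y.2) }
  obtain ⟨T, hT⟩ : ∃ T : R' →+* R', ∀ x, ((T x : R') : E) = τ (x : E) := by
    refine ⟨RingHom.mk' ⟨⟨fun x => ⟨τ x.1, hτR x.1 x.2⟩, Subtype.ext h1⟩, fun x y => Subtype.ext ?_⟩ fun x y => Subtype.ext (hadd x.1 x.2 y.1 y.2), fun x => rfl⟩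
    change τ (x.1 * y.1) = τ x.1 * τ y.1
    rw [hmul x.1 x.2 y.1 y.2]
    exact hc _ (hτR _ y.2) _ (hτR _ x.2)
  have hTT : ∀ x, T (T x) = x := by
    intro x
    apply Subtype.ext
    rw [hT, hT]
    exact hinv x.1 x.2
  have hunit : ∀ x : R', IsUnit (x : E) ↔ IsUnit x := by
    intro x
    constructor
    · intro h
      -- injective multiplication, finite
      have hinj : Function.Injective (fun y : R' => x * y) := by
        intro y z hyz
        have : (x : E) * (y : E) = (x : E) * (z : E) := congrArg Subtype.val hyz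
        exact Subtype.ext (h.mul_left_cancel this)
      obtain ⟨y, hy⟩ := (Finite.injective_iff_surjective.1 hinj) 1
      exact IsUnit.of_mul_eq_one y hy
    · intro h
      exact h.map R'.subtype
  have htu : IsUnit ((⟨t, ht⟩ : R') - T ⟨t, ht⟩) := by
    rw [← hunit]
    have : (((⟨t, ht⟩ : R') - T ⟨t, ht⟩ : R') : E) = t - τ t := by
      change t - (T ⟨t, ht⟩ : E) = t - τ t
      rw [hT]
    rw [this]
    exact ht1
  constructor
  · intro s hs hs1
    obtain ⟨y, hy, hys⟩ := hilbert90 T hTT ⟨t, ht⟩ htu ⟨s, hs⟩ (by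
      apply Subtype.ext
      change s * (T ⟨s, hs⟩ : E) = 1
      rw [hT]; exact hs1)
    refine ⟨y, y.2, (hunit y).2 hy, ?_⟩
    have := congrArg Subtype.val hys
    change (y : E) = s * (T y : E) at this
    rw [hT] at this
    exact this
  · intro u hu hu1 hu2
    obtain ⟨c, hc1, hc2⟩ := norm_surj T hTT ⟨t, ht⟩ htu ⟨u, hu⟩ ((hunit ⟨u, hu⟩).1 hu1) (by
      apply Subtype.ext
      rw [hT]; exact hu2)
    refine ⟨c, c.2, (hunit c).2 hc1, ?_⟩
    have := congrArg Subtype.val hc2
    change (c : E) * (T c : E) = u at this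
    rw [hT] at this
    exact this

end sub

/-- The bicommutant of a commuting set. -/
def bic {E : Type*} [Ring E] (X : Set E) : Subring E := Subring.centralizer (Subring.centralizer X : Set E)

theorem subset_bic {E : Type*} [Ring E] (X : Set E) {x : E} (hx : x ∈ X) : x ∈ bic X := by
  intro y hy
  exact (hy x hx).symm

theorem mem_cent_iff {E : Type*} [Ring E] (X : Set E) {z : E} : z ∈ Subring.centralizer X ↔ ∀ x ∈ X, x * z = z * x := Iff.rfl

theorem bic_comm {E : Type*} [Ring E] (X : Set E) (hX : ∀ x ∈ X, ∀ y ∈ X, x * y = y * x) :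
    ∀ x ∈ bic X, ∀ y ∈ bic X, x * y = y * x := by
  have h : ∀ x ∈ bic X, x ∈ Subring.centralizer X := by
    intro x hx y hy
    exact hx y (fun z hz => hX z hz y hy)
  intro x hx y hy
  exact hy x (h x hx)

theorem bic_commute {E : Type*} [Ring E] (X : Set E) {z : E} (hz : ∀ x ∈ X, x * z = z * x) {r : E} (hr : r ∈ bic X) :
    z * r = r * z := hr z hz

theorem bic_star {E : Type*} [Ring E] [Finite E] (X : Set E) (τ : E → E) 
    (hmul : ∀ x y, τ (x * y) = τ y * τ x) (hinj : Function.Injective τ)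
    (hX : ∀ x ∈ X, ∀ z ∈ Subring.centralizer X, x * τ z = τ z * x) :
    ∀ x ∈ bic X, τ x ∈ bic X := by
  -- τ maps the centralizer of X to itself
  have h1 : ∀ z ∈ Subring.centralizer X, τ z ∈ Subring.centralizer X := fun z hz x hx => hX x hx z hz
  have h2 : ∀ y ∈ Subring.centralizer X, ∃ z ∈ Subring.centralizer X, τ z = y := by
    have : Function.Injective (fun z : Subring.centralizer X => (⟨τ z.1, h1 z.1 z.2⟩ : Subring.centralizer X)) := by
      intro z z' h
      exact Subtype.ext (hinj (congrArg Subtype.val h))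
    intro y hy
    obtain ⟨z, hz⟩ := (Finite.injective_iff_surjective.1 this) ⟨y, hy⟩
    exact ⟨z.1, z.2, congrArg Subtype.val hz⟩
  intro x hx y hy
  obtain ⟨z, hz, rfl⟩ := h2 y hy
  rw [← hmul, ← hmul, hx z hz]

end Cfsg.Agent.H43
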