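import Mathlib
import Cfsg.Agent.S2495
import Cfsg.Agent.S2904
import Cfsg.Agent.Uni.SU
/-!
# The torus of order `(q^n-1)/(q+1)` in `SU_n(q)`, `n` even
-/
set_option autoImplicit false
set_option linter.unusedSectionVars false

namespace Cfsg.Agent.H43.PsuTorus

/-- the number `|(-q)^m + 1|` -/
def bN (q m : ℕ) : ℕ := if Even m then q ^ m + 1 else q ^ m - 1

theorem bN_cast (q m : ℕ) (hq : 1 ≤ q) : ((bN q m : ℕ) : ℤ) = (-1) ^ m * ((-(q : ℤ)) ^ m + 1) := by
  have h1 : 1 ≤ q ^ m := Nat.one_le_pow _ _ hq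
  unfold bN
  rcases Nat.even_or_odd m with h | h
  · rw [if_pos h, h.neg_one_pow, h.neg_pow]; push_cast; ring
  · rw [if_neg (Nat.not_even_iff_odd.mpr h), h.neg_one_pow, h.neg_pow]
    push_cast [h1]; ring

theorem bN_pos (q m : ℕ) (hq : 3 ≤ q) (hm : 2 ≤ m) : 1 < bN q m := by
  have h1 : q ^ 2 ≤ q ^ m := Nat.pow_le_pow_right (by omega) hm
  have h2 : 9 ≤ q ^ 2 := by nlinarith
  unfold bN
  split_ifs <;> omega

theorem nums (q m : ℕ) (hq : 3 ≤ q) (hm : 2 ≤ m) :
    ∃ T : ℕ, bN q m * T * (q + 1) = q ^ (2 * m) - 1 ∧ (-1 : ℤ) ^ (m + 1) * ∑ i ∈ Finset.range m, (-(q : ℤ)) ^ i = T ∧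
      - ∑ i ∈ Finset.range (2 * m), (-(q : ℤ)) ^ i = ((bN q m * T : ℕ) : ℤ) ∧
      (Nat.gcd (2 * m) (q + 1) ∣ T ↔ padicValNat 2 (q + 1) < padicValNat 2 (2 * m)) ∧
      Nat.gcd (2 * m) (q + 1) ∣ bN q m * T := by
  have hQ := mul_geom_sum (-(q : ℤ)) m
  have hQ2 := mul_geom_sum (-(q : ℤ)) (2 * m)
  have h1 : 1 ≤ q ^ (2 * m) := Nat.one_le_pow _ _ (by omega)
  have hbN := bN_cast q m (by omega)
  -- sign
  have hs : ((-1 : ℤ) ^ m) * ((-1) ^ m) = 1 := by rw [← mul_pow]; norm_num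
  have hTT : ((q : ℤ) + 1) * ((-1) ^ (m + 1) * ∑ i ∈ Finset.range m, (-(q : ℤ)) ^ i) = (-1) ^ m * ((-(q : ℤ)) ^ m - 1) := by
    rw [pow_succ]
    linear_combination ((-1 : ℤ) ^ m) * hQ
  have hnonneg : (0 : ℤ) ≤ (-1) ^ (m + 1) * ∑ i ∈ Finset.range m, (-(q : ℤ)) ^ i := by
    have h2 : (0 : ℤ) ≤ (-1) ^ m * ((-(q : ℤ)) ^ m - 1) := by
      have h3 : (1 : ℤ) ≤ (q : ℤ) ^ m := one_le_pow₀ (by exact_mod_cast (by omega : 1 ≤ q))
      rcases Nat.even_or_odd m with h | h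
      · rw [h.neg_one_pow, h.neg_pow]; linarith
      · rw [h.neg_one_pow, h.neg_pow]; linarith
    rw [← hTT] at h2
    have h4 : (0 : ℤ) < (q : ℤ) + 1 := by positivity
    exact nonneg_of_mul_nonneg_right h2 h4
  obtain ⟨T, hT⟩ := Int.eq_ofNat_of_zero_le hnonneg
  rw [hT] at hTT
  have hqq : ((q : ℤ) ^ (2 * m)) = (-(q : ℤ)) ^ m * (-(q : ℤ)) ^ m := by
    rw [← pow_add, ← two_mul]
    rw [Even.neg_pow ⟨m, by ring⟩]
  have hprod : ((bN q m : ℕ) : ℤ) * T * ((q : ℤ) + 1) = (q : ℤ) ^ (2 * m) - 1 := by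
    rw [hqq, hbN]
    linear_combination ((-1 : ℤ) ^ m * ((-(q : ℤ)) ^ m + 1)) * hTT + ((-(q : ℤ)) ^ m + 1) * ((-(q : ℤ)) ^ m - 1) * hs
  have hneg : - ∑ i ∈ Finset.range (2 * m), (-(q : ℤ)) ^ i = ((bN q m * T : ℕ) : ℤ) := by
    have h4 : ((q : ℤ) + 1) ≠ 0 := by positivity
    apply mul_right_cancel₀ h4
    push_cast
    rw [hprod]
    have h5 : (-(q : ℤ)) ^ (2 * m) = (q : ℤ) ^ (2 * m) := Even.neg_pow ⟨m, by ring⟩ _
    rw [h5] at hQ2
    linear_combination hQ2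
  -- congruences
  obtain ⟨d, hd⟩ : ∃ d, d = Nat.gcd (2 * m) (q + 1) := ⟨_, rfl⟩
  have hdq : (d : ℤ) ∣ (q : ℤ) + 1 := by
    have : d ∣ q + 1 := hd ▸ Nat.gcd_dvd_right _ _
    exact_mod_cast this
  have hd2 : d ∣ 2 * m := hd ▸ Nat.gcd_dvd_left _ _
  have hcong : ∀ (x : ℤ) (_ : (d : ℤ) ∣ x - 1) (k : ℕ), (∑ i ∈ Finset.range k, x ^ i) ≡ k [ZMOD d] := by
    intro x hx k
    have hx1 : x ≡ 1 [ZMOD d] := (Int.modEq_iff_dvd.mpr (by simpa using hx)).symm
    have h6 : ∀ i ∈ Finset.range k, x ^ i ≡ 1 [ZMOD d] := by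
      intro i _
      have := hx1.pow i
      rwa [one_pow] at this
    have h7 := Int.ModEq.sum h6
    simpa using h7
  have hm1 : (d : ℤ) ∣ -(q : ℤ) - 1 := by
    have : -(q : ℤ) - 1 = -((q : ℤ) + 1) := by ring
    rw [this]; exact (dvd_neg).mpr hdq
  have hdT : d ∣ T ↔ d ∣ m := by
    have e1 : (d ∣ T) ↔ (d : ℤ) ∣ (T : ℤ) := Int.natCast_dvd_natCast.symm
    have e2 : (d ∣ m) ↔ (d : ℤ) ∣ (m : ℤ) := Int.natCast_dvd_natCast.symm
    have hu : IsUnit ((-1 : ℤ) ^ (m + 1)) := (isUnit_one.neg).pow _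
    have hT' : (T : ℤ) = (-1) ^ (m + 1) * ∑ i ∈ Finset.range m, (-(q : ℤ)) ^ i := hT.symm
    rw [e1, e2, hT', hu.dvd_mul_left]
    exact (hcong _ hm1 m).dvd_iff
  refine ⟨T, ?_, hT, hneg, ?_, ?_⟩
  · zify [h1]; exact hprod
  · rw [← hd, hdT]
    have h8 := Cfsg.Agent.S2495.arith (q + 2) m (by omega) (by omega)
    have h9 : q + 2 - 1 = q + 1 := by omega
    rw [h9, ← hd] at h8
    rw [← h8]
    have e1 : (d ∣ m) ↔ (d : ℤ) ∣ (m : ℤ) := Int.natCast_dvd_natCast.symm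
    have e2 : (d ∣ ∑ i ∈ Finset.range m, (q + 2) ^ i) ↔ (d : ℤ) ∣ ∑ i ∈ Finset.range m, ((q : ℤ) + 2) ^ i := by
      rw [← Int.natCast_dvd_natCast]; push_cast; rfl
    rw [e1, e2]
    exact (Int.ModEq.dvd_iff (hcong ((q : ℤ) + 2) (by
      have : (q : ℤ) + 2 - 1 = (q : ℤ) + 1 := by ring
      rw [this]; exact hdq) m)).symm
  · rw [← hd]
    have e1 : (d ∣ bN q m * T) ↔ (d : ℤ) ∣ ((bN q m * T : ℕ) : ℤ) := Int.natCast_dvd_natCast.symm
    rw [e1, ← hneg, dvd_neg]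
    rw [(hcong _ hm1 (2 * m)).dvd_iff]
    exact_mod_cast hd2

theorem zsig (q m : ℕ) (hq : 3 ≤ q) (hodd : Odd q) (hm : 2 ≤ m) :
    ∃ r : ℕ, r.Prime ∧ r ∣ bN q m ∧ ¬ r ∣ q ∧ ∀ k, 0 < k → k < 2 * m → ¬ (r : ℤ) ∣ (-(q : ℤ)) ^ k - 1 := by
  -- translate
  have key : ∀ (r o : ℕ), 0 < o → r ∣ q ^ o - 1 → r.Prime → (∀ k, 0 < k → k < o → ¬ r ∣ q ^ k - 1) →
      (∀ k, r ∣ q ^ k - 1 ↔ o ∣ k) := by
    intro r o ho hro hr hk k
    have h1 : ∀ j, r ∣ q ^ j - 1 ↔ ((q : ZMod r)) ^ j = 1 := by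
      intro j
      have h2 : 1 ≤ q ^ j := Nat.one_le_pow _ _ (by omega)
      rw [← ZMod.natCast_eq_zero_iff, Nat.cast_sub h2, Nat.cast_pow, Nat.cast_one, sub_eq_zero]
    have h3 : orderOf (q : ZMod r) = o := by
      rw [orderOf_eq_iff ho]
      refine ⟨(h1 o).mp hro, fun j hj hj0 h => hk j hj0 hj ((h1 j).mpr h)⟩
    rw [h1, ← h3, orderOf_dvd_iff_pow_eq_one]
  have hqk : ∀ (r k : ℕ), Even k → ((r : ℤ) ∣ (-(q : ℤ)) ^ k - 1 ↔ r ∣ q ^ k - 1) := by
    intro r k hk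
    have h2 : 1 ≤ q ^ k := Nat.one_le_pow _ _ (by omega)
    rw [hk.neg_pow, ← Int.natCast_dvd_natCast]
    push_cast [h2]; rfl
  have hqk2 : ∀ (r k : ℕ), Odd k → ((r : ℤ) ∣ (-(q : ℤ)) ^ k - 1 ↔ r ∣ q ^ k + 1) := by
    intro r k hk
    rw [hk.neg_pow, ← Int.natCast_dvd_natCast]
    push_cast
    rw [show -(q : ℤ) ^ k - 1 = -((q : ℤ) ^ k + 1) by ring, dvd_neg]
  have hsq : ∀ k, q ^ (2 * k) - 1 = (q ^ k + 1) * (q ^ k - 1) := by
    intro k
    have h2 : 1 ≤ q ^ k := Nat.one_le_pow _ _ (by omega)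
    have h3 : 1 ≤ q ^ (2 * k) := Nat.one_le_pow _ _ (by omega)
    zify [h2, h3]
    ring
  rcases Nat.even_or_odd m with hm2 | hm2
  · obtain ⟨r, hr, hrd, hrk⟩ := Cfsg.Agent.S2904.result q (2 * m) (by omega) (by omega) (by omega) (by
      rintro ⟨h2, -⟩; omega)
    have hkey := key r (2 * m) (by omega) hrd hr hrk
    refine ⟨r, hr, ?_, ?_, ?_⟩
    · unfold bN
      rw [if_pos hm2]
      rw [hsq] at hrd
      exact ((Nat.Prime.dvd_mul hr).mp hrd).resolve_right (hrk m (by omega) (by omega))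
    · intro h
      have h1 : r ∣ q ^ (2 * m) := h.trans (dvd_pow_self q (by omega))
      have h2 := Nat.dvd_sub h1 hrd
      have h3 : 1 ≤ q ^ (2 * m) := Nat.one_le_pow _ _ (by omega)
      have h4 : q ^ (2 * m) - (q ^ (2 * m) - 1) = 1 := by omega
      rw [h4] at h2
      exact hr.one_lt.ne' (Nat.dvd_one.mp h2)
    · intro k hk hkm h
      rcases Nat.even_or_odd k with hk2 | hk2
      · rw [hqk r k hk2] at h
        exact hrk k hk hkm h
      · rw [hqk2 r k hk2] at h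
        have h5 : r ∣ q ^ (2 * k) - 1 := by rw [hsq]; exact h.mul_right _
        rw [hkey] at h5
        obtain ⟨t, ht⟩ := h5
        have ht1 : t = 1 := by
          rcases t with _ | _ | t
          · omega
          · rfl
          · exfalso; nlinarith
        subst ht1
        have : k = m := by omega
        subst this
        exact (Nat.not_even_iff_odd.mpr hk2) hm2
  · have hm3 : 3 ≤ m := by
      rcases hm2 with ⟨t, ht⟩; omega
    obtain ⟨r, hr, hrd, hrk⟩ := Cfsg.Agent.S2904.result q m (by omega) (by omega) (by omega) (by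
      rintro ⟨h2, -⟩; omega)
    have hkey := key r m (by omega) hrd hr hrk
    refine ⟨r, hr, ?_, ?_, ?_⟩
    · unfold bN
      rw [if_neg (Nat.not_even_iff_odd.mpr hm2)]
      exact hrd
    · intro h
      have h1 : r ∣ q ^ m := h.trans (dvd_pow_self q (by omega))
      have h2 := Nat.dvd_sub h1 hrd
      have h3 : 1 ≤ q ^ m := Nat.one_le_pow _ _ (by omega)
      have h4 : q ^ m - (q ^ m - 1) = 1 := by omega
      rw [h4] at h2
      exact hr.one_lt.ne' (Nat.dvd_one.mp h2)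
    · intro k hk hkm h
      rcases Nat.even_or_odd k with hk2 | hk2
      · rw [hqk r k hk2, hkey] at h
        obtain ⟨t, ht⟩ := h
        have ht1 : t = 1 := by
          rcases t with _ | _ | t
          · omega
          · rfl
          · exfalso; nlinarith
        subst ht1
        have : k = m := by omega
        subst this
        exact (Nat.not_even_iff_odd.mpr hm2) hk2
      · rw [hqk2 r k hk2] at h
        have h5 : r ∣ q ^ (2 * k) - 1 := by rw [hsq]; exact h.mul_right _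
        rw [hkey] at h5
        have h6 : m ∣ k := by
          have : Nat.Coprime m 2 := by
            rw [Nat.coprime_comm]; exact (Nat.Prime.coprime_iff_not_dvd Nat.prime_two).mpr (fun h => (Nat.not_even_iff_odd.mpr hm2) (even_iff_two_dvd.mpr h))
          exact this.dvd_of_dvd_mul_left h5
        rw [← hkey] at h6
        have h7 := Nat.dvd_sub h h6
        have h8 : 1 ≤ q ^ k := Nat.one_le_pow _ _ (by omega)
        have h9 : q ^ k + 1 - (q ^ k - 1) = 2 := by omega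
        rw [h9] at h7
        have h10 : r = 2 := (Nat.prime_dvd_prime_iff_eq hr Nat.prime_two).mp h7
        apply hrk 1 (by omega) (by omega)
        rw [h10, pow_one]
        rcases hodd with ⟨t, ht⟩
        exact ⟨t, by omega⟩


open Polynomial Matrix Cfsg.Agent.Uni

variable {F : Type*} [Field F] [Fintype F] {q : ℕ} {n : ℕ}

/-- eigenvalues of unitary matrices are closed under `x ↦ x^{-q}` -/
theorem root_neg_q (hF : Fintype.card F = q ^ 2) (A : Matrix (Fin n) (Fin n) F) (hA : Pres q A)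
    (L : Type*) [Field L] [Algebra F L] (x : L) (hx : ((A.charpoly).map (algebraMap F L)).IsRoot x) :
    x ≠ 0 ∧ ((A.charpoly).map (algebraMap F L)).IsRoot ((x ^ q)⁻¹) := by
  obtain ⟨p, f, hp, hchar, hf, hq⟩ := q_prime_pow hF
  have hpf : Fact p.Prime := ⟨hp⟩
  have hcharL : CharP L p := charP_of_injective_algebraMap (algebraMap F L).injective p
  obtain ⟨B, hB⟩ : ∃ B : Matrix (Fin n) (Fin n) L, B = A.map (algebraMap F L) := ⟨_, rfl⟩
  obtain ⟨φ, hφ⟩ : ∃ φ : L →+* L, ∀ y, φ y = y ^ q := ⟨iterateFrobenius L p f, fun y => by rw [iterateFrobenius_def, hq]⟩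
  have hcp : (A.charpoly).map (algebraMap F L) = B.charpoly := by
    rw [hB, Matrix.charpoly_map]
  rw [hcp] at hx ⊢
  have hBB : Bᵀ * B.map φ = 1 := by
    have h1 := hA.transpose_mul hF
    have h2 := congrArg (fun M : Matrix (Fin n) (Fin n) F => M.map (algebraMap F L)) h1
    simp only [Matrix.map_mul] at h2
    have h3 : B.map φ = (A.map (conjHom hF)).map (algebraMap F L) := by
      rw [hB]; ext i j
      simp only [Matrix.map_apply, hφ, conjHom_apply, map_pow]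
    rw [h3, hB, ← Matrix.transpose_map, h2]
    ext i j
    simp only [Matrix.map_apply, Matrix.one_apply]
    split_ifs <;> simp
  have hdetB : B.det ≠ 0 := by
    intro h
    have := congrArg Matrix.det hBB
    rw [Matrix.det_mul, Matrix.det_transpose, h, zero_mul, Matrix.det_one] at this
    exact zero_ne_one this
  have hx0 : x ≠ 0 := by
    rintro rfl
    rw [Polynomial.IsRoot.def, Matrix.eval_charpoly, map_zero, zero_sub, Matrix.det_neg] at hx
    rcases mul_eq_zero.mp hx with h | h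
    · exact (pow_ne_zero _ (by norm_num)) h
    · exact hdetB h
  refine ⟨hx0, ?_⟩
  rw [Polynomial.IsRoot.def, Matrix.eval_charpoly] at hx
  have h1 : (Matrix.scalar (Fin n) (x ^ q) - B.map φ).det = 0 := by
    have h2 := congrArg φ hx
    rw [RingHom.map_det, map_zero] at h2
    rw [← h2]
    congr 1
    ext i j
    simp only [Matrix.sub_apply, RingHom.mapMatrix_apply, Matrix.map_apply, map_sub, Matrix.scalar_apply, Matrix.diagonal_apply]
    congr 1
    split_ifs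
    · rw [hφ]
    · rw [map_zero]
  have h3 : (Bᵀ * (Matrix.scalar (Fin n) (x ^ q) - B.map φ)).det = 0 := by rw [Matrix.det_mul, h1, mul_zero]
  rw [Matrix.mul_sub, hBB] at h3
  have hxq : x ^ q ≠ 0 := pow_ne_zero _ hx0
  have h4 : Bᵀ * Matrix.scalar (Fin n) (x ^ q) - 1 = (-(x ^ q)) • (Matrix.scalar (Fin n) ((x ^ q)⁻¹) - Bᵀ) := by
    ext i j
    simp only [Matrix.sub_apply, Matrix.scalar_apply, Matrix.mul_diagonal, Matrix.smul_apply, smul_eq_mul, Matrix.diagonal_apply, Matrix.one_apply]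
    split_ifs
    · field_simp; ring
    · ring
  rw [h4, Matrix.det_smul] at h3
  rcases mul_eq_zero.mp h3 with h | h
  · exact absurd h (pow_ne_zero _ (neg_ne_zero.mpr hxq))
  · rw [Polynomial.IsRoot.def, ← Matrix.charpoly_transpose, Matrix.eval_charpoly]
    exact h

theorem prod_zpow_range {L : Type*} [Field L] (x : L) (hx : x ≠ 0) (f : ℕ → ℤ) (k : ℕ) :
    ∏ i ∈ Finset.range k, x ^ (f i) = x ^ (∑ i ∈ Finset.range k, f i) := by
  induction k with
  | zero => simp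
  | succ k ih => rw [Finset.prod_range_succ, Finset.sum_range_succ, ih, zpow_add₀ hx]

/-- a separable-minimal-polynomial matrix is killed by a polynomial vanishing at its eigenvalues -/
theorem aeval_eq_zero_of_roots {L : Type*} [Field L] [IsAlgClosed L] {k : ℕ} (B : Matrix (Fin k) (Fin k) L) (a : ℕ) (ha : (a : L) ≠ 0)
    (hB : B ^ a = 1) (P : L[X]) (hP0 : P ≠ 0) (hP : ∀ x, B.charpoly.IsRoot x → P.IsRoot x) : aeval B P = 0 := by
  have hint : IsIntegral L B := Algebra.IsIntegral.isIntegral B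
  have hdvd : minpoly L B ∣ X ^ a - 1 := minpoly.dvd L B (by simp [hB])
  have hsep : (X ^ a - 1 : L[X]).Separable := X_pow_sub_one_separable_iff.mpr ha
  have hsep2 : (minpoly L B).Separable := hsep.of_dvd hdvd
  have hne : minpoly L B ≠ 0 := minpoly.ne_zero hint
  have h1 : minpoly L B ∣ P := by
    apply (IsAlgClosed.splits (minpoly L B)).dvd_of_roots_le_roots hne
    rw [Multiset.le_iff_subset (nodup_roots hsep2)]
    intro x hx
    rw [mem_roots hP0]
    apply hP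
    exact (isRoot_of_mem_roots hx).dvd (Matrix.minpoly_dvd_charpoly B)
  obtain ⟨R, hR⟩ := h1
  rw [hR, map_mul, minpoly.aeval, zero_mul]

theorem scalar_pow (hF : Fintype.card F = q ^ 2) (hq : 3 ≤ q) (hodd : Odd q) {m : ℕ} (hm : 2 ≤ m) (hn : n = 2 * m)
    (A : Matrix (Fin n) (Fin n) F) (hA : Pres q A) (hdet : A.det = 1) (hN : A ^ (bN q m * (q + 1)) = 1)
    (hX : ∀ r s, r.Prime → bN q m = r * s → ¬ r ∣ q + 1 → A ^ (s * (q + 1)) ≠ 1)
    (G M d : ℕ) (hG : - ∑ i ∈ Finset.range (2 * m), (-(q : ℤ)) ^ i = ((G : ℕ) : ℤ)) (hM : M * d = G) (hd : d ∣ q + 1) :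
    ∃ c, A ^ M = Matrix.diagonal (fun _ => c) := by
  classical
  obtain ⟨p, f, hp, hchar, hf, hqp⟩ := q_prime_pow hF
  have hpf : Fact p.Prime := ⟨hp⟩
  obtain ⟨L, hL1, hL2, hL3⟩ : ∃ (L : Type _) (_ : Field L) (_ : Algebra F L), IsAlgClosed L :=
    ⟨AlgebraicClosure F, inferInstance, inferInstance, inferInstance⟩
  have hcharL : CharP L p := charP_of_injective_algebraMap (algebraMap F L).injective p
  obtain ⟨B, hB⟩ : ∃ B : Matrix (Fin n) (Fin n) L, B = (algebraMap F L).mapMatrix A := ⟨_, rfl⟩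
  have hBpow : ∀ k, B ^ k = (algebraMap F L).mapMatrix (A ^ k) := by intro k; rw [hB, map_pow]
  have hinj : Function.Injective ((algebraMap F L).mapMatrix : Matrix (Fin n) (Fin n) F →+* Matrix (Fin n) (Fin n) L) := by
    intro M1 M2 h
    ext i j
    apply (algebraMap F L).injective
    exact congrFun (congrFun h i) j
  have hcp : (A.charpoly).map (algebraMap F L) = B.charpoly := by
    rw [hB, RingHom.mapMatrix_apply, Matrix.charpoly_map]
  have hroot : ∀ x, B.charpoly.IsRoot x → x ≠ 0 ∧ B.charpoly.IsRoot ((x ^ q)⁻¹) := by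
    intro x hx
    rw [← hcp] at hx ⊢
    exact root_neg_q hF A hA L x hx
  have hcardpos := bN_pos q m hq hm
  have hNL : ((bN q m * (q + 1) : ℕ) : L) ≠ 0 := by
    intro h
    have h1 : p ∣ bN q m * (q + 1) := (CharP.cast_eq_zero_iff L p _).mp h
    have hpq : p ∣ q := by rw [hqp]; exact dvd_pow_self p (by omega)
    have h1' : ¬ p ∣ 1 := fun h => hp.one_lt.ne' (Nat.dvd_one.mp h)
    rcases (Nat.Prime.dvd_mul hp).mp h1 with h2 | h2
    · have h3 : p ∣ q ^ m := hpq.trans (dvd_pow_self q (by omega))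
      unfold bN at h2
      have h4 : 1 ≤ q ^ m := Nat.one_le_pow _ _ (by omega)
      split_ifs at h2
      · exact h1' ((Nat.dvd_add_right h3).mp h2)
      · have h5 := Nat.dvd_sub h3 h2
        have h6 : q ^ m - (q ^ m - 1) = 1 := by omega
        rw [h6] at h5
        exact h1' h5
    · exact h1' ((Nat.dvd_add_right hpq).mp h2)
  have hB1 : B ^ (bN q m * (q + 1)) = 1 := by rw [hBpow, hN, map_one]
  obtain ⟨r, hr, hrN, hrq, hrk⟩ := zsig q m hq hodd hm
  obtain ⟨s, hs⟩ := hrN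
  have hrq1 : ¬ r ∣ q + 1 := by
    intro h
    apply hrk 1 (by omega) (by omega)
    rw [pow_one, show -(q : ℤ) - 1 = -(((q + 1 : ℕ)) : ℤ) by push_cast; ring, dvd_neg]
    exact_mod_cast h
  -- an eigenvalue with nontrivial `s(q+1)`-th power
  obtain ⟨x, hx, hxs⟩ : ∃ x, B.charpoly.IsRoot x ∧ x ^ (s * (q + 1)) ≠ 1 := by
    by_contra hcon
    push Not at hcon
    have hs0 : 0 < s * (q + 1) := by
      rcases Nat.eq_zero_or_pos s with rfl | h
      · rw [mul_zero] at hs; omega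
      · positivity
    have h1 := aeval_eq_zero_of_roots B _ hNL hB1 (X ^ (s * (q + 1)) - 1) (by
      exact (monic_X_pow_sub_C (1 : L) hs0.ne').ne_zero) (by
      intro x hx
      rw [IsRoot.def, eval_sub, eval_pow, eval_X, eval_one, hcon x hx, sub_self])
    rw [map_sub, map_pow, aeval_X, map_one, sub_eq_zero, hBpow, ← map_one ((algebraMap F L).mapMatrix)] at h1
    exact hX r s hr hs hrq1 (hinj h1)
  have hx0 : x ≠ 0 := (hroot x hx).1
  have hxN : x ^ (bN q m * (q + 1)) = 1 := by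
    have h1 := hx
    rw [Polynomial.IsRoot.def, Matrix.eval_charpoly, ← Matrix.exists_mulVec_eq_zero_iff] at h1
    obtain ⟨v, hv0, hv⟩ := h1
    have hv1 : B *ᵥ v = x • v := by
      rw [Matrix.sub_mulVec, sub_eq_zero] at hv
      rw [← hv]
      ext i
      simp [Matrix.scalar_apply, Matrix.mulVec_diagonal]
    have hv2 : ∀ k, (B ^ k) *ᵥ v = (x ^ k) • v := by
      intro k
      induction k with
      | zero => simp
      | succ k ih => rw [pow_succ, ← Matrix.mulVec_mulVec, hv1, Matrix.mulVec_smul, ih, smul_smul, pow_succ, mul_comm]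
    have h3 := hv2 (bN q m * (q + 1))
    rw [hB1, Matrix.one_mulVec] at h3
    obtain ⟨i, hi⟩ := Function.ne_iff.mp hv0
    have h4 := congrFun h3 i
    rw [Pi.smul_apply, smul_eq_mul] at h4
    exact (mul_right_cancel₀ hi (by rw [one_mul]; exact h4)).symm
  obtain ⟨u, hu⟩ : ∃ u : Lˣ, (u : L) = x := ⟨Units.mk0 x hx0, rfl⟩
  have hmem : ∀ i : ℕ, B.charpoly.IsRoot ((u ^ ((-(q : ℤ)) ^ i) : Lˣ) : L) := by
    intro i
    induction i with
    | zero => rw [pow_zero, zpow_one, hu]; exact hx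
    | succ i ih =>
      have h1 := (hroot _ ih).2
      have h2 : ((u ^ ((-(q : ℤ)) ^ (i + 1)) : Lˣ) : L) = ((((u ^ ((-(q : ℤ)) ^ i) : Lˣ) : L)) ^ q)⁻¹ := by
        rw [← Units.val_pow_eq_pow_val, ← Units.val_inv_eq_inv_val, ← zpow_natCast, ← _root_.zpow_mul, ← _root_.zpow_neg]
        congr 2
        rw [pow_succ]; ring
      rw [h2]; exact h1
  have hord : orderOf (u ^ (s * (q + 1))) = r := by
    have : Fact r.Prime := ⟨hr⟩
    apply orderOf_eq_prime
    · rw [← pow_mul, show s * (q + 1) * r = bN q m * (q + 1) by rw [hs]; ring]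
      apply Units.ext
      rw [Units.val_pow_eq_pow_val, hu, hxN, Units.val_one]
    · intro h
      apply hxs
      rw [← hu, ← Units.val_pow_eq_pow_val, h, Units.val_one]
  have hdist : ∀ i j : ℕ, i < j → j < 2 * m → u ^ ((-(q : ℤ)) ^ i) ≠ u ^ ((-(q : ℤ)) ^ j) := by
    intro i j hij hj heq
    have h1 : (u ^ (s * (q + 1))) ^ ((-(q : ℤ)) ^ j - (-(q : ℤ)) ^ i) = 1 := by
      have h2 : ∀ k : ℕ, (u ^ (s * (q + 1))) ^ ((-(q : ℤ)) ^ k) = (u ^ ((-(q : ℤ)) ^ k)) ^ (s * (q + 1)) := by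
        intro k
        rw [← zpow_natCast, ← _root_.zpow_mul, mul_comm, _root_.zpow_mul, zpow_natCast]
      rw [_root_.zpow_sub, h2, h2, heq, mul_inv_cancel]
    rw [← orderOf_dvd_iff_zpow_eq_one, hord] at h1
    have h3 : (-(q : ℤ)) ^ j - (-(q : ℤ)) ^ i = (-(q : ℤ)) ^ i * ((-(q : ℤ)) ^ (j - i) - 1) := by
      rw [mul_sub, ← pow_add, mul_one]
      congr 2; omega
    rw [h3] at h1
    have hrp : Prime (r : ℤ) := Nat.prime_iff_prime_int.mp hr
    rcases hrp.dvd_or_dvd h1 with h4 | h4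
    · have h5 := hrp.dvd_of_dvd_pow h4
      rw [dvd_neg] at h5
      have : ¬ r ∣ q := by
        assumption
      exact this (by exact_mod_cast h5)
    · exact hrk (j - i) (by omega) (by omega) h4
  obtain ⟨S, hS⟩ : ∃ S : Multiset L, S = (Multiset.range (2 * m)).map (fun i => ((u ^ ((-(q : ℤ)) ^ i) : Lˣ) : L)) := ⟨_, rfl⟩
  have hSnd : S.Nodup := by
    rw [hS]
    apply Multiset.Nodup.map_on _ (Multiset.nodup_range _)
    intro i hi j hj hij
    rw [Multiset.mem_range] at hi hj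
    have hij' : u ^ ((-(q : ℤ)) ^ i) = u ^ ((-(q : ℤ)) ^ j) := Units.ext hij
    rcases lt_trichotomy i j with h | h | h
    · exact absurd hij' (hdist i j h hj)
    · exact h
    · exact absurd hij'.symm (hdist j i h hi)
  have hcpne : B.charpoly ≠ 0 := (Matrix.charpoly_monic B).ne_zero
  have hSr : S = B.charpoly.roots := by
    apply Multiset.eq_of_le_of_card_le
    · rw [Multiset.le_iff_subset hSnd]
      intro y hy
      rw [hS, Multiset.mem_map] at hy
      obtain ⟨i, -, rfl⟩ := hy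
      rw [mem_roots hcpne]
      exact hmem i
    · refine (card_roots' _).trans ?_
      rw [Matrix.charpoly_natDegree_eq_dim, Fintype.card_fin, hS, Multiset.card_map, Multiset.card_range, hn]
  have huG : u ^ G = 1 := by
    have h1 := Matrix.det_eq_prod_roots_charpoly B
    rw [hB, ← RingHom.map_det, hdet, map_one, ← hB, ← hSr, hS] at h1
    have h2 : (Multiset.map (fun i => ((u ^ ((-(q : ℤ)) ^ i) : Lˣ) : L)) (Multiset.range (2 * m))).prod =
        ((∏ i ∈ Finset.range (2 * m), (u ^ ((-(q : ℤ)) ^ i) : Lˣ) : Lˣ) : L) := by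
      rw [Units.coe_prod]; rfl
    rw [h2] at h1
    have h3 : ∏ i ∈ Finset.range (2 * m), (u ^ ((-(q : ℤ)) ^ i) : Lˣ) = u ^ (∑ i ∈ Finset.range (2 * m), (-(q : ℤ)) ^ i) := by
      generalize 2 * m = k
      induction k with
      | zero => simp
      | succ k ih => rw [Finset.prod_range_succ, Finset.sum_range_succ, ih, _root_.zpow_add]
    rw [h3] at h1
    have h4 : u ^ (∑ i ∈ Finset.range (2 * m), (-(q : ℤ)) ^ i) = 1 := Units.ext h1.symm
    have h5 : ∑ i ∈ Finset.range (2 * m), (-(q : ℤ)) ^ i = -((G : ℕ) : ℤ) := by rw [← hG, neg_neg]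
    rw [h5, _root_.zpow_neg, inv_eq_one, zpow_natCast] at h4
    exact h4
  have ha1 : (u ^ M) ^ (q + 1) = 1 := by
    obtain ⟨t, ht⟩ := hd
    rw [ht, pow_mul, ← pow_mul u, hM, huG, one_pow]
  have ha2 : ∀ i : ℕ, (u ^ M) ^ ((-(q : ℤ)) ^ i) = u ^ M := by
    intro i
    have h1 : (q : ℤ) + 1 ∣ (-(q : ℤ)) ^ i - 1 := by
      have h2 := sub_one_dvd_pow_sub_one (-(q : ℤ)) i
      have h3 : (q : ℤ) + 1 ∣ -(q : ℤ) - 1 := ⟨-1, by ring⟩
      exact h3.trans h2
    obtain ⟨t, ht⟩ := h1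
    have h4 : (-(q : ℤ)) ^ i = ((q + 1 : ℕ) : ℤ) * t + 1 := by push_cast; linarith
    rw [h4, _root_.zpow_add, _root_.zpow_mul, zpow_natCast, ha1, _root_.one_zpow, one_mul, zpow_one]
  rcases Nat.eq_zero_or_pos M with hM0 | hM0
  · subst hM0
    refine ⟨1, ?_⟩
    rw [pow_zero]
    exact Matrix.diagonal_one.symm
  have h1 := aeval_eq_zero_of_roots B _ hNL hB1 (X ^ M - C ((u ^ M : Lˣ) : L)) (monic_X_pow_sub_C _ hM0.ne').ne_zero (by
    intro y hy
    have hy1 : y ∈ S := by rw [hSr, mem_roots hcpne]; exact hy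
    rw [hS, Multiset.mem_map] at hy1
    obtain ⟨i, -, rfl⟩ := hy1
    rw [IsRoot.def, eval_sub, eval_pow, eval_X, eval_C, sub_eq_zero, ← Units.val_pow_eq_pow_val]
    congr 1
    have h5 : (u ^ ((-(q : ℤ)) ^ i)) ^ M = (u ^ M) ^ ((-(q : ℤ)) ^ i) := by
      rw [← zpow_natCast, ← _root_.zpow_mul, mul_comm, _root_.zpow_mul, zpow_natCast]
    rw [h5, ha2])
  rw [map_sub, map_pow, aeval_X, aeval_C, sub_eq_zero, hBpow] at h1
  have hn0 : 0 < n := by omega
  refine ⟨(A ^ M) ⟨0, hn0⟩ ⟨0, hn0⟩, ?_⟩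
  ext i j
  apply (algebraMap F L).injective
  have h2 := congrFun (congrFun h1 i) j
  have h3 := congrFun (congrFun h1 ⟨0, hn0⟩) ⟨0, hn0⟩
  rw [RingHom.mapMatrix_apply, Matrix.map_apply] at h2 h3
  rw [h2, Matrix.diagonal_apply]
  rw [Matrix.algebraMap_matrix_apply]
  rw [Matrix.algebraMap_matrix_apply, if_pos rfl] at h3
  split_ifs
  · rw [h3]
  · rw [map_zero]

/-- the torus generator -/
theorem exists_mat (hF : Fintype.card F = q ^ 2) (hq : 3 ≤ q) (hodd : Odd q) {m : ℕ} (hm : 2 ≤ m) (hn : m + m = n)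
    (G : ℕ) (hG : G * (q + 1) = q ^ (2 * m) - 1) :
    ∃ (K : Type) (_ : Field K) (_ : Algebra F K) (l : Kˣ) (A : Matrix (Fin n) (Fin n) F), orderOf l = G ∧ Pres q A ∧ A.det = 1 ∧
      ∀ (k : ℕ) (c : F), A ^ k = Matrix.diagonal (fun _ => c) → (l : K) ^ k = algebraMap F K c := by
  classical
  obtain ⟨p, f, hp, hchar, hf, hqp⟩ := q_prime_pow hF
  have hpf : Fact p.Prime := ⟨hp⟩
  have hm0 : NeZero m := ⟨by omega⟩
  obtain ⟨K, hKf, hKa, hKfin, hK⟩ : ∃ (K : Type) (_ : Field K) (_ : Algebra F K) (_ : Finite K), Module.finrank F K = m :=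
    ⟨FiniteField.Extension F p m, inferInstance, inferInstance, inferInstance, FiniteField.finrank_extension F p m⟩
  have hKF : Module.Finite F K := Module.Finite.of_finite
  obtain ⟨b⟩ : Nonempty (Module.Basis (Fin m) F K) := ⟨Module.finBasisOfFinrankEq F K hK⟩
  have hcardK : Nat.card K = q ^ (2 * m) := by
    rw [Module.natCard_eq_pow_finrank (K := F) (V := K), hK, Nat.card_eq_fintype_card, hF, ← pow_mul]
  obtain ⟨w, hw⟩ := IsCyclic.exists_ofOrder_eq_natCard (α := Kˣ)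
  rw [Nat.card_units, hcardK] at hw
  obtain ⟨l, hl⟩ : ∃ l : Kˣ, l = w ^ (q + 1) := ⟨_, rfl⟩
  have hlo : orderOf l = G := by
    rw [hl, orderOf_pow, hw, ← hG, Nat.gcd_eq_right (Dvd.intro_left _ rfl)]
    exact Nat.mul_div_cancel _ (by omega)
  -- the norm
  obtain ⟨N0, hN0⟩ : ∃ N0 : F, N0 = Algebra.norm F (l : K) := ⟨_, rfl⟩
  have hsum : (q - 1) * ∑ i ∈ Finset.range m, (q ^ 2) ^ i = G := by
    have h := mul_geom_sum ((q : ℤ) ^ 2) m
    have h1 : 1 ≤ q ^ (2 * m) := Nat.one_le_pow _ _ (by omega)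
    zify [h1, (by omega : 1 ≤ q)] at hG ⊢
    have h2 : (q : ℤ) + 1 ≠ 0 := by positivity
    apply mul_right_cancel₀ h2
    rw [hG, pow_mul, ← h]
    ring
  have hN1 : N0 ^ (q - 1) = 1 := by
    apply (algebraMap F K).injective
    rw [hN0, map_pow, FiniteField.algebraMap_norm_eq_pow_sum, hK, Nat.card_eq_fintype_card, hF, map_one, ← Units.val_pow_eq_pow_val,
      ← Units.val_pow_eq_pow_val, ← pow_mul, mul_comm, hsum, ← hlo, pow_orderOf_eq_one, Units.val_one]
  obtain ⟨L1, hL1⟩ : ∃ L1 : Matrix (Fin m) (Fin m) F, L1 = Algebra.leftMulMatrix b (l : K) := ⟨_, rfl⟩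
  obtain ⟨L1', hL1'⟩ : ∃ L1' : Matrix (Fin m) (Fin m) F, L1' = Algebra.leftMulMatrix b ((l⁻¹ : Kˣ) : K) := ⟨_, rfl⟩
  have h11 : L1' * L1 = 1 := by
    rw [hL1, hL1', ← map_mul, Units.inv_mul, map_one]
  have h12 : L1 * L1' = 1 := by
    rw [hL1, hL1', ← map_mul, Units.mul_inv, map_one]
  have hL1pow : ∀ (k : ℕ) (c : F), L1 ^ k = Matrix.diagonal (fun _ => c) → (l : K) ^ k = algebraMap F K c := by
    intro k c h
    apply Algebra.leftMulMatrix_injective b
    rw [map_pow, ← hL1, h, AlgHom.commutes]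
    rfl
  obtain ⟨σ, hσ⟩ : ∃ σ : F →+* F, σ = conjHom hF := ⟨_, rfl⟩
  have hσx : ∀ x, σ x = x ^ q := fun x => by rw [hσ]; rfl
  have hσσ : ∀ x, σ (σ x) = x := fun x => by rw [hσx, hσx, pow_q_pow_q hF]
  -- the second block
  obtain ⟨L2, hL2⟩ : ∃ L2 : Matrix (Fin m) (Fin m) F, L2 = (L1'.map σ)ᵀ := ⟨_, rfl⟩
  have hL2s : L2.map σ = L1'ᵀ := by
    rw [hL2]; ext i j; simp only [Matrix.map_apply, Matrix.transpose_apply, hσσ]
  have hone : (1 : Matrix (Fin m) (Fin m) F).map σ = 1 := by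
    rw [← RingHom.mapMatrix_apply, map_one]
  have e1 : L1ᵀ * L2.map σ = 1 := by rw [hL2s, ← Matrix.transpose_mul, h11, Matrix.transpose_one]
  have e2 : L2ᵀ * L1.map σ = 1 := by
    rw [hL2, Matrix.transpose_transpose, ← Matrix.map_mul, h11, hone]
  have hdetL1 : L1.det = N0 := by rw [hN0, hL1, Algebra.norm_eq_matrix_det b]
  have hdetL2 : L1.det * L2.det = 1 := by
    have h3 := congrArg Matrix.det e2
    rw [Matrix.det_mul, Matrix.det_transpose, Matrix.det_one, ← RingHom.mapMatrix_apply, ← RingHom.map_det, hσx, hdetL1] at h3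
    rw [hdetL1, mul_comm]
    have h4 : N0 ^ q = N0 := by
      have h5 : q = q - 1 + 1 := by omega
      rw [h5, pow_succ, hN1, one_mul]
    rw [h4] at h3
    exact h3
  obtain ⟨D, hD⟩ : ∃ D : Matrix (Fin m ⊕ Fin m) (Fin m ⊕ Fin m) F, D = Matrix.fromBlocks L1 0 0 L2 := ⟨_, rfl⟩
  have hdetD : D.det = 1 := by rw [hD, Matrix.det_fromBlocks_zero₂₁, hdetL2]
  -- change of basis
  obtain ⟨c, hc⟩ := exists_norm_eq hF (c := (-1 : F)) (by
    rw [neg_pow_q hF, one_pow])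
  have h2F : (2 : F) ≠ 0 := by
    intro h
    have h1 : p ∣ 2 := (CharP.cast_eq_zero_iff F p 2).mp (by exact_mod_cast h)
    have h2 : p = 2 := (Nat.prime_dvd_prime_iff_eq hp Nat.prime_two).mp h1
    rw [h2] at hqp
    rw [hqp] at hodd
    have h3 : Even (2 ^ f) := (even_two).pow_of_ne_zero (by omega)
    exact (Nat.not_even_iff_odd.mpr hodd) h3
  have hcc : c * σ c = -1 := by rw [hσx, ← pow_succ', hc]
  have hσ2 : σ (2⁻¹) = 2⁻¹ := by rw [map_inv₀, map_ofNat]
  obtain ⟨S, hS⟩ : ∃ S : Matrix (Fin m ⊕ Fin m) (Fin m ⊕ Fin m) F, S = Matrix.fromBlocks 1 ((2⁻¹ : F) • 1) (c • 1) ((-(c * 2⁻¹)) • 1) := ⟨_, rfl⟩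
  obtain ⟨J, hJ⟩ : ∃ J : Matrix (Fin m ⊕ Fin m) (Fin m ⊕ Fin m) F, J = Matrix.fromBlocks 0 1 1 0 := ⟨_, rfl⟩
  have hJJ : J * J = 1 := by
    rw [hJ, Matrix.fromBlocks_multiply]
    simp
  have hSS : Sᵀ * S.map σ = J := by
    rw [hS, hJ, Matrix.fromBlocks_transpose, Matrix.fromBlocks_map, Matrix.fromBlocks_multiply]
    have hsm : ∀ a : F, (a • (1 : Matrix (Fin m) (Fin m) F)).map σ = (σ a) • 1 := by
      intro a
      ext i j
      simp only [Matrix.map_apply, Matrix.smul_apply, smul_eq_mul, map_mul, Matrix.one_apply]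
      split_ifs <;> simp
    rw [hone, hsm, hsm, hsm, hσ2, map_neg, map_mul, hσ2]
    simp only [Matrix.transpose_one, Matrix.transpose_smul, Matrix.mul_one, Matrix.smul_mul, Matrix.mul_smul, smul_smul, Matrix.one_mul]
    have h21 : (2 : F)⁻¹ * 2 = 1 := inv_mul_cancel₀ h2F
    congr 1
    · ext i j
      simp only [Matrix.add_apply, Matrix.smul_apply, smul_eq_mul, Matrix.zero_apply]
      linear_combination ((1 : Matrix (Fin m) (Fin m) F) i j) * hcc
    · ext i j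
      simp only [Matrix.add_apply, Matrix.smul_apply, smul_eq_mul]
      linear_combination (-(2 : F)⁻¹ * (1 : Matrix (Fin m) (Fin m) F) i j) * hcc + ((1 : Matrix (Fin m) (Fin m) F) i j) * h21
    · ext i j
      simp only [Matrix.add_apply, Matrix.smul_apply, smul_eq_mul]
      linear_combination (-(2 : F)⁻¹ * (1 : Matrix (Fin m) (Fin m) F) i j) * hcc + ((1 : Matrix (Fin m) (Fin m) F) i j) * h21
    · ext i j
      simp only [Matrix.add_apply, Matrix.smul_apply, smul_eq_mul, Matrix.zero_apply]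
      linear_combination ((2 : F)⁻¹ * (2 : F)⁻¹ * (1 : Matrix (Fin m) (Fin m) F) i j) * hcc
  -- inverse of S
  obtain ⟨R, hR⟩ : ∃ R : Matrix (Fin m ⊕ Fin m) (Fin m ⊕ Fin m) F, R = (J * Sᵀ).map σ := ⟨_, rfl⟩
  have hJσ : J.map σ = J := by
    rw [hJ, Matrix.fromBlocks_map, hone]
    congr 1
    · ext i j; simp
    · ext i j; simp
  have hmapσσ : ∀ M : Matrix (Fin m ⊕ Fin m) (Fin m ⊕ Fin m) F, (M.map σ).map σ = M := by
    intro M; ext i j; simp only [Matrix.map_apply, hσσ]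
  have hRS : R * S = 1 := by
    have h1 : (J * Sᵀ) * S.map σ = 1 := by rw [Matrix.mul_assoc, hSS, hJJ]
    have h2 := congrArg (fun M : Matrix (Fin m ⊕ Fin m) (Fin m ⊕ Fin m) F => M.map σ) h1
    simp only [Matrix.map_mul, hmapσσ] at h2
    rw [← Matrix.map_mul, ← hR] at h2
    rw [h2, ← RingHom.mapMatrix_apply, map_one]
  have hSR : S * R = 1 := mul_eq_one_comm.mp hRS
  have hDJ : Dᵀ * J * D.map σ = J := by
    rw [hD, hJ, Matrix.fromBlocks_transpose, Matrix.fromBlocks_map, Matrix.fromBlocks_multiply, Matrix.fromBlocks_multiply]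
    simp only [Matrix.mul_zero, Matrix.mul_one, Matrix.zero_mul, Matrix.transpose_zero, zero_add, add_zero, e1, e2, Matrix.map_zero _ (map_zero σ)]
  obtain ⟨A0, hA0⟩ : ∃ A0 : Matrix (Fin m ⊕ Fin m) (Fin m ⊕ Fin m) F, A0 = S * D * R := ⟨_, rfl⟩
  have hA0p : A0ᵀ * A0.map σ = 1 := by
    rw [hA0, Matrix.transpose_mul, Matrix.transpose_mul, Matrix.map_mul, Matrix.map_mul]
    have h1 : Rᵀ * (Dᵀ * Sᵀ) * (S.map σ * D.map σ * R.map σ) = Rᵀ * (Dᵀ * (Sᵀ * S.map σ) * D.map σ) * R.map σ := by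
      simp only [Matrix.mul_assoc]
    rw [h1, hSS, hDJ]
    have h2 : R.map σ = J * Sᵀ := by rw [hR, hmapσσ]
    rw [h2]
    have h3 : Rᵀ * J * (J * Sᵀ) = Rᵀ * (J * J) * Sᵀ := by simp only [Matrix.mul_assoc]
    rw [h3, hJJ, Matrix.mul_one, ← Matrix.transpose_mul, hSR, Matrix.transpose_one]
  have hA0d : A0.det = 1 := by
    rw [hA0, Matrix.det_mul, Matrix.det_mul, hdetD, mul_one, ← Matrix.det_mul, hSR, Matrix.det_one]
  have hA0k : ∀ k, A0 ^ k = S * D ^ k * R := by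
    intro k
    induction k with
    | zero => rw [pow_zero, pow_zero, Matrix.mul_one, hSR]
    | succ k ih =>
      rw [pow_succ, ih, hA0, pow_succ]
      have : S * D ^ k * R * (S * D * R) = S * D ^ k * (R * S) * (D * R) := by simp only [Matrix.mul_assoc]
      rw [this, hRS, Matrix.mul_one]
      simp only [Matrix.mul_assoc]
  have hDk : ∀ k, D ^ k = Matrix.fromBlocks (L1 ^ k) 0 0 (L2 ^ k) := by
    intro k
    induction k with
    | zero => rw [pow_zero, pow_zero, pow_zero, Matrix.fromBlocks_one]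
    | succ k ih =>
      rw [pow_succ, ih, hD, Matrix.fromBlocks_multiply]
      simp only [Matrix.mul_zero, Matrix.zero_mul, zero_add, add_zero, pow_succ]
  obtain ⟨e, he⟩ : ∃ e : Fin m ⊕ Fin m ≃ Fin n, e = finSumFinEquiv.trans (finCongr hn) := ⟨_, rfl⟩
  refine ⟨K, hKf, hKa, l, Matrix.reindexAlgEquiv F F e A0, hlo, ?_, ?_, ?_⟩
  · rw [pres_iff_transpose_mul hF, ← hσ]
    have h1 : (Matrix.reindexAlgEquiv F F e A0)ᵀ = Matrix.reindexAlgEquiv F F e A0ᵀ := rfl
    have h2 : (Matrix.reindexAlgEquiv F F e A0).map σ = Matrix.reindexAlgEquiv F F e (A0.map σ) := rfl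
    rw [h1, h2, ← map_mul, hA0p, map_one]
  · rw [Matrix.det_reindexAlgEquiv, hA0d]
  · intro k c hk
    apply hL1pow
    rw [← map_pow] at hk
    have h1 : A0 ^ k = Matrix.diagonal (fun _ => c) := by
      apply (Matrix.reindexAlgEquiv F F e).injective
      rw [hk]
      ext i j
      simp only [Matrix.reindexAlgEquiv_apply, Matrix.reindex_apply, Matrix.submatrix_apply, Matrix.diagonal_apply, EmbeddingLike.apply_eq_iff_eq]
    rw [hA0k] at h1
    have h2 : D ^ k = Matrix.diagonal (fun _ => c) := by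
      have h3 : R * (S * D ^ k * R) * S = (R * S) * D ^ k * (R * S) := by simp only [Matrix.mul_assoc]
      rw [h1, hRS, Matrix.one_mul, Matrix.mul_one] at h3
      rw [← h3]
      have h4 : (Matrix.diagonal (fun _ => c) : Matrix (Fin m ⊕ Fin m) (Fin m ⊕ Fin m) F) = c • 1 := by
        rw [← Matrix.diagonal_one, ← Matrix.diagonal_smul]
        congr 1
        funext i
        simp
      rw [h4, Matrix.mul_smul, Matrix.mul_one, Matrix.smul_mul, hRS]
    rw [hDk] at h2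
    ext i j
    have h3 := congrFun (congrFun h2 (Sum.inl i)) (Sum.inl j)
    rw [Matrix.fromBlocks_apply₁₁] at h3
    rw [h3]
    simp only [Matrix.diagonal_apply, Sum.inl.injEq]

end Cfsg.Agent.H43.PsuTorus
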