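import Cfsg.Agent.PSU3Id.ModelB
import Cfsg.Agent.H34.Involves
import Cfsg.Prelude.Def_LocalEven

/-! S2755, pieces P5d2, P5e: Sylow 2-subgroups of `PSU₃(2ⁿ)` are TI; `S₃` embeds in `PSU₃(2ⁿ)` -/

set_option autoImplicit false

namespace Cfsg.Agent.H43.RtU3

open Cfsg Cfsg.Agent.Uni Cfsg.Agent.AutPSU Cfsg.Agent.PSU3Id Cfsg.Agent.PSU3Id.Model Matrix

theorem charTwo {F : Type*} [Field F] [Fintype F] {n : ℕ} (hF : Fintype.card F = 4 ^ n) :
    CharP F 2 := by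
  obtain ⟨p, hp⟩ := CharP.exists F
  haveI := hp
  haveI hpp : Fact p.Prime := ⟨(CharP.char_is_prime F p)⟩
  obtain ⟨m, -, hm⟩ := FiniteField.card F p
  rw [hF] at hm
  have h1 : p ∣ 4 ^ n := by rw [hm]; exact dvd_pow_self p m.ne_zero
  have h2 : p ∣ 2 := by
    have := hpp.out.dvd_of_dvd_pow h1
    rw [show (4 : ℕ) = 2 ^ 2 by norm_num] at this
    exact hpp.out.dvd_of_dvd_pow this
  have h3 : p = 2 := (Nat.prime_dvd_prime_iff_eq hpp.out Nat.prime_two).1 h2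
  rwa [h3] at hp

theorem psu3_ti {F : Type*} [Field F] [Fintype F] (n : ℕ) (hn : 2 ≤ n) (hF : Fintype.card F = 4 ^ n)
    (S T : Sylow 2 (Cfsg.PSU 3 F (2 ^ n))) (h : S ≠ T) : S.toSubgroup ⊓ T.toSubgroup = ⊥ := by
  haveI := charTwo hF
  have hF' : Fintype.card F = (2 ^ n) ^ 2 := by
    rw [hF, ← pow_mul, mul_comm n 2, pow_mul]; norm_num
  obtain ⟨u, hu⟩ := exists_isP hF' S
  obtain ⟨v, hH, hv⟩ := exists_pair hF' hu h.symm
  rw [eq_bot_iff]
  rintro x ⟨hx, hx'⟩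
  exact Subgroup.mem_bot.2 (ti hF' hu hv hH hx hx')

variable {F : Type*} [Field F] [Fintype F]

/-- permutation matrices in `SU₃` -/
def pm [CharP F 2] (q : ℕ) : Equiv.Perm (Fin 3) →* SU 3 F q where
  toFun σ := ⟨⟨(σ⁻¹).permMatrix F, by
    rw [Matrix.det_permutation]
    rcases Int.units_eq_one_or (Equiv.Perm.sign σ⁻¹) with h | h <;> rw [h]
    · simp
    · have : (-1 : F) = 1 := CharTwo.neg_eq 1
      simpa using this⟩, by
    intro u v
    show hermForm 3 F q ((σ⁻¹).permMatrix F *ᵥ u) ((σ⁻¹).permMatrix F *ᵥ v) = hermForm 3 F q u v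
    rw [Matrix.permMatrix_mulVec, Matrix.permMatrix_mulVec]
    exact Equiv.sum_comp (σ⁻¹) (fun i => u i * (v i) ^ q)⟩
  map_one' := by
    apply Subtype.ext
    apply Subtype.ext
    show (1 : Equiv.Perm (Fin 3))⁻¹.permMatrix F = 1
    rw [inv_one, Matrix.permMatrix_one]
  map_mul' σ τ := by
    apply Subtype.ext
    apply Subtype.ext
    show (σ * τ)⁻¹.permMatrix F = (σ⁻¹).permMatrix F * (τ⁻¹).permMatrix F
    rw [_root_.mul_inv_rev, Matrix.permMatrix_mul]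

theorem act_pm [CharP F 2] (q : ℕ) (σ : Equiv.Perm (Fin 3)) (x : Fin 3 → F) :
    act (pm q σ) x = x ∘ (σ⁻¹ : Equiv.Perm (Fin 3)) := by
  show (σ⁻¹).permMatrix F *ᵥ x = _
  rw [Matrix.permMatrix_mulVec]

theorem s3_psu3 {F : Type*} [Field F] [Fintype F] (n : ℕ) (hn : 2 ≤ n)
    (hF : Fintype.card F = 4 ^ n) :
    Cfsg.Involves (Equiv.Perm (Fin 3)) (Cfsg.PSU 3 F (2 ^ n)) := by
  haveI := charTwo hF
  have hF' : Fintype.card F = (2 ^ n) ^ 2 := by
    rw [hF, ← pow_mul, mul_comm n 2, pow_mul]; norm_num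
  let f : Equiv.Perm (Fin 3) →* Cfsg.PSU 3 F (2 ^ n) := (toPSU 3 F (2 ^ n)).comp (pm (2 ^ n))
  have hf : Function.Injective f := by
    rw [injective_iff_map_eq_one]
    intro σ hσ
    have h1 : toPSU 3 F (2 ^ n) 1 = toPSU 3 F (2 ^ n) (pm (2 ^ n) σ) := by
      rw [map_one]; exact hσ.symm
    obtain ⟨c, hc, hce⟩ := (toPSU_eq hF' (by omega)).1 h1
    ext i
    have h2 := hce (Pi.single i 1)
    rw [act_pm, act_one] at h2
    have h3 := congrFun h2 (σ i)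
    have e : (σ⁻¹ : Equiv.Perm (Fin 3)) (σ i) = i := by simp
    rw [Function.comp_apply, e, Pi.single_eq_same, Pi.smul_apply, smul_eq_mul] at h3
    by_contra hne
    have hne' : σ i ≠ i := fun e => hne (congrArg _ e)
    rw [Pi.single_eq_of_ne hne', mul_zero] at h3
    exact one_ne_zero h3
  refine H34.involves_of_injective f hf ?_
  exact ⟨⊤, ⊥, inferInstance, ⟨(QuotientGroup.quotientMulEquivOfEq
    (Subgroup.bot_subgroupOf _)).trans ((QuotientGroup.quotientBot).trans Subgroup.topEquiv)⟩⟩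

end Cfsg.Agent.H43.RtU3
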