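import Mathlib
import Cfsg.Agent.H43.NormSub
import Cfsg.Agent.H43.SympEquiv

set_option autoImplicit false
set_option linter.unusedSectionVars false
set_option linter.unusedVariables false

/-! Conjugacy of semisimple isometries. -/

namespace Cfsg.Agent.H43

theorem bic_star' {E : Type*} [Ring E] [Finite E] (X : Set E) (τ : E → E) 
    (hmul : ∀ x y, τ (x * y) = τ y * τ x) (hinv : ∀ x, τ (τ x) = x) (hX : ∀ x ∈ X, τ x ∈ X) :
    ∀ x ∈ bic X, τ x ∈ bic X := by
  have hinj : Function.Injective τ := fun x y h => by rw [← hinv x, h, hinv]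
  apply bic_star X τ hmul hinj
  intro x hx z hz
  have h1 : τ x * z = z * τ x := hz (τ x) (hX x hx)
  have h2 := congrArg τ h1
  rw [hmul, hmul, hinv] at h2
  exact h2.symm

section core

variable {F U U' : Type*} [Field F] [Finite F] [AddCommGroup U] [Module F U] [FiniteDimensional F U]
  [AddCommGroup U'] [Module F U'] [FiniteDimensional F U']

theorem core_isometry (B : LinearMap.BilinForm F U) (B' : LinearMap.BilinForm F U') (ε : F) (hε : ε * ε = 1)
    (hs : ∀ x y, B y x = ε * B x y) (hs' : ∀ x y, B' y x = ε * B' x y) 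
    (hB : B.Nondegenerate) (hB' : B'.Nondegenerate)
    (a : U ≃ₗ[F] U) (c : U' ≃ₗ[F] U') (ha : ∀ x y, B (a x) (a y) = B x y) (hc : ∀ x y, B' (c x) (c y) = B' x y)
    (hinj : ∀ x, a (a x) = x → x = 0) (g : U ≃ₗ[F] U') (hg : ∀ x, g (a x) = c (g x)) :
    ∃ k : U ≃ₗ[F] U', (∀ x, k (a x) = c (k x)) ∧ ∀ x y, B' (k x) (k y) = B x y := by
  have hfU : Finite U := Module.finite_of_finite F
  have hfE : Finite (Module.End F U) := by
    exact Finite.of_injective (fun f : Module.End F U => (f : U → U)) DFunLike.coe_injective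
  have hadj : ∀ C : LinearMap.BilinForm F U, ∃ h : Module.End F U, ∀ x y, C x y = B (h x) y := by
    intro C
    obtain ⟨h, hh⟩ : ∃ h : Module.End F U, h = (B.toDual hB).symm.toLinearMap ∘ₗ C := ⟨_, rfl⟩
    refine ⟨h, ?_⟩
    intro x y
    rw [hh, LinearMap.comp_apply]
    have := LinearMap.BilinForm.apply_toDual_symm_apply (B := B) (hB := hB) (C x) y
    exact this.symm
  have hnd : ∀ v, (∀ w, B v w = 0) → v = 0 := hB.1
  have hsw : ∀ x y, B x y = ε * B y x := fun x y => hs y x
  choose τ hτ' using fun f : Module.End F U => hadj (B.compRight f)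
  have hτ : ∀ f x y, B (τ f x) y = B x (f y) := fun f x y => (hτ' f x y).symm
  have hτ2 : ∀ f x y, B (f x) y = B x (τ f y) := by
    intro f x y
    rw [hsw, ← hτ, hsw (τ f y) x, ← mul_assoc, hε, one_mul]
  have hext : ∀ f f' : Module.End F U, (∀ x y, B (f x) y = B (f' x) y) → f = f' := by
    intro f f' h
    apply LinearMap.ext
    intro x
    rw [← sub_eq_zero]
    apply hnd
    intro y
    rw [map_sub, LinearMap.sub_apply, h, sub_self]
  have hτmul : ∀ x y, τ (x * y) = τ y * τ x := by
    intro f f'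
    apply hext
    intro x y
    rw [hτ, Module.End.mul_apply, Module.End.mul_apply, hτ, hτ]
  have hτadd : ∀ x y, τ (x + y) = τ x + τ y := by
    intro f f'
    apply hext
    intro x y
    rw [hτ, LinearMap.add_apply, map_add, LinearMap.add_apply, map_add, LinearMap.add_apply, hτ, hτ]
  have hτ1 : τ 1 = 1 := by
    apply hext
    intro x y
    rw [hτ]; rfl
  have hττ : ∀ f, τ (τ f) = f := by
    intro f
    apply hext
    intro x y
    rw [hτ, ← hτ2]
  obtain ⟨h, hh'⟩ := hadj (B'.comp (g : U →ₗ[F] U') (g : U →ₗ[F] U'))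
  have hh : ∀ x y, B (h x) y = B' (g x) (g y) := by
    intro x y
    rw [← hh']; rfl
  have hτh : τ h = h := by
    apply hext
    intro x y
    rw [hτ, hsw, hh, hs', ← mul_assoc, hε, one_mul, hh]
  -- a as endomorphism
  obtain ⟨A, hA⟩ : ∃ A : Module.End F U, ∀ x, A x = a x := ⟨(a : U →ₗ[F] U), fun _ => rfl⟩
  obtain ⟨Ai, hAi⟩ : ∃ Ai : Module.End F U, ∀ x, Ai x = a.symm x := ⟨(a.symm : U →ₗ[F] U), fun _ => rfl⟩
  have hAAi : A * Ai = 1 := by
    apply LinearMap.ext; intro x
    rw [Module.End.mul_apply, hA, hAi, LinearEquiv.apply_symm_apply]; rfl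
  have hAiA : Ai * A = 1 := by
    apply LinearMap.ext; intro x
    rw [Module.End.mul_apply, hA, hAi, LinearEquiv.symm_apply_apply]; rfl
  have hτA : τ A = Ai := by
    apply hext
    intro x y
    rw [hτ, hA, hAi, ← ha (a.symm x), LinearEquiv.apply_symm_apply]
  have hτAi : τ Ai = A := by rw [← hτA, hττ]
  have hAh : A * h = h * A := by
    apply hext
    intro x y
    obtain ⟨y', rfl⟩ := a.surjective y
    rw [Module.End.mul_apply, Module.End.mul_apply, hA, hA, ha, hh, hh, hg, hg, hc]
  have hAih : Ai * h = h * Ai := by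
    have := congrArg τ hAh
    rw [hτmul, hτmul, hτh, hτA] at this
    exact this.symm
  obtain ⟨X, hX⟩ : ∃ X : Set (Module.End F U), X = {h, A, Ai} := ⟨_, rfl⟩
  have hXc : ∀ x ∈ X, ∀ y ∈ X, x * y = y * x := by
    intro x hx y hy
    rw [hX] at hx hy
    simp only [Set.mem_insert_iff, Set.mem_singleton_iff] at hx hy
    rcases hx with rfl | rfl | rfl <;> rcases hy with rfl | rfl | rfl
    · rfl
    · exact hAh.symm
    · exact hAih.symm
    · exact hAh
    · rfl
    · rw [hAAi, hAiA]
    · exact hAih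
    · rw [hAAi, hAiA]
    · rfl
  have hbs := bic_star' X τ hτmul hττ (by
    intro x hx
    rw [hX] at hx ⊢
    simp only [Set.mem_insert_iff, Set.mem_singleton_iff] at hx ⊢
    rcases hx with rfl | rfl | rfl
    · left; exact hτh
    · right; right; exact hτA
    · right; left; exact hτAi)
  obtain ⟨_, hN⟩ := norm_package (bic X) (bic_comm X hXc) τ hbs (fun x _ y _ => hτadd x y)
    (fun x _ y _ => hτmul x y) hτ1 (fun x _ => hττ x) A (subset_bic X (by rw [hX]; simp)) (by
      rw [hτA, Module.End.isUnit_iff]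
      have h1 : Function.Injective (A - Ai) := by
        rw [injective_iff_map_eq_zero]
        intro x hx
        rw [LinearMap.sub_apply, sub_eq_zero, hA, hAi] at hx
        apply hinj
        rw [hx, LinearEquiv.apply_symm_apply]
      exact ⟨h1, LinearMap.surjective_of_injective h1⟩)
  have hhu : IsUnit h := by
    rw [Module.End.isUnit_iff]
    have h1 : Function.Injective h := by
      rw [injective_iff_map_eq_zero]
      intro x hx
      have : g x = 0 := by
        apply hB'.1
        intro y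
        obtain ⟨y', rfl⟩ := g.surjective y
        rw [← hh, hx]
        simp
      exact g.map_eq_zero_iff.1 this
    exact ⟨h1, LinearMap.surjective_of_injective h1⟩
  obtain ⟨c0, hc0, hcu, hch⟩ := hN h (subset_bic X (by rw [hX]; simp)) hhu hτh
  have hch' : τ c0 * c0 = h := by
    rw [← hch]
    exact bic_comm X hXc _ (hbs _ hc0) _ hc0
  obtain ⟨w, hw⟩ := hcu
  have hAc : A * c0 = c0 * A := by
    apply bic_commute X _ hc0
    intro x hx
    rw [hX] at hx
    simp only [Set.mem_insert_iff, Set.mem_singleton_iff] at hx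
    rcases hx with rfl | rfl | rfl
    · exact hAh.symm
    · rfl
    · rw [hAAi, hAiA]
  have h3 : ∀ z, (LinearMap.GeneralLinearGroup.generalLinearEquiv F U w⁻¹) z = (((w⁻¹ : (Module.End F U)ˣ)) : Module.End F U) z := fun z => rfl
  have hw1 : ∀ z, c0 ((((w⁻¹ : (Module.End F U)ˣ)) : Module.End F U) z) = z := by
    intro z
    rw [← hw, ← Module.End.mul_apply, Units.mul_inv]; rfl
  refine ⟨(LinearMap.GeneralLinearGroup.generalLinearEquiv F U w⁻¹).trans g, ?_, ?_⟩
  · intro x
    rw [LinearEquiv.trans_apply, LinearEquiv.trans_apply, h3, h3, ← hg]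
    congr 1
    have hcinj : Function.Injective c0 := by
      have : IsUnit c0 := ⟨w, hw⟩
      exact ((Module.End.isUnit_iff _).1 this).1
    apply hcinj
    rw [hw1]
    have := LinearMap.congr_fun hAc ((((w⁻¹ : (Module.End F U)ˣ)) : Module.End F U) x)
    rw [Module.End.mul_apply, Module.End.mul_apply, hw1, hA, hA] at this
    exact this
  · intro x y
    rw [LinearEquiv.trans_apply, LinearEquiv.trans_apply, h3, h3, ← hh, ← hch', Module.End.mul_apply, hw1, hτ, hw1]

end core

section glue

variable {F V W : Type*} [Field F] [AddCommGroup V] [Module F V] [AddCommGroup W] [Module F W]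

theorem glue (U U' : Submodule F V) (h : IsCompl U U') (T T' : Submodule F W) (h' : IsCompl T T')
    (k1 : U ≃ₗ[F] T) (k2 : U' ≃ₗ[F] T') :
    ∃ k : V ≃ₗ[F] W, (∀ x : U, k x = k1 x) ∧ (∀ x : U', k x = k2 x) := by
  refine ⟨(Submodule.prodEquivOfIsCompl U U' h).symm.trans ((k1.prodCongr k2).trans
    (Submodule.prodEquivOfIsCompl T T' h')), ?_, ?_⟩
  · intro x
    rw [LinearEquiv.trans_apply, Submodule.prodEquivOfIsCompl_symm_apply_left, LinearEquiv.trans_apply]
    simp
  · intro x
    rw [LinearEquiv.trans_apply, Submodule.prodEquivOfIsCompl_symm_apply_right, LinearEquiv.trans_apply]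
    simp

end glue

end Cfsg.Agent.H43
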