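import Mathlib
import Cfsg.Agent.H43.SemiConj

set_option autoImplicit false
set_option linter.unusedSectionVars false
set_option linter.unusedVariables false

/-! Splitting off eigenspaces of semisimple isometries. -/

namespace Cfsg.Agent.H43

section split
variable {F V : Type*} [Field F] [AddCommGroup V] [Module F V] [FiniteDimensional F V]

/-- semisimplicity at an eigenvalue -/
theorem ss_of_pow {a : Module.End F V} {N : ℕ} (hN : (N : F) ≠ 0) (ha : a ^ N = 1) (ε : F) (y : V)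
    (h : a (a y - ε • y) = ε • (a y - ε • y)) : a y - ε • y = 0 := by
  obtain ⟨x, hx⟩ : ∃ x, x = a y - ε • y := ⟨_, rfl⟩
  rw [← hx] at h ⊢
  have hay : a y = ε • y + x := by rw [hx]; abel
  have h1 : ∀ n : ℕ, (a ^ n) x = ε ^ n • x := by
    intro n
    induction n with
    | zero => simp
    | succ n ih => rw [pow_succ', Module.End.mul_apply, ih, map_smul, h, smul_smul, pow_succ]
  have h2 : ∀ n : ℕ, (a ^ (n + 1)) y = ε ^ (n + 1) • y + (((n : F) + 1) * ε ^ n) • x := by
    intro n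
    induction n with
    | zero => simp [hay]
    | succ n ih =>
      rw [pow_succ', Module.End.mul_apply, ih, map_add, map_smul, map_smul, hay, h, smul_add, smul_smul, smul_smul,
        add_assoc, ← add_smul]
      congr 1
      · rw [pow_succ ε (n + 1)]
      · congr 1
        push_cast
        ring
  by_cases hε : ε ^ N = 1
  · have hN0 : N ≠ 0 := by rintro rfl; simp at hN
    obtain ⟨n, rfl⟩ : ∃ n, N = n + 1 := ⟨N - 1, by omega⟩
    have h3 := h2 n
    rw [ha, hε, one_smul] at h3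
    have h4 : (((n : F) + 1) * ε ^ n) • x = 0 := by
      have : (1 : Module.End F V) y = y := rfl
      rw [this] at h3
      exact (left_eq_add.1 h3)
    have hε0 : ε ≠ 0 := by
      rintro rfl
      rw [zero_pow (by omega)] at hε
      exact zero_ne_one hε
    rcases smul_eq_zero.1 h4 with h5 | h5
    · exfalso
      rcases mul_eq_zero.1 h5 with h6 | h6
      · apply hN; push_cast; exact h6
      · exact pow_ne_zero _ hε0 h6
    · exact h5
  · have h3 := h1 N
    rw [ha] at h3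
    have h4 : x = ε ^ N • x := h3
    have h5 : (1 - ε ^ N) • x = 0 := by rw [sub_smul, one_smul, ← h4, sub_self]
    rcases smul_eq_zero.1 h5 with h6 | h6
    · exact absurd (sub_eq_zero.1 h6).symm hε
    · exact h6

/-- The kernel and the range are complementary. -/
theorem isCompl_of_ss (f : Module.End F V) (h : ∀ y, f (f y) = 0 → f y = 0) :
    IsCompl (LinearMap.ker f) (LinearMap.range f) := by
  have h1 : Disjoint (LinearMap.ker f) (LinearMap.range f) := by
    rw [Submodule.disjoint_def]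
    rintro _ hx ⟨y, rfl⟩
    exact h y hx
  refine ⟨h1, ?_⟩
  rw [codisjoint_iff]
  apply Submodule.eq_top_of_finrank_eq
  have h2 := Submodule.finrank_sup_add_finrank_inf_eq (LinearMap.ker f) (LinearMap.range f)
  rw [h1.eq_bot, finrank_bot, add_zero] at h2
  rw [h2]
  have := LinearMap.finrank_range_add_finrank_ker f
  omega

end split

section reduce

variable {F V W : Type*} [Field F] [AddCommGroup V] [Module F V] [FiniteDimensional F V]
  [AddCommGroup W] [Module F W] [FiniteDimensional F W]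

theorem isometry_ortho (B : LinearMap.BilinForm F V) (a : V ≃ₗ[F] V) (ha : ∀ x y, B (a x) (a y) = B x y) (ε : F)
    (hε : ε * ε = 1) (x y : V) (hx : a x = ε • x) : B x (a y - ε • y) = 0 := by
  have h1 : B (a x) (a y) = ε * B x (a y) := by rw [hx, map_smul, LinearMap.smul_apply, smul_eq_mul]
  rw [ha] at h1
  rw [map_sub, map_smul, smul_eq_mul, h1, ← mul_assoc, hε, one_mul, sub_self]

theorem isometry_ortho' (B : LinearMap.BilinForm F V) (a : V ≃ₗ[F] V) (ha : ∀ x y, B (a x) (a y) = B x y) (ε : F)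
    (hε : ε * ε = 1) (x y : V) (hx : a x = ε • x) : B (a y - ε • y) x = 0 := by
  have h1 : B (a y) (a x) = ε * B (a y) x := by rw [hx, map_smul, smul_eq_mul]
  rw [ha] at h1
  rw [map_sub, map_smul, LinearMap.sub_apply, LinearMap.smul_apply, smul_eq_mul, h1, ← mul_assoc, hε, one_mul, sub_self]

/-- restriction of an automorphism to an invariant subspace -/
theorem exists_restrict (a : V ≃ₗ[F] V) (U : Submodule F V) (h : ∀ x ∈ U, a x ∈ U) :
    ∃ a' : U ≃ₗ[F] U, ∀ x : U, ((a' x : U) : V) = a x := by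
  have hinj : Function.Injective ((a : V →ₗ[F] V).restrict h) := by
    intro x y hxy
    have := congrArg Subtype.val hxy
    exact Subtype.ext (a.injective this)
  exact ⟨LinearEquiv.ofInjectiveEndo _ hinj, fun x => rfl⟩

theorem exists_restrict_map (g : V ≃ₗ[F] W) (U : Submodule F V) (T : Submodule F W) (h : ∀ x, g x ∈ T ↔ x ∈ U) :
    ∃ g' : U ≃ₗ[F] T, ∀ x : U, ((g' x : T) : W) = g x := by
  have hT : U.map (g : V →ₗ[F] W) = T := by
    ext y
    constructor
    · rintro ⟨x, hx, rfl⟩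
      exact (h x).2 hx
    · intro hy
      obtain ⟨x, rfl⟩ := g.surjective y
      exact ⟨x, (h x).1 hy, rfl⟩
  subst hT
  exact ⟨g.submoduleMap U, fun x => rfl⟩

theorem reduce_alt (B : LinearMap.BilinForm F V) (B' : LinearMap.BilinForm F W)
    (hA : B.IsAlt) (hA' : B'.IsAlt) (hB : ∀ v, (∀ w, B v w = 0) → v = 0) (hB' : ∀ v, (∀ w, B' v w = 0) → v = 0)
    (a : V ≃ₗ[F] V) (c : W ≃ₗ[F] W) (ha : ∀ x y, B (a x) (a y) = B x y) (hc : ∀ x y, B' (c x) (c y) = B' x y)
    {N : ℕ} (hN : (N : F) ≠ 0) (haN : (a : V →ₗ[F] V) ^ N = 1)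
    (g : V ≃ₗ[F] W) (hg : ∀ x, g (a x) = c (g x)) (ε : F) (hε : ε * ε = 1) :
    ∃ (U : Submodule F V) (T : Submodule F W) (a' : U ≃ₗ[F] U) (c' : T ≃ₗ[F] T) (g' : U ≃ₗ[F] T),
      (∀ x : U, ((a' x : U) : V) = a x) ∧ (∀ x : T, ((c' x : T) : W) = c x) ∧ (∀ x : U, ((g' x : T) : W) = g x) ∧
      (∀ v : U, (∀ w : U, B (v : V) (w : V) = 0) → v = 0) ∧ (∀ v : T, (∀ w : T, B' (v : W) (w : W) = 0) → v = 0) ∧
      (∀ x : U, a (x : V) = ε • (x : V) → x = 0) ∧
      (∀ k' : U ≃ₗ[F] T, (∀ x, k' (a' x) = c' (k' x)) → (∀ x y : U, B' (k' x : W) (k' y : W) = B (x : V) (y : V)) →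
        ∃ k : V ≃ₗ[F] W, (∀ x, k (a x) = c (k x)) ∧ ∀ x y, B' (k x) (k y) = B x y) := by
  obtain ⟨f, hf⟩ : ∃ f : Module.End F V, ∀ x, f x = a x - ε • x :=
    ⟨(a : V →ₗ[F] V) - ε • LinearMap.id, fun x => rfl⟩
  obtain ⟨f', hf'⟩ : ∃ f' : Module.End F W, ∀ x, f' x = c x - ε • x :=
    ⟨(c : W →ₗ[F] W) - ε • LinearMap.id, fun x => rfl⟩
  have hgf : ∀ x, g (f x) = f' (g x) := by
    intro x; rw [hf, hf', map_sub, map_smul, hg]
  have hss : ∀ y, f (f y) = 0 → f y = 0 := by
    intro y hy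
    rw [hf (f y), sub_eq_zero] at hy
    rw [hf] at hy ⊢
    exact ss_of_pow (a := (a : V →ₗ[F] V)) hN haN ε y hy
  have hss' : ∀ y, f' (f' y) = 0 → f' y = 0 := by
    intro y hy
    obtain ⟨x, rfl⟩ := g.surjective y
    rw [← hgf, ← hgf, g.map_eq_zero_iff] at hy
    rw [← hgf, hss x hy, map_zero]
  have hcomp := isCompl_of_ss f hss
  have hcomp' := isCompl_of_ss f' hss'
  have hker : ∀ x, x ∈ LinearMap.ker f ↔ a x = ε • x := by
    intro x; rw [LinearMap.mem_ker, hf, sub_eq_zero]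
  have hker' : ∀ x, x ∈ LinearMap.ker f' ↔ c x = ε • x := by
    intro x; rw [LinearMap.mem_ker, hf', sub_eq_zero]
  have haf : ∀ x ∈ LinearMap.range f, a x ∈ LinearMap.range f := by
    rintro _ ⟨y, rfl⟩
    exact ⟨a y, by rw [hf, hf, map_sub, map_smul]⟩
  have hcf : ∀ x ∈ LinearMap.range f', c x ∈ LinearMap.range f' := by
    rintro _ ⟨y, rfl⟩
    exact ⟨c y, by rw [hf', hf', map_sub, map_smul]⟩
  have hgr : ∀ x, g x ∈ LinearMap.range f' ↔ x ∈ LinearMap.range f := by
    intro x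
    constructor
    · rintro ⟨y, hy⟩
      obtain ⟨z, rfl⟩ := g.surjective y
      rw [← hgf] at hy
      exact ⟨z, g.injective hy⟩
    · rintro ⟨y, rfl⟩
      exact ⟨g y, (hgf y).symm⟩
  have hgk : ∀ x, g x ∈ LinearMap.ker f' ↔ x ∈ LinearMap.ker f := by
    intro x
    rw [LinearMap.mem_ker, LinearMap.mem_ker, ← hgf, g.map_eq_zero_iff]
  obtain ⟨a', ha'⟩ := exists_restrict a (LinearMap.range f) haf
  obtain ⟨c', hc'⟩ := exists_restrict c (LinearMap.range f') hcf
  obtain ⟨g', hg'⟩ := exists_restrict_map g (LinearMap.range f) (LinearMap.range f') hgr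
  obtain ⟨g1, hg1⟩ := exists_restrict_map g (LinearMap.ker f) (LinearMap.ker f') hgk
  have horth : ∀ x ∈ LinearMap.ker f, ∀ y ∈ LinearMap.range f, B x y = 0 := by
    rintro x hx _ ⟨y, rfl⟩
    rw [hf]
    exact isometry_ortho B a ha ε hε x y ((hker x).1 hx)
  have horth' : ∀ x ∈ LinearMap.ker f', ∀ y ∈ LinearMap.range f', B' x y = 0 := by
    rintro x hx _ ⟨y, rfl⟩
    rw [hf']
    exact isometry_ortho B' c hc ε hε x y ((hker' x).1 hx)
  have hdec : ∀ x, ∃ u ∈ LinearMap.ker f, ∃ v ∈ LinearMap.range f, x = u + v := by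
    intro x
    have : x ∈ LinearMap.ker f ⊔ LinearMap.range f := by rw [hcomp.sup_eq_top]; trivial
    obtain ⟨u, hu, v, hv, h⟩ := Submodule.mem_sup.1 this
    exact ⟨u, hu, v, hv, h.symm⟩
  have hdec' : ∀ x, ∃ u ∈ LinearMap.ker f', ∃ v ∈ LinearMap.range f', x = u + v := by
    intro x
    have : x ∈ LinearMap.ker f' ⊔ LinearMap.range f' := by rw [hcomp'.sup_eq_top]; trivial
    obtain ⟨u, hu, v, hv, h⟩ := Submodule.mem_sup.1 this
    exact ⟨u, hu, v, hv, h.symm⟩
  have sym0 : ∀ x y, B x y = 0 → B y x = 0 := by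
    intro x y h; rw [← hA.neg_eq, h, neg_zero]
  have sym0' : ∀ x y, B' x y = 0 → B' y x = 0 := by
    intro x y h; rw [← hA'.neg_eq, h, neg_zero]
  refine ⟨LinearMap.range f, LinearMap.range f', a', c', g', ha', hc', hg', ?_, ?_, ?_, ?_⟩
  · intro v hv
    apply Subtype.ext
    apply hB
    intro w
    obtain ⟨u, hu, w', hw', rfl⟩ := hdec w
    rw [map_add, hv ⟨w', hw'⟩, sym0 _ _ (horth u hu v v.2), add_zero]
  · intro v hv
    apply Subtype.ext
    apply hB'
    intro w
    obtain ⟨u, hu, w', hw', rfl⟩ := hdec' w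
    rw [map_add, hv ⟨w', hw'⟩, sym0' _ _ (horth' u hu v v.2), add_zero]
  · intro x hx
    have h1 : (x : V) ∈ LinearMap.ker f := (hker _).2 hx
    have := (Submodule.disjoint_def.1 hcomp.disjoint) (x : V) h1 x.2
    exact Subtype.ext this
  · intro k' hk1 hk2
    -- isometry of kernels
    obtain ⟨m, e, he⟩ := exists_symp_equiv (B.restrict (LinearMap.ker f)) (fun x => hA x) (by
      intro v hv
      apply Subtype.ext
      apply hB
      intro w
      obtain ⟨u, hu, w', hw', rfl⟩ := hdec w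
      have h1 : B (v : V) u = 0 := hv ⟨u, hu⟩
      rw [map_add, h1, horth v v.2 w' hw', add_zero]
      )
    obtain ⟨e', he'⟩ := exists_symp_equiv' (m := m) (B'.restrict (LinearMap.ker f')) (fun x => hA' x) (by
      intro v hv
      apply Subtype.ext
      apply hB'
      intro w
      obtain ⟨u, hu, w', hw', rfl⟩ := hdec' w
      have h1 : B' (v : W) u = 0 := hv ⟨u, hu⟩
      rw [map_add, h1, horth' v v.2 w' hw', add_zero]) (by
      rw [← g1.finrank_eq, e.finrank_eq, Module.finrank_fintype_fun_eq_card, Fintype.card_sum, Fintype.card_fin]; ring)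
    have hk0 : ∀ x y : LinearMap.ker f, B' ((e.trans e'.symm) x : W) ((e.trans e'.symm) y : W) = B (x : V) (y : V) := by
      intro x y
      have h1 := he x y
      have h2 := he' ((e.trans e'.symm) x) ((e.trans e'.symm) y)
      rw [LinearEquiv.trans_apply, LinearEquiv.trans_apply, LinearEquiv.apply_symm_apply, LinearEquiv.apply_symm_apply, ← h1] at h2
      exact h2
    obtain ⟨k, hkl, hkr⟩ := glue (LinearMap.ker f) (LinearMap.range f) hcomp (LinearMap.ker f') (LinearMap.range f') hcomp'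
      (e.trans e'.symm) k'
    refine ⟨k, ?_, ?_⟩
    · intro x
      obtain ⟨u, hu, v, hv, rfl⟩ := hdec x
      have h1 : k u = ((e.trans e'.symm) ⟨u, hu⟩ : W) := hkl ⟨u, hu⟩
      have h2 : k v = (k' ⟨v, hv⟩ : W) := hkr ⟨v, hv⟩
      have h3 : k (a v) = (k' (a' ⟨v, hv⟩) : W) := by
        have := hkr (a' ⟨v, hv⟩)
        rw [ha'] at this
        exact this
      rw [map_add, map_add, (hker u).1 hu, map_smul, map_add, map_add, h1, (hker' _).1 ((e.trans e'.symm) ⟨u, hu⟩).2, h2,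
        h3, ← hc', ← hk1]
    · intro x y
      obtain ⟨u, hu, v, hv, rfl⟩ := hdec x
      obtain ⟨u2, hu2, v2, hv2, rfl⟩ := hdec y
      have h1 : k u = ((e.trans e'.symm) ⟨u, hu⟩ : W) := hkl ⟨u, hu⟩
      have h2 : k v = (k' ⟨v, hv⟩ : W) := hkr ⟨v, hv⟩
      have h3 : k u2 = ((e.trans e'.symm) ⟨u2, hu2⟩ : W) := hkl ⟨u2, hu2⟩
      have h4 : k v2 = (k' ⟨v2, hv2⟩ : W) := hkr ⟨v2, hv2⟩
      have h5 := hk0 ⟨u, hu⟩ ⟨u2, hu2⟩
      have h6 := hk2 ⟨v, hv⟩ ⟨v2, hv2⟩
      rw [← h1, ← h3] at h5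
      rw [← h2, ← h4] at h6
      have h7 : B' (k u) (k v2) = 0 := by
        rw [h1, h4]
        exact horth' _ (Subtype.prop _) _ (Subtype.prop _)
      have h8 : B' (k v) (k u2) = 0 := by
        apply sym0'
        rw [h3, h2]
        exact horth' _ (Subtype.prop _) _ (Subtype.prop _)
      simp only [map_add, LinearMap.add_apply]
      rw [h5, h6, h7, h8, horth u hu v2 hv2, sym0 _ _ (horth u2 hu2 v hv)]

end reduce

end Cfsg.Agent.H43
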