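import Mathlib
import Cfsg.Agent.H43.Cyclic2

set_option autoImplicit false
set_option linter.unusedSectionVars false

/-! Regular unipotent isometries of an alternating form in odd characteristic. -/

namespace Cfsg.Agent.H43

variable {F V : Type*} [Field F] [AddCommGroup V] [Module F V] [FiniteDimensional F V]
variable {B : LinearMap.BilinForm F V}

/-- `c` and `c'` are adjoint. -/
def IsAdj (B : LinearMap.BilinForm F V) (c c' : Module.End F V) : Prop := ∀ x y, B (c x) y = B x (c' y)

theorem IsAdj.pow {c c' : Module.End F V} (h : IsAdj B c c') (k : ℕ) : IsAdj B (c ^ k) (c' ^ k) := by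
  induction k with
  | zero => intro x y; rfl
  | succ k ih =>
    intro x y
    rw [pow_succ, pow_succ', Module.End.mul_apply, Module.End.mul_apply, ih, h]

theorem IsAdj.add {c c' d d' : Module.End F V} (h : IsAdj B c c') (h' : IsAdj B d d') : IsAdj B (c + d) (c' + d') := by
  intro x y
  rw [LinearMap.add_apply, LinearMap.add_apply, map_add, LinearMap.add_apply, map_add, h, h']

theorem IsAdj.sub {c c' d d' : Module.End F V} (h : IsAdj B c c') (h' : IsAdj B d d') : IsAdj B (c - d) (c' - d') := by
  intro x y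
  rw [LinearMap.sub_apply, LinearMap.sub_apply, map_sub, LinearMap.sub_apply, map_sub, h, h']

theorem IsAdj.neg {c c' : Module.End F V} (h : IsAdj B c c') : IsAdj B (-c) (-c') := by
  intro x y
  rw [LinearMap.neg_apply, LinearMap.neg_apply, map_neg, LinearMap.neg_apply, map_neg, h]

theorem IsAdj.smul {c c' : Module.End F V} (h : IsAdj B c c') (a : F) : IsAdj B (a • c) (a • c') := by
  intro x y
  rw [LinearMap.smul_apply, LinearMap.smul_apply, map_smul, LinearMap.smul_apply, map_smul, h]

theorem IsAdj.algebraMap (a : F) : IsAdj B (algebraMap F (Module.End F V) a) (algebraMap F (Module.End F V) a) := by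
  intro x y
  rw [Module.algebraMap_end_apply, Module.algebraMap_end_apply, map_smul, LinearMap.smul_apply, map_smul]

theorem IsAdj.one : IsAdj B (1 : Module.End F V) 1 := fun _ _ => rfl

theorem IsAdj.mul {c c' d d' : Module.End F V} (h : IsAdj B c c') (h' : IsAdj B d d') : IsAdj B (c * d) (d' * c') := by
  intro x y
  rw [Module.End.mul_apply, Module.End.mul_apply, h, h']

/-- Nondegeneracy on the right. -/
theorem nondeg_right (hA : B.IsAlt) (hnd : ∀ v, (∀ w, B v w = 0) → v = 0) (v : V) (h : ∀ w, B w v = 0) : v = 0 := by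
  apply hnd
  intro w
  rw [← hA.neg_eq, h, neg_zero]

theorem IsAdj.right_unique (hA : B.IsAlt) (hnd : ∀ v, (∀ w, B v w = 0) → v = 0) {c c' c'' : Module.End F V}
    (h : IsAdj B c c') (h' : IsAdj B c c'') : c' = c'' := by
  apply LinearMap.ext
  intro y
  rw [← sub_eq_zero]
  apply nondeg_right hA hnd
  intro x
  rw [map_sub, ← h, ← h', sub_self]

theorem IsAdj.left_unique (hnd : ∀ v, (∀ w, B v w = 0) → v = 0) {c c' c'' : Module.End F V}
    (h : IsAdj B c' c) (h' : IsAdj B c'' c) : c' = c'' := by
  apply LinearMap.ext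
  intro y
  rw [← sub_eq_zero]
  apply hnd
  intro x
  rw [map_sub, LinearMap.sub_apply, h, h', sub_self]

theorem IsAdj.symm' (hA : B.IsAlt) {c c' : Module.End F V} (h : IsAdj B c c') : IsAdj B c' c := by
  intro x y
  rw [← hA.neg_eq, ← h, hA.neg_eq]

theorem IsAdj.isNilpotent (hA : B.IsAlt) (hnd : ∀ v, (∀ w, B v w = 0) → v = 0) {c c' : Module.End F V}
    (h : IsAdj B c c') (hc : IsNilpotent c) : IsNilpotent c' := by
  obtain ⟨k, hk⟩ := hc
  refine ⟨k, ?_⟩
  have h1 := h.pow k
  rw [hk] at h1
  apply IsAdj.right_unique hA hnd h1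
  intro x y
  simp

theorem algebraMap_nilpotent_iff [Nontrivial V] (a : F) : IsNilpotent (algebraMap F (Module.End F V) a) ↔ a = 0 := by
  constructor
  · rintro ⟨k, hk⟩
    rw [← map_pow] at hk
    have : a ^ k = 0 := by
      apply (algebraMap F (Module.End F V)).injective
      rw [hk, map_zero]
    exact (show IsNilpotent a from ⟨k, this⟩).eq_zero
  · rintro rfl
    rw [map_zero]
    exact IsNilpotent.zero

theorem commute_algebraMap (a : F) (c : Module.End F V) : Commute (algebraMap F (Module.End F V) a) c :=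
  Algebra.commutes _ _

/-- scalar plus nilpotent is a unit. -/
theorem isUnit_of_sub_nilpotent {c : Module.End F V} {a : F} (ha : a ≠ 0)
    (h : IsNilpotent (c - algebraMap F (Module.End F V) a)) : IsUnit c := by
  have h1 : IsUnit (algebraMap F (Module.End F V) a) := ha.isUnit.map _
  have h2 := h.isUnit_add_left_of_commute h1 (by
    exact ((commute_algebraMap a (c - algebraMap F (Module.End F V) a))).symm)
  rw [add_sub_cancel] at h2
  exact h2

theorem IsAdj.zero : IsAdj B (0 : Module.End F V) 0 := fun _ _ => by simp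

theorem IsAdj.sum {ι : Type*} (s : Finset ι) (g g' : ι → Module.End F V) (h : ∀ i ∈ s, IsAdj B (g i) (g' i)) :
    IsAdj B (∑ i ∈ s, g i) (∑ i ∈ s, g' i) := by
  classical
  induction s using Finset.induction_on with
  | empty => exact IsAdj.zero
  | insert a s ha ih =>
    rw [Finset.sum_insert ha, Finset.sum_insert ha]
    exact (h a (Finset.mem_insert_self a s)).add (ih fun i hi => h i (Finset.mem_insert_of_mem hi))

theorem sum_range_two_mul {M : Type*} [AddCommMonoid M] (g : ℕ → M) (m : ℕ) :
    ∑ j ∈ Finset.range (2 * m), g j = ∑ i ∈ Finset.range m, g (2 * i) + ∑ i ∈ Finset.range m, g (2 * i + 1) := by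
  induction m with
  | zero => simp
  | succ m ih =>
    rw [show 2 * (m + 1) = 2 * m + 1 + 1 by ring, Finset.sum_range_succ, Finset.sum_range_succ, ih,
      Finset.sum_range_succ, Finset.sum_range_succ]
    abel

/-- Expansion of an element of the commutant of a regular nilpotent in powers. -/
theorem exists_expansion (S : Module.End F V) (n : ℕ) (hn : n = Module.finrank F V) (v : V) (hS : S ^ n = 0)
    (h1 : (S ^ (n - 1)) v ≠ 0) (c : Module.End F V) (hc : Commute c S) :
    ∃ a : ℕ → F, c = ∑ j ∈ Finset.range n, a j • S ^ j := by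
  have h0 : (S ^ n) v = 0 := by rw [hS]; rfl
  obtain ⟨b, hb⟩ : ∃ b : Fin n → F, b = (cycBasis S n hn v h0 h1).repr (c v) := ⟨_, rfl⟩
  refine ⟨fun j => if h : j < n then b ⟨j, h⟩ else 0, ?_⟩
  apply eq_of_commute_of_apply_eq S n hn v h0 h1 hc
  · apply Commute.sum_left
    intro j _
    exact ((Commute.refl S).pow_left j).smul_left _
  · rw [Finset.sum_range, LinearMap.sum_apply]
    conv_lhs => rw [← (cycBasis S n hn v h0 h1).sum_repr (c v)]
    refine Finset.sum_congr rfl fun i _ => ?_
    rw [cycBasis_apply, ← hb, LinearMap.smul_apply]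
    simp only [i.2, dif_pos]

theorem skewPow {S : Module.End F V} (hS : IsAdj B S (-S)) (j : ℕ) : IsAdj B (S ^ j) ((-1 : F) ^ j • S ^ j) := by
  have h := hS.pow j
  have e : (-S) ^ j = (-1 : F) ^ j • S ^ j := by
    rw [neg_pow, ← smul_one_mul ((-1 : F) ^ j) (S ^ j)]
    congr 1
    induction j with
    | zero => simp
    | succ j ih => rw [pow_succ, ih (h := hS.pow j), pow_succ]; simp
  rw [← e]
  exact h

end Cfsg.Agent.H43
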