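import Mathlib
import Cfsg.Agent.H43.SympReg

set_option autoImplicit false
set_option linter.unusedSectionVars false

/-! Isometries commuting with a regular nilpotent skew endomorphism. -/

namespace Cfsg.Agent.H43

variable {F V : Type*} [Field F] [AddCommGroup V] [Module F V] [FiniteDimensional F V]
variable {B : LinearMap.BilinForm F V}

/-- odd polynomial in `S`. -/
noncomputable def cOdd (S : Module.End F V) (m : ℕ) (a : Fin m → F) : Module.End F V :=
  ∑ i : Fin m, a i • S ^ (2 * (i : ℕ) + 1)

theorem cOdd_commute (S : Module.End F V) (m : ℕ) (a : Fin m → F) : Commute (cOdd S m a) S := by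
  unfold cOdd
  apply Commute.sum_left
  intro j _
  exact ((Commute.refl S).pow_left _).smul_left _

theorem cOdd_isAdj {S : Module.End F V} (hS : IsAdj B S (-S)) (m : ℕ) (a : Fin m → F) :
    IsAdj B (cOdd S m a) (-cOdd S m a) := by
  unfold cOdd
  rw [← Finset.sum_neg_distrib]
  apply IsAdj.sum
  intro i _
  have h := (skewPow hS (2 * (i : ℕ) + 1)).smul (a i)
  have e : (-1 : F) ^ (2 * (i : ℕ) + 1) = -1 := Odd.neg_one_pow ⟨i, rfl⟩
  rw [e, neg_one_smul, smul_neg] at h
  exact h

theorem cOdd_nilpotent {S : Module.End F V} (hS : IsNilpotent S) (m : ℕ) (a : Fin m → F) :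
    IsNilpotent (cOdd S m a) := by
  have e : cOdd S m a = S * ∑ i : Fin m, a i • S ^ (2 * (i : ℕ)) := by
    unfold cOdd
    rw [Finset.mul_sum]
    refine Finset.sum_congr rfl fun i _ => ?_
    rw [mul_smul_comm, ← pow_succ']
  rw [e]
  apply Commute.isNilpotent_mul_right _ hS
  apply Commute.sum_right
  intro j _
  exact ((Commute.refl S).pow_right _).smul_right _

theorem cOdd_injective {S : Module.End F V} {m : ℕ} (hn : 2 * m = Module.finrank F V) {v : V} (hS : S ^ (2 * m) = 0)
    (h1 : (S ^ (2 * m - 1)) v ≠ 0) : Function.Injective (cOdd S m) := by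
  have h0 : (S ^ (2 * m)) v = 0 := by rw [hS]; rfl
  have hli := linearIndependent_pow S (2 * m) v h0 h1
  have hli2 : LinearIndependent F (fun i : Fin m => (S ^ (2 * (i : ℕ) + 1)) v) := by
    have := hli.comp (fun i : Fin m => (⟨2 * (i : ℕ) + 1, by omega⟩ : Fin (2 * m))) (by
      intro i j hij
      have : 2 * (i : ℕ) + 1 = 2 * (j : ℕ) + 1 := congrArg Fin.val hij
      exact Fin.ext (by omega))
    exact this
  intro a b hab
  have h2 : ∑ i : Fin m, (a i - b i) • (S ^ (2 * (i : ℕ) + 1)) v = 0 := by
    have h3 := LinearMap.congr_fun hab v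
    unfold cOdd at h3
    rw [LinearMap.sum_apply, LinearMap.sum_apply] at h3
    simp only [LinearMap.smul_apply] at h3
    simp only [sub_smul]
    rw [Finset.sum_sub_distrib, h3, sub_self]
  rw [Fintype.linearIndependent_iff] at hli2
  have h3 := hli2 _ h2
  funext i
  exact sub_eq_zero.1 (h3 i)

/-- Even/odd decomposition of an element of the commutant. -/
theorem exists_even_odd {S : Module.End F V} (hadj : IsAdj B S (-S)) {m : ℕ} (hn : 2 * m = Module.finrank F V) {v : V}
    (hS : S ^ (2 * m) = 0) (h1 : (S ^ (2 * m - 1)) v ≠ 0) {c : Module.End F V} (hc : Commute c S) :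
    ∃ (e : Module.End F V) (a : Fin m → F), c = e + cOdd S m a ∧ IsAdj B e e := by
  obtain ⟨a, ha⟩ := exists_expansion S (2 * m) hn v hS h1 c hc
  rw [sum_range_two_mul] at ha
  refine ⟨∑ i ∈ Finset.range m, a (2 * i) • S ^ (2 * i), fun i => a (2 * (i : ℕ) + 1), ?_, ?_⟩
  · rw [ha]
    congr 1
    rw [Finset.sum_range]
    rfl
  · apply IsAdj.sum
    intro i _
    have h := (skewPow hadj (2 * i)).smul (a (2 * i))
    have e : (-1 : F) ^ (2 * i) = 1 := Even.neg_one_pow ⟨i, by ring⟩
    rw [e, one_smul] at h
    exact h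

theorem two_smul_eq_zero' (h2 : (2 : F) ≠ 0) {c : Module.End F V} (h : c + c = 0) : c = 0 := by
  rw [← two_smul F c] at h
  exact (smul_eq_zero.1 h).resolve_left h2

theorem exists_cOdd (hA : B.IsAlt) (hnd : ∀ v, (∀ w, B v w = 0) → v = 0) (h2 : (2 : F) ≠ 0)
    {S : Module.End F V} (hadj : IsAdj B S (-S)) {m : ℕ} (hn : 2 * m = Module.finrank F V) {v : V}
    (hS : S ^ (2 * m) = 0) (h1 : (S ^ (2 * m - 1)) v ≠ 0) {c : Module.End F V} (hc : Commute c S)
    (hc' : IsAdj B c (-c)) : ∃ a : Fin m → F, c = cOdd S m a := by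
  obtain ⟨e, a, hea, he⟩ := exists_even_odd (B := B) hadj hn hS h1 hc
  refine ⟨a, ?_⟩
  have h3 := he.add (cOdd_isAdj (B := B) hadj m a)
  rw [← hea] at h3
  have h4 := IsAdj.right_unique hA hnd h3 hc'
  rw [hea] at h4
  have h5 : e + e = 0 := by
    have h6 : e + -cOdd S m a + (e + cOdd S m a) = -(e + cOdd S m a) + (e + cOdd S m a) := by rw [h4]
    rw [neg_add_cancel] at h6
    rw [← h6]
    abel
  rw [hea, two_smul_eq_zero' h2 h5, zero_add]

theorem commute_of_commute {S : Module.End F V} {n : ℕ} (hn : n = Module.finrank F V) {v : V}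
    (hS : S ^ n = 0) (h1 : (S ^ (n - 1)) v ≠ 0) {c d : Module.End F V} (hc : Commute c S) (hd : Commute d S) :
    Commute c d := by
  obtain ⟨a, rfl⟩ := exists_expansion S n hn v hS h1 d hd
  apply Commute.sum_right
  intro j _
  exact (hc.pow_right _).smul_right _

/-- Cayley transform. -/
theorem exists_cayley {S c : Module.End F V} (hc : IsNilpotent c) (hcS : Commute c S) (hadj : IsAdj B c (-c)) :
    ∃ g : Module.End F V, g * (1 + c) = 1 - c ∧ Commute g S ∧ (∀ x y, B (g x) (g y) = B x y) ∧ IsNilpotent (g - 1) := by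
  obtain ⟨w, hw⟩ := hc.isUnit_one_add
  have hwS : Commute (w : Module.End F V) S := by
    rw [hw]
    exact (Commute.one_left S).add_left hcS
  have hwc : Commute (w : Module.End F V) c := by
    rw [hw]
    exact (Commute.one_left c).add_left (Commute.refl c)
  refine ⟨(1 - c) * ((w⁻¹ : (Module.End F V)ˣ) : Module.End F V), ?_, ?_, ?_, ?_⟩
  · rw [← hw, mul_assoc, Units.inv_mul, mul_one]
  · exact ((Commute.one_left S).sub_left hcS).mul_left hwS.units_inv_left
  · intro x y
    obtain ⟨x', rfl⟩ : ∃ x', x = (w : Module.End F V) x' := ⟨((w⁻¹ : (Module.End F V)ˣ) : Module.End F V) x, by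
      rw [← Module.End.mul_apply, Units.mul_inv]; rfl⟩
    obtain ⟨y', rfl⟩ : ∃ y', y = (w : Module.End F V) y' := ⟨((w⁻¹ : (Module.End F V)ˣ) : Module.End F V) y, by
      rw [← Module.End.mul_apply, Units.mul_inv]; rfl⟩
    rw [← Module.End.mul_apply, ← Module.End.mul_apply, mul_assoc, Units.inv_mul, mul_one, hw]
    have h1 : IsAdj B (1 - c) (1 + c) := by
      have := (IsAdj.one (B := B)).sub hadj
      rwa [sub_neg_eq_add] at this
    have h2 : IsAdj B (1 + c) (1 - c) := by
      have := (IsAdj.one (B := B)).add hadj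
      rwa [← sub_eq_add_neg] at this
    rw [h1, h2, ← Module.End.mul_apply, ← Module.End.mul_apply]
    congr 2
    noncomm_ring
  · have e : (1 - c) * ((w⁻¹ : (Module.End F V)ˣ) : Module.End F V) - 1 =
        -((c + c) * ((w⁻¹ : (Module.End F V)ˣ) : Module.End F V)) := by
      have : (1 : Module.End F V) = (w : Module.End F V) * ((w⁻¹ : (Module.End F V)ˣ) : Module.End F V) :=
        (Units.mul_inv w).symm
      conv_lhs => rw [this]
      rw [← sub_mul, hw, ← neg_mul]
      congr 1
      rw [← hw, Units.mul_inv, hw]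
      abel
    rw [e]
    apply IsNilpotent.neg
    apply Commute.isNilpotent_mul_right
    · exact (hwc.units_inv_left.symm).add_left hwc.units_inv_left.symm
    · exact Commute.isNilpotent_add (Commute.refl c) hc hc

theorem isUnit_two_add (h2 : (2 : F) ≠ 0) {N : Module.End F V} (hN : IsNilpotent N) : IsUnit (2 + N) := by
  have e : (2 : Module.End F V) = algebraMap F (Module.End F V) 2 := (map_ofNat _ 2).symm
  apply isUnit_of_sub_nilpotent h2
  rw [← e, add_sub_cancel_left]
  exact hN

/-- An isometry commuting with `S` is, up to sign, unipotent. -/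
theorem exists_sign (hA : B.IsAlt) (hnd : ∀ v, (∀ w, B v w = 0) → v = 0) {S : Module.End F V}
    {n : ℕ} (hn : n = Module.finrank F V) (hn1 : 1 ≤ n) {v : V}
    (hS : S ^ n = 0) (h1 : (S ^ (n - 1)) v ≠ 0) (hk : Module.finrank F (LinearMap.ker S) ≤ 1)
    {g : Module.End F V} (hg : Commute g S) (hiso : ∀ x y, B (g x) (g y) = B x y) :
    ∃ a : F, (a = 1 ∨ a = -1) ∧ IsNilpotent (g - algebraMap F (Module.End F V) a) := by
  have hV : Nontrivial V := by
    rw [← Module.finrank_pos_iff (R := F)]; omega
  obtain ⟨a, h, hh, hgh⟩ := exists_scalar_add_nilpotent S n hn hn1 hS hk g hg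
  have hnil : IsNilpotent (g - algebraMap F (Module.End F V) a) := isNilpotent_sub S n hS hh hgh
  refine ⟨a, ?_, hnil⟩
  have hinj : Function.Injective g := by
    rw [injective_iff_map_eq_zero]
    intro x hx
    apply hnd
    intro y
    rw [← hiso, hx]
    simp
  have hgu : IsUnit g := by
    rw [Module.End.isUnit_iff]
    exact ⟨hinj, LinearMap.surjective_of_injective hinj⟩
  obtain ⟨w, rfl⟩ := hgu
  have hadj : IsAdj B (w : Module.End F V) ((w⁻¹ : (Module.End F V)ˣ) : Module.End F V) := by
    intro x y
    rw [← hiso x, ← Module.End.mul_apply, Units.mul_inv]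
    rfl
  have hadj2 := hadj.sub (IsAdj.algebraMap (B := B) a)
  have hnil2 := IsAdj.isNilpotent hA hnd hadj2 hnil
  obtain ⟨k, hk⟩ := hnil
  -- a is nonzero
  have ha0 : a ≠ 0 := by
    rintro rfl
    rw [map_zero, sub_zero] at hk
    have : IsUnit ((w : Module.End F V) ^ k) := w.isUnit.pow k
    rw [hk, isUnit_zero_iff] at this
    exact zero_ne_one this
  -- `w * (w⁻¹ - a) = 1 - a w` nilpotent
  have hcw : Commute (w : Module.End F V) (((w⁻¹ : (Module.End F V)ˣ) : Module.End F V) - algebraMap F (Module.End F V) a) := by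
    apply Commute.sub_right
    · exact (Commute.refl (w : Module.End F V)).units_inv_right
    · exact (commute_algebraMap a _).symm
  have h3 : IsNilpotent ((w : Module.End F V) * (((w⁻¹ : (Module.End F V)ˣ) : Module.End F V) - algebraMap F (Module.End F V) a)) :=
    hcw.isNilpotent_mul_left hnil2
  rw [mul_sub, Units.mul_inv] at h3
  -- `a (w - a)` nilpotent
  have h4 : IsNilpotent ((algebraMap F (Module.End F V) a) * ((w : Module.End F V) - algebraMap F (Module.End F V) a)) :=
    Commute.isNilpotent_mul_left (commute_algebraMap a _) ⟨k, hk⟩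
  have h5 := Commute.isNilpotent_add (by
    have hc1 : Commute (algebraMap F (Module.End F V) a) (w : Module.End F V) := commute_algebraMap a _
    have hc2 : Commute ((w : Module.End F V) * algebraMap F (Module.End F V) a) ((algebraMap F (Module.End F V) a) * ((w : Module.End F V) - algebraMap F (Module.End F V) a)) := by
      apply Commute.mul_left
      · apply Commute.mul_right hc1.symm
        exact (Commute.refl _).sub_right hc1.symm
      · exact commute_algebraMap a _
    exact (Commute.one_left _).sub_left hc2) h3 h4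
  have e : (1 : Module.End F V) - (w : Module.End F V) * algebraMap F (Module.End F V) a +
      (algebraMap F (Module.End F V) a) * ((w : Module.End F V) - algebraMap F (Module.End F V) a) =
      algebraMap F (Module.End F V) (1 - a * a) := by
    have hc1 : (algebraMap F (Module.End F V) a) * (w : Module.End F V) = (w : Module.End F V) * (algebraMap F (Module.End F V) a) :=
      (commute_algebraMap a _)
    rw [mul_sub, hc1, map_sub, map_one, map_mul]
    abel
  rw [e, algebraMap_nilpotent_iff, sub_eq_zero] at h5
  exact mul_self_eq_one_iff.1 h5.symm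

/-- sign of a boolean -/
def sgB (F : Type*) [Field F] (b : Bool) : F := if b then 1 else -1

theorem sgB_mul (b : Bool) : sgB F b * sgB F b = 1 := by
  cases b <;> simp [sgB]

theorem card_isometries_commute [Finite F] (hA : B.IsAlt) (hnd : ∀ v, (∀ w, B v w = 0) → v = 0) (h2 : (2 : F) ≠ 0)
    {S : Module.End F V} (hadj : IsAdj B S (-S)) {m : ℕ} (hm : 1 ≤ m) (hn : 2 * m = Module.finrank F V) {v : V}
    (hS : S ^ (2 * m) = 0) (h1 : (S ^ (2 * m - 1)) v ≠ 0) (hk : Module.finrank F (LinearMap.ker S) ≤ 1) :
    Nat.card {g : Module.End F V // Commute g S ∧ ∀ x y, B (g x) (g y) = B x y} = 2 * Nat.card F ^ m := by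
  have hV : Nontrivial V := by
    rw [← Module.finrank_pos_iff (R := F)]; omega
  have hSn : IsNilpotent S := ⟨_, hS⟩
  have key : ∀ a : Fin m → F, ∃ g : Module.End F V, g * (1 + cOdd S m a) = 1 - cOdd S m a ∧ Commute g S ∧
      (∀ x y, B (g x) (g y) = B x y) ∧ IsNilpotent (g - 1) := fun a =>
    exists_cayley (cOdd_nilpotent hSn m a) (cOdd_commute S m a) (cOdd_isAdj hadj m a)
  choose G hG1 hG2 hG3 hG4 using key
  let f : Bool × (Fin m → F) → {g : Module.End F V // Commute g S ∧ ∀ x y, B (g x) (g y) = B x y} := fun p =>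
    ⟨sgB F p.1 • G p.2, (hG2 p.2).smul_left _, fun x y => by
      rw [LinearMap.smul_apply, LinearMap.smul_apply, map_smul, map_smul, LinearMap.smul_apply, smul_smul, sgB_mul,
        one_smul, hG3]⟩
  have hf : Function.Bijective f := by
    constructor
    · rintro ⟨b, a⟩ ⟨b', a'⟩ h
      have h3 : sgB F b • G a = sgB F b' • G a' := congrArg Subtype.val h
      have hcomm : Commute (G a) (G a') := commute_of_commute hn hS h1 (hG2 a) (hG2 a')
      have hadd : IsUnit (G a + G a') := by
        have e : G a + G a' = 2 + ((G a - 1) + (G a' - 1)) := by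
          rw [← one_add_one_eq_two]; abel
        rw [e]
        apply isUnit_two_add h2
        apply Commute.isNilpotent_add _ (hG4 a) (hG4 a')
        exact (hcomm.sub_right (Commute.one_right _)).sub_left ((Commute.one_left _).sub_right (Commute.one_left _))
      have hbb : b = b' := by
        by_contra hne
        have hz : G a + G a' = 0 := by
          cases b <;> cases b'
          · exact absurd rfl hne
          · simp only [sgB] at h3
            simp at h3
            rw [← h3]; simp
          · simp only [sgB] at h3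
            simp at h3
            rw [h3]; simp
          · exact absurd rfl hne
        rw [hz, isUnit_zero_iff] at hadd
        exact zero_ne_one hadd
      subst hbb
      have hGG : G a = G a' := by
        have := congrArg (fun z => sgB F b • z) h3
        simp only [smul_smul, sgB_mul, one_smul] at this
        exact this
      have h4 := hG1 a
      have h5 := hG1 a'
      rw [← hGG] at h5
      have h6 : (G a + 1) * (cOdd S m a - cOdd S m a') = 0 := by
        have h7 : (G a + 1) * (cOdd S m a - cOdd S m a') =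
          (G a * (1 + cOdd S m a) - (1 - cOdd S m a)) - (G a * (1 + cOdd S m a') - (1 - cOdd S m a')) := by
          noncomm_ring
        rw [h7, h4, h5]
        simp
      have hu : IsUnit (G a + 1) := by
        have e : G a + 1 = 2 + (G a - 1) := by
          rw [← one_add_one_eq_two]; abel
        rw [e]
        exact isUnit_two_add h2 (hG4 a)
      have h8 : cOdd S m a = cOdd S m a' := sub_eq_zero.1 ((hu.mul_right_eq_zero).1 h6)
      have h9 := cOdd_injective hn hS h1 h8
      rw [h9]
    · rintro ⟨g, hg, hiso⟩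
      obtain ⟨ε, hε, hnil⟩ := exists_sign hA hnd hn (by omega) hS h1 hk hg hiso
      obtain ⟨b, rfl⟩ : ∃ b, ε = sgB F b := by
        rcases hε with rfl | rfl
        · exact ⟨true, rfl⟩
        · exact ⟨false, rfl⟩
      -- g1 = ε g unipotent
      obtain ⟨g1, hg1⟩ : ∃ g1 : Module.End F V, g1 = sgB F b • g := ⟨_, rfl⟩
      have hg1S : Commute g1 S := by rw [hg1]; exact hg.smul_left _
      have hg1iso : ∀ x y, B (g1 x) (g1 y) = B x y := by
        intro x y
        rw [hg1, LinearMap.smul_apply, LinearMap.smul_apply, map_smul, map_smul, LinearMap.smul_apply, smul_smul, sgB_mul,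
        one_smul, hiso]
      have hg1nil : IsNilpotent (g1 - 1) := by
        have e : g1 - 1 = sgB F b • (g - algebraMap F (Module.End F V) (sgB F b)) := by
          rw [hg1, smul_sub, Algebra.algebraMap_eq_smul_one, smul_smul, sgB_mul, one_smul]
        rw [e]
        exact hnil.smul _
      have hu : IsUnit (1 + g1) := by
        have e : 1 + g1 = 2 + (g1 - 1) := by
          rw [← one_add_one_eq_two]; abel
        rw [e]
        exact isUnit_two_add h2 hg1nil
      obtain ⟨w, hw⟩ := hu
      have hwS : Commute (w : Module.End F V) S := by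
        rw [hw]; exact (Commute.one_left S).add_left hg1S
      have hwg : Commute (w : Module.End F V) g1 := by
        rw [hw]; exact (Commute.one_left g1).add_left (Commute.refl g1)
      obtain ⟨c, hc⟩ : ∃ c : Module.End F V, c = (1 - g1) * ((w⁻¹ : (Module.End F V)ˣ) : Module.End F V) := ⟨_, rfl⟩
      have hcS : Commute c S := by
        rw [hc]
        exact ((Commute.one_left S).sub_left hg1S).mul_left hwS.units_inv_left
      have hcw : c * (1 + g1) = 1 - g1 := by
        rw [hc, ← hw, mul_assoc, Units.inv_mul, mul_one]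
      have hcadj : IsAdj B c (-c) := by
        intro x y
        obtain ⟨x', rfl⟩ : ∃ x', x = (w : Module.End F V) x' := ⟨((w⁻¹ : (Module.End F V)ˣ) : Module.End F V) x, by
          rw [← Module.End.mul_apply, Units.mul_inv]; rfl⟩
        obtain ⟨y', rfl⟩ : ∃ y', y = (w : Module.End F V) y' := ⟨((w⁻¹ : (Module.End F V)ˣ) : Module.End F V) y, by
          rw [← Module.End.mul_apply, Units.mul_inv]; rfl⟩
        rw [← Module.End.mul_apply, ← Module.End.mul_apply, hw, neg_mul, hcw]
        simp only [LinearMap.add_apply, LinearMap.sub_apply, LinearMap.neg_apply, Module.End.one_apply, map_add,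
          map_sub, map_neg, hg1iso]
        ring
      obtain ⟨a, ha⟩ := exists_cOdd hA hnd h2 hadj hn hS h1 hcS hcadj
      refine ⟨(b, a), Subtype.ext ?_⟩
      change sgB F b • G a = g
      have hGg : G a = g1 := by
        have hcn : IsNilpotent c := by rw [ha]; exact cOdd_nilpotent hSn m a
        have hcg : Commute c g1 := commute_of_commute hn hS h1 hcS hg1S
        have h4 := hG1 a
        rw [← ha] at h4
        have h5 : g1 * (1 + c) = 1 - c := by
          have h6 : g1 * c = c * g1 := hcg.symm
          rw [mul_add, mul_one, h6]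
          have h7 : c + c * g1 = 1 - g1 := by rw [← hcw]; noncomm_ring
          have h8 : c * g1 = 1 - g1 - c := by rw [← h7]; abel
          rw [h8]; abel
        obtain ⟨z, hz⟩ := hcn.isUnit_one_add
        rw [← hz] at h4 h5
        have h9 := h4.trans h5.symm
        exact z.mul_left_inj.1 h9
      rw [hGg, hg1, smul_smul, sgB_mul, one_smul]
  rw [← Nat.card_eq_of_bijective f hf, Nat.card_prod, Nat.card_eq_fintype_card (α := Bool), Fintype.card_bool,
    Nat.card_fun, Nat.card_eq_fintype_card (α := Fin m), Fintype.card_fin]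

end Cfsg.Agent.H43
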