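import Mathlib
import Cfsg.Agent.H43.SympReg2
import Cfsg.Agent.H43.MatEnd
import Cfsg.Agent.ClGeo.Symp

set_option autoImplicit false
set_option linter.unusedSectionVars false

/-! Regular unipotent elements of the symplectic group. -/

namespace Cfsg.Agent.H43

open Cfsg.Agent.ClGeo

section abstract

variable {F V : Type*} [Field F] [AddCommGroup V] [Module F V] [FiniteDimensional F V]
variable {B : LinearMap.BilinForm F V}

theorem isAdj_inv (w : (Module.End F V)ˣ) (hiso : ∀ x y, B ((w : Module.End F V) x) ((w : Module.End F V) y) = B x y) :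
    IsAdj B (w : Module.End F V) ((w⁻¹ : (Module.End F V)ˣ) : Module.End F V) := by
  intro x y
  rw [← hiso x, ← Module.End.mul_apply, Units.mul_inv]
  rfl

theorem regular_skew (hA : B.IsAlt) (h2 : (2 : F) ≠ 0) (w : (Module.End F V)ˣ)
    (hiso : ∀ x y, B ((w : Module.End F V) x) ((w : Module.End F V) y) = B x y) {n : ℕ}
    (hn : n = Module.finrank F V) (hn1 : 1 ≤ n)
    (hnil : ((w : Module.End F V) - 1) ^ n = 0) (hk : Module.finrank F (LinearMap.ker ((w : Module.End F V) - 1)) ≤ 1)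
    (S : Module.End F V) (hSd : S = (w : Module.End F V) - ((w⁻¹ : (Module.End F V)ˣ) : Module.End F V)) :
    IsAdj B S (-S) ∧ S ^ n = 0 ∧ Module.finrank F (LinearMap.ker S) ≤ 1 ∧
      (∀ c : Module.End F V, Commute c S ↔ Commute c (w : Module.End F V)) := by
  have hadj := isAdj_inv (B := B) w hiso
  have h3 : IsAdj B S (-S) := by
    rw [hSd, neg_sub]
    exact hadj.sub (hadj.symm' hA)
  -- unit part
  have hN : IsNilpotent ((w : Module.End F V) - 1) := ⟨n, hnil⟩
  have hu : IsUnit ((w : Module.End F V) + 1) := by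
    have e : (w : Module.End F V) + 1 = 2 + ((w : Module.End F V) - 1) := by
      rw [← one_add_one_eq_two]; abel
    rw [e]
    exact isUnit_two_add h2 hN
  obtain ⟨z, hz⟩ := hu
  have hfac : S = (((w⁻¹ * z : (Module.End F V)ˣ)) : Module.End F V) * ((w : Module.End F V) - 1) := by
    rw [Units.val_mul, hz, mul_assoc]
    have : ((w : Module.End F V) + 1) * ((w : Module.End F V) - 1) = (w : Module.End F V) * (w : Module.End F V) - 1 := by
      noncomm_ring
    rw [this, mul_sub, ← mul_assoc, Units.inv_mul, one_mul, mul_one, hSd]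
  have hwz : Commute (z : Module.End F V) (w : Module.End F V) := by
    rw [hz]
    exact (Commute.refl _).add_left (Commute.one_left _)
  have hcom : Commute ((((w⁻¹ * z : (Module.End F V)ˣ)) : Module.End F V)) ((w : Module.End F V) - 1) := by
    rw [commute_sub_one_iff, Units.val_mul]
    exact ((Commute.refl (w : Module.End F V)).units_inv_left).mul_left hwz
  have h4 : S ^ n = 0 := by
    rw [hfac, hcom.mul_pow, hnil, mul_zero]
  have h5 : Module.finrank F (LinearMap.ker S) ≤ 1 := by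
    have : LinearMap.ker S = LinearMap.ker ((w : Module.End F V) - 1) := by
      ext x
      rw [LinearMap.mem_ker, LinearMap.mem_ker, hfac, Module.End.mul_apply]
      constructor
      · intro h
        have := congrArg (((((w⁻¹ * z : (Module.End F V)ˣ))⁻¹ : (Module.End F V)ˣ)) : Module.End F V) h
        rw [← Module.End.mul_apply, Units.inv_mul, map_zero] at this
        exact this
      · intro h
        rw [h, map_zero]
    rw [this]
    exact hk
  refine ⟨h3, h4, h5, ?_⟩
  intro c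
  constructor
  · intro hc
    obtain ⟨v, h1⟩ : ∃ v, (S ^ (n - 1)) v ≠ 0 := by
      have := exists_cyclic_vector S h5 (by omega)
      rwa [← hn] at this
    apply commute_of_commute hn h4 h1 hc
    rw [hSd]
    exact (Commute.refl _).sub_right (Commute.refl _).units_inv_right
  · intro hc
    rw [hSd]
    exact hc.sub_right hc.units_inv_right

end abstract

section matrix

variable {F : Type*} [Field F] {m : ℕ}

/-- The unit of `End` given by a symplectic matrix. -/
noncomputable def spEnd (u : Matrix.symplecticGroup (Fin m) F) : (Module.End F (Fin m ⊕ Fin m → F))ˣ where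
  val := Matrix.toLin' (u : Matrix (Fin m ⊕ Fin m) (Fin m ⊕ Fin m) F)
  inv := Matrix.toLin' ((u⁻¹ : Matrix.symplecticGroup (Fin m) F) : Matrix (Fin m ⊕ Fin m) (Fin m ⊕ Fin m) F)
  val_inv := by
    rw [← toLin'_mul_eq]
    have : (u : Matrix (Fin m ⊕ Fin m) (Fin m ⊕ Fin m) F) * ((u⁻¹ : Matrix.symplecticGroup (Fin m) F) : Matrix (Fin m ⊕ Fin m) (Fin m ⊕ Fin m) F) = 1 :=
      congrArg Subtype.val (mul_inv_cancel u)
    rw [this, Matrix.toLin'_one]
    rfl
  inv_val := by
    rw [← toLin'_mul_eq]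
    have : ((u⁻¹ : Matrix.symplecticGroup (Fin m) F) : Matrix (Fin m ⊕ Fin m) (Fin m ⊕ Fin m) F) * (u : Matrix (Fin m ⊕ Fin m) (Fin m ⊕ Fin m) F) = 1 :=
      congrArg Subtype.val (inv_mul_cancel u)
    rw [this, Matrix.toLin'_one]
    rfl

theorem spEnd_coe (u : Matrix.symplecticGroup (Fin m) F) : (spEnd u : Module.End F (Fin m ⊕ Fin m → F)) =
    Matrix.toLin' (u : Matrix (Fin m ⊕ Fin m) (Fin m ⊕ Fin m) F) := rfl

theorem spEnd_apply (u : Matrix.symplecticGroup (Fin m) F) (x : Fin m ⊕ Fin m → F) :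
    (spEnd u : Module.End F (Fin m ⊕ Fin m → F)) x = (u : Matrix (Fin m ⊕ Fin m) (Fin m ⊕ Fin m) F).mulVec x := rfl

theorem spEnd_iso (u : Matrix.symplecticGroup (Fin m) F) (x y : Fin m ⊕ Fin m → F) :
    sB F m ((spEnd u : Module.End F (Fin m ⊕ Fin m → F)) x) ((spEnd u : Module.End F (Fin m ⊕ Fin m → F)) y) = sB F m x y := by
  rw [spEnd_apply, spEnd_apply, sB_apply, sB_apply]
  exact sympForm_mulVec m u.2 x y

theorem sB_nondeg (v : Fin m ⊕ Fin m → F) (h : ∀ w, sB F m v w = 0) : v = 0 := by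
  apply sympForm_nondeg_left
  intro w
  rw [← sB_apply]
  exact h w

/-- Endomorphisms preserving the form come from symplectic matrices. -/
theorem exists_spEnd (g : Module.End F (Fin m ⊕ Fin m → F)) (hg : ∀ x y, sB F m (g x) (g y) = sB F m x y) :
    ∃ u : Matrix.symplecticGroup (Fin m) F, (spEnd u : Module.End F (Fin m ⊕ Fin m → F)) = g := by
  have h1 : LinearMap.toMatrix' g ∈ Matrix.symplecticGroup (Fin m) F := by
    rw [mem_symplecticGroup_iff]
    intro x y
    have := hg x y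
    rw [sB_apply, sB_apply] at this
    rw [LinearMap.toMatrix'_mulVec, LinearMap.toMatrix'_mulVec]
    exact this
  refine ⟨⟨_, h1⟩, ?_⟩
  rw [spEnd_coe]
  exact Matrix.toLin'_toMatrix' g

theorem spEnd_injective : Function.Injective (fun u : Matrix.symplecticGroup (Fin m) F => (spEnd u : Module.End F (Fin m ⊕ Fin m → F))) := by
  intro u u' h
  apply Subtype.ext
  exact (Matrix.toLin' (R := F) (m := Fin m ⊕ Fin m) (n := Fin m ⊕ Fin m)).injective h

theorem spEnd_mul (u u' : Matrix.symplecticGroup (Fin m) F) : (spEnd (u * u') : Module.End F (Fin m ⊕ Fin m → F)) =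
    (spEnd u : Module.End F (Fin m ⊕ Fin m → F)) * (spEnd u' : Module.End F (Fin m ⊕ Fin m → F)) := by
  rw [spEnd_coe, spEnd_coe, spEnd_coe, ← toLin'_mul_eq]
  rfl

theorem spEnd_commute_iff (u u' : Matrix.symplecticGroup (Fin m) F) :
    Commute (spEnd u : Module.End F (Fin m ⊕ Fin m → F)) (spEnd u' : Module.End F (Fin m ⊕ Fin m → F)) ↔ u * u' = u' * u := by
  unfold Commute SemiconjBy
  rw [← spEnd_mul, ← spEnd_mul]
  exact spEnd_injective.eq_iff

/-- translation of regular unipotency -/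
theorem spEnd_regular (hm : 1 ≤ m) (u : Matrix.symplecticGroup (Fin m) F) :
    (((u : Matrix (Fin m ⊕ Fin m) (Fin m ⊕ Fin m) F) - 1) ^ (2 * m) = 0 ∧
      ((u : Matrix (Fin m ⊕ Fin m) (Fin m ⊕ Fin m) F) - 1).rank = 2 * m - 1) ↔
    (((spEnd u : Module.End F (Fin m ⊕ Fin m → F)) - 1) ^ (2 * m) = 0 ∧
      Module.finrank F (LinearMap.ker ((spEnd u : Module.End F (Fin m ⊕ Fin m → F)) - 1)) = 1) := by
  rw [spEnd_coe, ← toLin'_sub_one]
  have h1 := finrank_ker_toLin' ((u : Matrix (Fin m ⊕ Fin m) (Fin m ⊕ Fin m) F) - 1)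
  rw [Fintype.card_sum, Fintype.card_fin] at h1
  have h2 : ((u : Matrix (Fin m ⊕ Fin m) (Fin m ⊕ Fin m) F) - 1) ^ (2 * m) = 0 ↔
      (Matrix.toLin' ((u : Matrix (Fin m ⊕ Fin m) (Fin m ⊕ Fin m) F) - 1) : Module.End F (Fin m ⊕ Fin m → F)) ^ (2 * m) = 0 := by
    rw [← Matrix.toLin'_pow]
    exact (Matrix.toLin' (R := F) (m := Fin m ⊕ Fin m) (n := Fin m ⊕ Fin m)).map_eq_zero_iff.symm
  rw [h2]
  constructor
  · rintro ⟨h3, h4⟩
    exact ⟨h3, by omega⟩
  · rintro ⟨h3, h4⟩
    exact ⟨h3, by omega⟩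

theorem two_ne_zero_of_odd {F : Type*} [Field F] [Fintype F] {q : ℕ} (hF : Fintype.card F = q) (hq : Odd q) :
    (2 : F) ≠ 0 := by
  intro h
  have hc : ringChar F = 2 := by
    have h1 : ringChar F ∣ 2 := by
      apply ringChar.dvd
      exact_mod_cast h
    rcases (Nat.dvd_prime Nat.prime_two).1 h1 with h2 | h2
    · exact absurd h2 (CharP.ringChar_ne_one)
    · exact h2
  have : Fintype.card F % 2 = 0 := FiniteField.even_card_of_char_two hc
  rw [hF] at this
  exact (Nat.not_even_iff_odd.2 hq) (Nat.even_iff.2 this)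

theorem card_centralizer_regular {F : Type*} [Field F] [Fintype F] {q : ℕ} (hF : Fintype.card F = q) (hq : Odd q) {m : ℕ}
    (hm : 1 ≤ m) (u : Matrix.symplecticGroup (Fin m) F)
    (hnil : ((u : Matrix (Fin m ⊕ Fin m) (Fin m ⊕ Fin m) F) - 1) ^ (2 * m) = 0)
    (hreg : ((u : Matrix (Fin m ⊕ Fin m) (Fin m ⊕ Fin m) F) - 1).rank = 2 * m - 1) :
    Nat.card ↥(Subgroup.centralizer ({u} : Set ↥(Matrix.symplecticGroup (Fin m) F))) = 2 * q ^ m := by
  have h2 := two_ne_zero_of_odd hF hq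
  have hn : 2 * m = Module.finrank F (Fin m ⊕ Fin m → F) := by
    rw [Module.finrank_fintype_fun_eq_card, Fintype.card_sum, Fintype.card_fin]; ring
  obtain ⟨h3, h4⟩ := (spEnd_regular hm u).1 ⟨hnil, hreg⟩
  obtain ⟨S, hS⟩ : ∃ S : Module.End F (Fin m ⊕ Fin m → F), S = (spEnd u : Module.End F (Fin m ⊕ Fin m → F)) -
    (((spEnd u)⁻¹ : (Module.End F (Fin m ⊕ Fin m → F))ˣ) : Module.End F (Fin m ⊕ Fin m → F)) := ⟨_, rfl⟩
  obtain ⟨h5, h6, h7, h8⟩ := regular_skew (B := sB F m) (sB_isAlt m) h2 (spEnd u) (spEnd_iso u) hn (by omega) h3 h4.le S hS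
  obtain ⟨v, h1⟩ : ∃ v, (S ^ (2 * m - 1)) v ≠ 0 := by
    have := exists_cyclic_vector S h7 (by omega)
    rwa [← hn] at this
  have h9 := card_isometries_commute (sB_isAlt (F := F) m) sB_nondeg h2 h5 hm hn h6 h1 h7
  rw [Nat.card_eq_fintype_card (α := F), hF] at h9
  rw [← h9]
  let f : ↥(Subgroup.centralizer ({u} : Set ↥(Matrix.symplecticGroup (Fin m) F))) →
      {g : Module.End F (Fin m ⊕ Fin m → F) // Commute g S ∧ ∀ x y, sB F m (g x) (g y) = sB F m x y} := fun g =>
    ⟨(spEnd g.1 : Module.End F (Fin m ⊕ Fin m → F)), (h8 _).2 ((spEnd_commute_iff _ _).2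
      (Subgroup.mem_centralizer_singleton_iff.1 g.2)), spEnd_iso g.1⟩
  refine Nat.card_eq_of_bijective f ⟨?_, ?_⟩
  · intro g g' h
    exact Subtype.ext (spEnd_injective (congrArg Subtype.val h))
  · rintro ⟨g, hg, hiso⟩
    obtain ⟨w, hw⟩ := exists_spEnd g hiso
    refine ⟨⟨w, ?_⟩, Subtype.ext hw⟩
    rw [Subgroup.mem_centralizer_singleton_iff, ← spEnd_commute_iff, hw, ← h8]
    exact hg

end matrix

end Cfsg.Agent.H43
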