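import Mathlib
import Cfsg.Agent.H43.SympReg3
import Cfsg.Agent.H43.SympEquiv

set_option autoImplicit false
set_option linter.unusedSectionVars false
set_option linter.unusedVariables false

/-! Conjugacy of regular unipotent elements of the symplectic group. -/

namespace Cfsg.Agent.H43

open Cfsg.Agent.ClGeo

section exist

variable {F : Type*} [Field F]

/-- antidiagonal alternating form -/
noncomputable def adM (F : Type*) [Field F] (n : ℕ) : Matrix (Fin n) (Fin n) F :=
  Matrix.of fun i j => if (i : ℕ) + (j : ℕ) + 1 = n then (-1 : F) ^ (i : ℕ) else 0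

noncomputable def adB (F : Type*) [Field F] (n : ℕ) : LinearMap.BilinForm F (Fin n → F) := Matrix.toBilin' (adM F n)

theorem eVec_eq_single (n : ℕ) (i : ℕ) (hi : i < n) : eVec F n i = Pi.single ⟨i, hi⟩ 1 := by
  funext j
  unfold eVec
  rw [Pi.single_apply]
  simp only [Fin.ext_iff]

theorem adB_eVec (n i j : ℕ) : adB F n (eVec F n i) (eVec F n j) = if i + j + 1 = n then (-1 : F) ^ i else 0 := by
  by_cases hi : i < n
  · by_cases hj : j < n
    · rw [eVec_eq_single n i hi, eVec_eq_single n j hj]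
      unfold adB
      rw [Matrix.toBilin'_single]
      rfl
    · rw [eVec_eq_zero F n j (by omega), map_zero, if_neg (by omega)]
  · rw [eVec_eq_zero F n i (by omega), map_zero, LinearMap.zero_apply, if_neg (by omega)]

theorem eVec_basis (n : ℕ) (j : Fin n) : (Pi.basisFun F (Fin n)) j = eVec F n j := by
  rw [Pi.basisFun_apply, eVec_eq_single n j j.2]

theorem adB_antisymm (m : ℕ) (x y : Fin (2 * m) → F) : adB F (2 * m) x y = - adB F (2 * m) y x := by
  have key : adB F (2 * m) = - (adB F (2 * m)).flip := by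
    apply (Pi.basisFun F (Fin (2 * m))).ext
    intro i
    apply (Pi.basisFun F (Fin (2 * m))).ext
    intro j
    rw [LinearMap.neg_apply, LinearMap.neg_apply, eVec_basis, eVec_basis]
    change _ = - adB F (2 * m) (eVec F (2 * m) j) (eVec F (2 * m) i)
    rw [adB_eVec, adB_eVec]
    by_cases h : (i : ℕ) + (j : ℕ) + 1 = 2 * m
    · rw [if_pos h, if_pos (by omega)]
      rcases Nat.even_or_odd (i : ℕ) with h1 | h1
      · have h2 : Odd (j : ℕ) := by
          by_contra h3
          rw [Nat.not_odd_iff_even] at h3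
          obtain ⟨a, ha⟩ := h1
          obtain ⟨b, hb⟩ := h3
          omega
        rw [h1.neg_one_pow, h2.neg_one_pow, neg_neg]
      · have h2 : Even (j : ℕ) := by
          by_contra h3
          rw [Nat.not_even_iff_odd] at h3
          obtain ⟨a, ha⟩ := h1
          obtain ⟨b, hb⟩ := h3
          omega
        rw [h1.neg_one_pow, h2.neg_one_pow]
    · rw [if_neg h, if_neg (by omega), neg_zero]
  exact LinearMap.congr_fun (LinearMap.congr_fun key x) y

theorem adB_isAlt (h2 : (2 : F) ≠ 0) (m : ℕ) : (adB F (2 * m)).IsAlt := by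
  intro x
  have h := adB_antisymm m x x
  have h3 : (2 : F) * adB F (2 * m) x x = 0 := by
    rw [two_mul]
    nth_rewrite 2 [h]
    exact add_neg_cancel _
  exact (mul_eq_zero.1 h3).resolve_left h2

theorem adB_nondeg (n : ℕ) (x : Fin n → F) (h : ∀ y, adB F n x y = 0) : x = 0 := by
  funext k
  have h1 := h (eVec F n (n - 1 - (k : ℕ)))
  have h2 : x = ∑ i : Fin n, x i • eVec F n i := by
    conv_lhs => rw [← (Pi.basisFun F (Fin n)).sum_repr x]
    refine Finset.sum_congr rfl fun i _ => ?_
    rw [eVec_basis, Pi.basisFun_repr]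
  rw [h2, map_sum, LinearMap.sum_apply, Finset.sum_eq_single k] at h1
  · have hk := k.2
    rw [map_smul, LinearMap.smul_apply, adB_eVec, if_pos (by omega)] at h1
    rw [smul_eq_mul] at h1
    rcases mul_eq_zero.1 h1 with h3 | h3
    · exact h3
    · exact absurd h3 (pow_ne_zero _ (neg_ne_zero.2 one_ne_zero))
  · intro i _ hi
    have hi' : (i : ℕ) ≠ (k : ℕ) := fun h => hi (Fin.ext h)
    have hk := k.2
    rw [map_smul, LinearMap.smul_apply, adB_eVec, if_neg (by omega), smul_zero]
  · intro h; exact absurd (Finset.mem_univ _) h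

theorem adB_shift (n : ℕ) : IsAdj (adB F n) (shiftE F n) (-shiftE F n) := by
  have key : (adB F n) ∘ₗ (shiftE F n) = ((adB F n).compl₂ (-shiftE F n)) := by
    apply (Pi.basisFun F (Fin n)).ext
    intro i
    apply (Pi.basisFun F (Fin n)).ext
    intro j
    rw [LinearMap.comp_apply, LinearMap.compl₂_apply, eVec_basis, eVec_basis, LinearMap.neg_apply, shiftE_eVec,
      shiftE_eVec, map_neg, adB_eVec, adB_eVec]
    by_cases h : (i : ℕ) + (j : ℕ) + 1 + 1 = n
    · rw [if_pos (by omega), if_pos (by omega), pow_succ]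
      ring
    · rw [if_neg (by omega), if_neg (by omega), neg_zero]
  intro x y
  exact LinearMap.congr_fun (LinearMap.congr_fun key x) y

theorem exists_skew_regular (h2 : (2 : F) ≠ 0) {m : ℕ} (hm : 1 ≤ m) :
    ∃ S : Module.End F (Fin m ⊕ Fin m → F), IsAdj (sB F m) S (-S) ∧ S ^ (2 * m) = 0 ∧
      Module.finrank F (LinearMap.ker S) = 1 := by
  have hd : Module.finrank F (Fin (2 * m) → F) = 2 * m := by
    rw [Module.finrank_fintype_fun_eq_card, Fintype.card_fin]
  obtain ⟨e, he⟩ := exists_symp_equiv' (adB F (2 * m)) (adB_isAlt h2 m) (adB_nondeg (2 * m)) hd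
  have he' : ∀ x y, sB F m (e x) (e y) = adB F (2 * m) x y := by
    intro x y
    rw [sB_apply, he]
  have hpow : ∀ k : ℕ, ∀ x, (((e : (Fin (2 * m) → F) →ₗ[F] _) ∘ₗ shiftE F (2 * m) ∘ₗ (e.symm : _ →ₗ[F] (Fin (2 * m) → F)) :
      Module.End F (Fin m ⊕ Fin m → F)) ^ k) (e x) = e ((shiftE F (2 * m) ^ k) x) := by
    intro k
    induction k with
    | zero => intro x; rfl
    | succ k ih =>
      intro x
      rw [pow_succ, Module.End.mul_apply, pow_succ, Module.End.mul_apply, ← ih]
      congr 1
      simp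
  refine ⟨(e : (Fin (2 * m) → F) →ₗ[F] _) ∘ₗ shiftE F (2 * m) ∘ₗ (e.symm : _ →ₗ[F] (Fin (2 * m) → F)), ?_, ?_, ?_⟩
  · intro x y
    obtain ⟨x', rfl⟩ := e.surjective x
    obtain ⟨y', rfl⟩ := e.surjective y
    have e1 : ∀ z, ((e : (Fin (2 * m) → F) →ₗ[F] _) ∘ₗ shiftE F (2 * m) ∘ₗ (e.symm : _ →ₗ[F] (Fin (2 * m) → F))) (e z) =
      e (shiftE F (2 * m) z) := by
      intro z; simp
    rw [LinearMap.neg_apply, e1, e1, he', map_neg, he', adB_shift, LinearMap.neg_apply, map_neg]
  · apply LinearMap.ext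
    intro x
    obtain ⟨x', rfl⟩ := e.surjective x
    rw [hpow, shiftE_pow]
    simp
  · obtain ⟨v, hv⟩ : ∃ v, (shiftE F (2 * m) ^ (2 * m - 1)) v ≠ 0 := by
      have := exists_cyclic_vector (shiftE F (2 * m)) (shiftE_finrank_ker F (2 * m) (by omega)).le (by omega)
      rwa [hd] at this
    apply finrank_ker_eq_one _ (2 * m) (by rw [Module.finrank_fintype_fun_eq_card, Fintype.card_sum, Fintype.card_fin]; ring)
      (by omega) (e v)
    · apply LinearMap.ext
      intro x
      obtain ⟨x', rfl⟩ := e.surjective x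
      rw [hpow, shiftE_pow]
      simp
    · rw [hpow]
      intro h
      exact hv (e.map_eq_zero_iff.1 h)

/-- There is a regular unipotent symplectic matrix. -/
theorem exists_regular_unipotent (h2 : (2 : F) ≠ 0) {m : ℕ} (hm : 1 ≤ m) :
    ∃ u : Matrix.symplecticGroup (Fin m) F, ((spEnd u : Module.End F (Fin m ⊕ Fin m → F)) - 1) ^ (2 * m) = 0 ∧
      Module.finrank F (LinearMap.ker ((spEnd u : Module.End F (Fin m ⊕ Fin m → F)) - 1)) = 1 := by
  obtain ⟨S, hS1, hS2, hS3⟩ := exists_skew_regular h2 hm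
  have hn : IsNilpotent (-S) := (show IsNilpotent S from ⟨_, hS2⟩).neg
  obtain ⟨g, hg1, hg2, hg3, hg4⟩ := exists_cayley (B := sB F m) (S := S) hn (Commute.refl S).neg_left (by
    rw [neg_neg]
    have := hS1.neg
    rwa [neg_neg] at this)
  obtain ⟨u, hu⟩ := exists_spEnd g hg3
  obtain ⟨w, hw⟩ := hn.isUnit_one_add
  rw [← hw] at hg1
  have hwS : Commute S (w : Module.End F (Fin m ⊕ Fin m → F)) := by
    rw [hw]
    exact (Commute.one_right S).add_right (Commute.refl S).neg_right
  have hwg : Commute g (w : Module.End F (Fin m ⊕ Fin m → F)) := by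
    rw [hw]
    exact (Commute.one_right g).add_right hg2.neg_right
  have e1 : (g - 1) * (w : Module.End F (Fin m ⊕ Fin m → F)) = (2 : F) • S := by
    rw [sub_mul, one_mul, hg1, hw, two_smul]
    abel
  have e2 : (w : Module.End F (Fin m ⊕ Fin m → F)) * (g - 1) = (2 : F) • S := by
    rw [← e1]
    exact (hwg.symm.sub_right (Commute.one_right _))
  have e : g - 1 = S * ((2 : F) • (((w⁻¹ : (Module.End F (Fin m ⊕ Fin m → F))ˣ)) : Module.End F (Fin m ⊕ Fin m → F))) := by
    rw [mul_smul_comm, ← smul_mul_assoc, ← e1, mul_assoc, Units.mul_inv, mul_one]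
  refine ⟨u, ?_, ?_⟩
  · rw [hu, e]
    rw [Commute.mul_pow (hwS.units_inv_right.smul_right _), hS2, zero_mul]
  · rw [hu]
    have hker : LinearMap.ker (g - 1) = LinearMap.ker S := by
      ext x
      rw [LinearMap.mem_ker, LinearMap.mem_ker]
      constructor
      · intro h
        have h3 : ((w : Module.End F (Fin m ⊕ Fin m → F)) * (g - 1)) x = 0 := by
          rw [Module.End.mul_apply, h, map_zero]
        rw [e2, LinearMap.smul_apply] at h3
        exact (smul_eq_zero.1 h3).resolve_left h2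
      · intro h
        have e3 : g - 1 = ((2 : F) • (((w⁻¹ : (Module.End F (Fin m ⊕ Fin m → F))ˣ)) : Module.End F (Fin m ⊕ Fin m → F))) * S := by
          rw [e]
          exact (hwS.units_inv_right.smul_right _)
        rw [e3, Module.End.mul_apply, h, map_zero]
    rw [hker]
    exact hS3

end exist

end Cfsg.Agent.H43
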