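import Mathlib
import Cfsg.Agent.H43.SympReg4

set_option autoImplicit false
set_option linter.unusedSectionVars false
set_option linter.unusedVariables false

/-! Conjugacy classes of regular unipotent isometries. -/

namespace Cfsg.Agent.H43

variable {F V : Type*} [Field F] [AddCommGroup V] [Module F V] [FiniteDimensional F V]

/-- `u2` is obtained from `u1` through `g` whose "multiplier" has eigenvalue `a`. -/
def RelM (B : LinearMap.BilinForm F V) (u1 u2 : Module.End F V) (a : F) : Prop :=
  ∃ (g : V ≃ₗ[F] V) (h : Module.End F V), (∀ x, g (u1 x) = u2 (g x)) ∧ Commute h u1 ∧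
    (∀ x y, B (g x) (g y) = B (h x) y) ∧ IsNilpotent (h - algebraMap F (Module.End F V) a)

variable {B : LinearMap.BilinForm F V}

/-- adjoints exist -/
theorem exists_adj (hnd : B.Nondegenerate) (C : LinearMap.BilinForm F V) : ∃ h : Module.End F V, ∀ x y, C x y = B (h x) y := by
  obtain ⟨h, hh⟩ : ∃ h : Module.End F V, h = (B.toDual hnd).symm.toLinearMap ∘ₗ C := ⟨_, rfl⟩
  refine ⟨h, ?_⟩
  intro x y
  rw [hh, LinearMap.comp_apply]
  have := LinearMap.BilinForm.apply_toDual_symm_apply (B := B) (hB := hnd) (C x) y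
  exact this.symm

theorem RelM.exists (hA : B.IsAlt) (hnd' : B.Nondegenerate) (hnd : ∀ v, (∀ w, B v w = 0) → v = 0) {n : ℕ}
    (hn : n = Module.finrank F V) (hn1 : 1 ≤ n)
    (u1 u2 : (Module.End F V)ˣ) (hiso1 : ∀ x y, B ((u1 : Module.End F V) x) ((u1 : Module.End F V) y) = B x y)
    (hiso2 : ∀ x y, B ((u2 : Module.End F V) x) ((u2 : Module.End F V) y) = B x y)
    (hnil1 : ((u1 : Module.End F V) - 1) ^ n = 0) (hk1 : Module.finrank F (LinearMap.ker ((u1 : Module.End F V) - 1)) = 1)
    (hnil2 : ((u2 : Module.End F V) - 1) ^ n = 0) (hk2 : Module.finrank F (LinearMap.ker ((u2 : Module.End F V) - 1)) = 1) :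
    ∃ a : F, a ≠ 0 ∧ RelM B (u1 : Module.End F V) (u2 : Module.End F V) a := by
  have hV : Nontrivial V := by
    rw [← Module.finrank_pos_iff (R := F)]; omega
  obtain ⟨g, hg⟩ := exists_conj_regular ((u1 : Module.End F V) - 1) ((u2 : Module.End F V) - 1) n hn hn hn1 hnil1 hnil2
    hk1.le hk2.le
  have hg' : ∀ x, g ((u1 : Module.End F V) x) = (u2 : Module.End F V) (g x) := by
    intro x
    have h3 := hg x
    rw [LinearMap.sub_apply, LinearMap.sub_apply, map_sub] at h3
    exact sub_left_injective h3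
  obtain ⟨h, hh⟩ := exists_adj hnd' (B.comp (g : V →ₗ[F] V) (g : V →ₗ[F] V))
  have hh' : ∀ x y, B (g x) (g y) = B (h x) y := by
    intro x y
    rw [← hh]; rfl
  have hcomm : Commute h (u1 : Module.End F V) := by
    apply LinearMap.ext
    intro x
    rw [← sub_eq_zero]
    apply hnd
    intro y
    rw [Module.End.mul_apply, Module.End.mul_apply, map_sub, LinearMap.sub_apply, sub_eq_zero]
    obtain ⟨y', rfl⟩ : ∃ y', y = (u1 : Module.End F V) y' := ⟨((u1⁻¹ : (Module.End F V)ˣ) : Module.End F V) y, by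
      rw [← Module.End.mul_apply, Units.mul_inv]; rfl⟩
    rw [← hh', hg', hg', hiso2, hiso1, hh']
  obtain ⟨a, k, hk, hkh⟩ := exists_scalar_add_nilpotent ((u1 : Module.End F V) - 1) n hn hn1 hnil1 hk1.le h
    ((commute_sub_one_iff _ _).2 hcomm)
  have hnil : IsNilpotent (h - algebraMap F (Module.End F V) a) := isNilpotent_sub _ n hnil1 hk hkh
  refine ⟨a, ?_, g, h, hg', hcomm, hh', hnil⟩
  rintro rfl
  rw [map_zero, sub_zero] at hnil
  have hinj : Function.Injective h := by
    rw [injective_iff_map_eq_zero]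
    intro x hx
    have : g x = 0 := by
      apply hnd
      intro y
      obtain ⟨y', rfl⟩ := g.surjective y
      rw [hh', hx]
      simp
    exact g.map_eq_zero_iff.1 this
  have hhu : IsUnit h := by
    rw [Module.End.isUnit_iff]
    exact ⟨hinj, LinearMap.surjective_of_injective hinj⟩
  obtain ⟨j, hj⟩ := hnil
  have : IsUnit (h ^ j) := hhu.pow j
  rw [hj, isUnit_zero_iff] at this
  exact zero_ne_one this

theorem RelM.symm_h (hA : B.IsAlt) {g : V ≃ₗ[F] V} {h : Module.End F V} (hh' : ∀ x y, B (g x) (g y) = B (h x) y) :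
    IsAdj B h h := by
  intro x y
  rw [← hh', ← hA.neg_eq, hh', hA.neg_eq]

/-- square root -/
theorem exists_sqrt_unip {p : ℕ} [Fact p.Prime] [CharP F p] (hp : p ≠ 2) [Nontrivial V] {h : Module.End F V}
    (hh : IsNilpotent (h - 1)) : ∃ t : ℕ, h ^ t * h ^ t = h := by
  obtain ⟨k, hk⟩ := hh
  have hcp : CharP (Module.End F V) p := charP_of_injective_algebraMap (algebraMap F (Module.End F V)).injective p
  have hkp : k ≤ p ^ k := (Nat.lt_pow_self (Fact.out : p.Prime).one_lt).le
  have h1 : (h - 1) ^ (p ^ k) = 0 := pow_eq_zero_of_le hkp hk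
  have h2 : h ^ (p ^ k) = 1 := by
    have h3 := sub_pow_char_pow_of_commute (p := p) (n := k) (h := (Commute.one_right h))
    rw [h1, one_pow] at h3
    exact (sub_eq_zero.1 h3.symm)
  have hodd : Odd (p ^ k) := ((Fact.out : p.Prime).odd_of_ne_two hp).pow
  obtain ⟨t, ht⟩ := hodd
  refine ⟨t + 1, ?_⟩
  rw [← pow_add, show t + 1 + (t + 1) = p ^ k + 1 by omega, pow_succ, h2, one_mul]

theorem IsAdj.units_of {k : Module.End F V} (hA : B.IsAlt) (h : IsAdj B k k) (w : (Module.End F V)ˣ) (hw : (w : Module.End F V) = k) :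
    IsAdj B ((w⁻¹ : (Module.End F V)ˣ) : Module.End F V) ((w⁻¹ : (Module.End F V)ˣ) : Module.End F V) := by
  intro x y
  obtain ⟨x', rfl⟩ : ∃ x', x = (w : Module.End F V) x' := ⟨((w⁻¹ : (Module.End F V)ˣ) : Module.End F V) x, by
    rw [← Module.End.mul_apply, Units.mul_inv]; rfl⟩
  rw [← Module.End.mul_apply, Units.inv_mul, hw, h, ← Module.End.mul_apply, ← hw, Units.mul_inv]
  rfl

theorem RelM.exists_isometry {p : ℕ} [Fact p.Prime] [CharP F p] (hp : p ≠ 2) [Nontrivial V] (hA : B.IsAlt)
    {u1 u2 : Module.End F V} {b : F} (hb : b ≠ 0) (hR : RelM B u1 u2 (b * b)) :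
    ∃ g : V ≃ₗ[F] V, (∀ x, g (u1 x) = u2 (g x)) ∧ ∀ x y, B (g x) (g y) = B x y := by
  obtain ⟨g, h, hg, hcomm, hh', hnil⟩ := hR
  have hsym : IsAdj B h h := RelM.symm_h hA hh'
  obtain ⟨h', hh'd⟩ : ∃ h' : Module.End F V, h' = (b * b)⁻¹ • h := ⟨_, rfl⟩
  have hnil' : IsNilpotent (h' - 1) := by
    have e : h' - 1 = (b * b)⁻¹ • (h - algebraMap F (Module.End F V) (b * b)) := by
      rw [hh'd, smul_sub, Algebra.algebraMap_eq_smul_one, smul_smul, inv_mul_cancel₀ (mul_ne_zero hb hb), one_smul]
    rw [e]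
    exact hnil.smul _
  obtain ⟨t, ht⟩ := exists_sqrt_unip hp hnil'
  obtain ⟨k, hk⟩ : ∃ k : Module.End F V, k = b • h' ^ t := ⟨_, rfl⟩
  have hkk : k * k = h := by
    rw [hk, smul_mul_smul_comm, ht, hh'd, smul_smul, mul_inv_cancel₀ (mul_ne_zero hb hb), one_smul]
  have hksym : IsAdj B k k := by
    rw [hk]
    apply IsAdj.smul
    apply IsAdj.pow
    rw [hh'd]
    exact hsym.smul _
  have hkcomm : Commute k u1 := by
    rw [hk, hh'd]
    exact ((hcomm.smul_left _).pow_left _).smul_left _
  have hku : IsUnit k := by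
    have hu : IsUnit h' := by
      have : h' = (h' - 1) + 1 := by abel
      rw [this]
      exact hnil'.isUnit_add_one
    rw [hk, Algebra.smul_def]
    exact (hb.isUnit.map _).mul (hu.pow t)
  obtain ⟨w, hw⟩ := hku
  have hwadj := IsAdj.units_of hA hksym w hw
  have hwc : Commute (((w⁻¹ : (Module.End F V)ˣ)) : Module.End F V) u1 := by
    have : Commute (w : Module.End F V) u1 := by rw [hw]; exact hkcomm
    exact this.units_inv_left
  refine ⟨(LinearMap.GeneralLinearGroup.generalLinearEquiv F V w⁻¹).trans g, ?_, ?_⟩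
  · intro x
    have h3 : ∀ z, (LinearMap.GeneralLinearGroup.generalLinearEquiv F V w⁻¹) z = (((w⁻¹ : (Module.End F V)ˣ)) : Module.End F V) z := fun z => rfl
    rw [LinearEquiv.trans_apply, LinearEquiv.trans_apply, h3, h3, ← hg]
    congr 1
    rw [← Module.End.mul_apply, ← Module.End.mul_apply, hwc.eq]
  · intro x y
    have h3 : ∀ z, (LinearMap.GeneralLinearGroup.generalLinearEquiv F V w⁻¹) z = (((w⁻¹ : (Module.End F V)ˣ)) : Module.End F V) z := fun z => rfl
    rw [LinearEquiv.trans_apply, LinearEquiv.trans_apply, h3, h3, hh', ← hkk]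
    have h5 : ((w : Module.End F V) * (w : Module.End F V)) ((((w⁻¹ : (Module.End F V)ˣ)) : Module.End F V) x) = (w : Module.End F V) x := by
      rw [← Module.End.mul_apply, mul_assoc, Units.mul_inv, mul_one]
    have h4 : IsAdj B (w : Module.End F V) (w : Module.End F V) := by rw [hw]; exact hksym
    rw [← hw, h5, h4, ← Module.End.mul_apply, Units.mul_inv, Module.End.one_apply]

/-- If there is an isometry conjugating `u1` to `u2`, then the multiplier is a square. -/
theorem RelM.isSquare (hA : B.IsAlt) (hnd' : B.Nondegenerate) (hnd : ∀ v, (∀ w, B v w = 0) → v = 0) {n : ℕ}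
    (hn : n = Module.finrank F V) (hn1 : 1 ≤ n)
    {u1 : (Module.End F V)ˣ} {u2 : Module.End F V} (hiso1 : ∀ x y, B ((u1 : Module.End F V) x) ((u1 : Module.End F V) y) = B x y)
    (hnil1 : ((u1 : Module.End F V) - 1) ^ n = 0) (hk1 : Module.finrank F (LinearMap.ker ((u1 : Module.End F V) - 1)) = 1)
    {a : F} (hR : RelM B (u1 : Module.End F V) u2 a) (k : V ≃ₗ[F] V) (hk : ∀ x, k ((u1 : Module.End F V) x) = u2 (k x))
    (hkiso : ∀ x y, B (k x) (k y) = B x y) : IsSquare a := by
  have hV : Nontrivial V := by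
    rw [← Module.finrank_pos_iff (R := F)]; omega
  obtain ⟨g, h, hg, hcomm, hh', hnil⟩ := hR
  obtain ⟨P, hP⟩ : ∃ P : Module.End F V, P = ((g.trans k.symm : V ≃ₗ[F] V) : V →ₗ[F] V) := ⟨_, rfl⟩
  have hPx : ∀ x, k (P x) = g x := by
    intro x; rw [hP]; simp
  have hPc : Commute P (u1 : Module.End F V) := by
    apply LinearMap.ext
    intro x
    rw [Module.End.mul_apply, Module.End.mul_apply]
    apply k.injective
    rw [hPx, hg, hk, hPx]
  -- B (P x) y = B (P' x) y, we want adjoint instead
  obtain ⟨Q, hQ⟩ := exists_adj hnd' (B.compRight P)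
  have hQ' : ∀ x y, B (Q x) y = B x (P y) := by
    intro x y; rw [← hQ]; rfl
  have hQadj : IsAdj B Q P := hQ'
  have hPQ : IsAdj B P Q := hQadj.symm' hA
  have hh : h = Q * P := by
    apply LinearMap.ext
    intro x
    rw [← sub_eq_zero]
    apply hnd
    intro y
    rw [map_sub, LinearMap.sub_apply, ← hh', Module.End.mul_apply, hQ', ← hPx, ← hPx, hkiso, sub_self]
  obtain ⟨b, c, hc, hPb⟩ := exists_scalar_add_nilpotent ((u1 : Module.End F V) - 1) n hn hn1 hnil1 hk1.le P
    ((commute_sub_one_iff _ _).2 hPc)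
  have hPn : IsNilpotent (P - algebraMap F (Module.End F V) b) := isNilpotent_sub _ n hnil1 hc hPb
  have hQn : IsNilpotent (Q - algebraMap F (Module.End F V) b) :=
    IsAdj.isNilpotent hA hnd (hPQ.sub (IsAdj.algebraMap (B := B) b)) hPn
  -- Q commutes with P since both commute with u1
  have hQc : Commute Q (u1 : Module.End F V) := by
    have hadj := isAdj_inv (B := B) u1 hiso1
    have h3 : IsAdj B (P * (u1 : Module.End F V)) ((((u1⁻¹ : (Module.End F V)ˣ)) : Module.End F V) * Q) := hPQ.mul hadj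
    have h4 : IsAdj B ((u1 : Module.End F V) * P) (Q * (((u1⁻¹ : (Module.End F V)ˣ)) : Module.End F V)) := hadj.mul hPQ
    rw [← hPc.eq] at h4
    have h5 := IsAdj.right_unique hA hnd h4 h3
    have h6 : Commute Q (((u1⁻¹ : (Module.End F V)ˣ)) : Module.End F V) := h5
    have := h6.units_inv_right
    rwa [inv_inv] at this
  obtain ⟨v, h1⟩ : ∃ v, (((u1 : Module.End F V) - 1) ^ (n - 1)) v ≠ 0 := by
    have := exists_cyclic_vector ((u1 : Module.End F V) - 1) hk1.le (by omega)
    rwa [← hn] at this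
  have hQP : Commute Q P := commute_of_commute hn hnil1 h1 ((commute_sub_one_iff _ _).2 hQc) ((commute_sub_one_iff _ _).2 hPc)
  have hbc : ∀ z : Module.End F V, Commute (algebraMap F (Module.End F V) b) z := commute_algebraMap b
  have h7 : IsNilpotent (h - algebraMap F (Module.End F V) (b * b)) := by
    have e : h - algebraMap F (Module.End F V) (b * b) = (Q - algebraMap F (Module.End F V) b) * P +
        algebraMap F (Module.End F V) b * (P - algebraMap F (Module.End F V) b) := by
      rw [hh, map_mul, sub_mul, mul_sub]; abel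
    rw [e]
    apply Commute.isNilpotent_add
    · have c1 : Commute P (P - algebraMap F (Module.End F V) b) := (Commute.refl P).sub_right (hbc P).symm
      have c2 : Commute (Q - algebraMap F (Module.End F V) b) (P - algebraMap F (Module.End F V) b) := 
        (hQP.sub_left (hbc P)).sub_right (hbc _).symm
      exact (((hbc _).symm).mul_right (c2.mul_left c1))
    · exact (hQP.sub_left (hbc P)).isNilpotent_mul_right hQn
    · exact (hbc _).isNilpotent_mul_left hPn
  refine ⟨b, ?_⟩
  have h8 : Commute (h - algebraMap F (Module.End F V) (b * b)) (h - algebraMap F (Module.End F V) a) := by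
    apply Commute.sub_right
    · exact (Commute.refl h).sub_left (commute_algebraMap _ _)
    · exact (commute_algebraMap _ _).symm
  have h9 := Commute.isNilpotent_sub h8 h7 hnil
  have e : h - algebraMap F (Module.End F V) (b * b) - (h - algebraMap F (Module.End F V) a) =
    algebraMap F (Module.End F V) (a - b * b) := by
    rw [map_sub]; abel
  rw [e, algebraMap_nilpotent_iff, sub_eq_zero] at h9
  exact h9

/-- Composition with a similitude. -/
theorem RelM.trans_sim {u0 u1 u2 : Module.End F V} {a δ : F} (k : V ≃ₗ[F] V) (hk : ∀ x, k (u0 x) = u1 (k x))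
    (hksim : ∀ x y, B (k x) (k y) = δ * B x y) (hR : RelM B u1 u2 a) : RelM B u0 u2 (δ * a) := by
  obtain ⟨g, h, hg, hcomm, hh', hnil⟩ := hR
  refine ⟨k.trans g, δ • ((k.symm : V →ₗ[F] V) ∘ₗ h ∘ₗ (k : V →ₗ[F] V)), ?_, ?_, ?_, ?_⟩
  · intro x
    rw [LinearEquiv.trans_apply, hk, hg]; rfl
  · apply Commute.smul_left
    apply LinearMap.ext
    intro x
    change k.symm (h (k (u0 x))) = u0 (k.symm (h (k x)))
    apply k.injective
    rw [LinearEquiv.apply_symm_apply, hk, hk, LinearEquiv.apply_symm_apply]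
    have := LinearMap.congr_fun hcomm.eq (k x)
    exact this
  · intro x y
    rw [LinearEquiv.trans_apply, LinearEquiv.trans_apply, hh', LinearMap.smul_apply, map_smul, LinearMap.smul_apply,
      smul_eq_mul, ← hksim]
    change _ = B (k (k.symm (h (k x)))) (k y)
    rw [LinearEquiv.apply_symm_apply]
  · obtain ⟨j, hj⟩ := hnil
    have e : δ • ((k.symm : V →ₗ[F] V) ∘ₗ h ∘ₗ (k : V →ₗ[F] V)) - algebraMap F (Module.End F V) (δ * a) =
      δ • ((k.symm : V →ₗ[F] V) ∘ₗ (h - algebraMap F (Module.End F V) a) ∘ₗ (k : V →ₗ[F] V)) := by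
      apply LinearMap.ext
      intro x
      simp only [LinearMap.sub_apply, LinearMap.smul_apply, LinearMap.comp_apply, Module.algebraMap_end_apply, map_sub,
        smul_sub, mul_smul, map_smul]
      congr 3
      change x = k.symm (k x)
      rw [LinearEquiv.symm_apply_apply]
    rw [e]
    apply IsNilpotent.smul
    refine ⟨j, ?_⟩
    have hpow : ∀ i : ℕ, ((((k.symm : V →ₗ[F] V) ∘ₗ (h - algebraMap F (Module.End F V) a) ∘ₗ (k : V →ₗ[F] V)) : Module.End F V)) ^ i =
      (k.symm : V →ₗ[F] V) ∘ₗ ((h - algebraMap F (Module.End F V) a) ^ i) ∘ₗ (k : V →ₗ[F] V) := by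
      intro i
      induction i with
      | zero =>
        apply LinearMap.ext
        intro x
        change x = k.symm (k x)
        rw [LinearEquiv.symm_apply_apply]
      | succ i ih =>
        rw [pow_succ, ih, pow_succ]
        apply LinearMap.ext
        intro x
        change k.symm (((h - algebraMap F (Module.End F V) a) ^ i) (k (k.symm ((h - algebraMap F (Module.End F V) a) (k x))))) = _
        rw [LinearEquiv.apply_symm_apply]
        rfl
    rw [hpow, hj]
    simp

end Cfsg.Agent.H43
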