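import Mathlib
import Cfsg.Agent.H43.SympReg5

set_option autoImplicit false
set_option linter.unusedSectionVars false
set_option linter.unusedVariables false

/-! The regular unipotent elements of the symplectic group form two classes. -/

namespace Cfsg.Agent.H43

open Cfsg.Agent.ClGeo

theorem pow_conj_eq {F V : Type*} [Field F] [AddCommGroup V] [Module F V] (k : V ≃ₗ[F] V) {f f' : Module.End F V}
    (h : ∀ x, k (f x) = f' (k x)) (n : ℕ) : ∀ x, k ((f ^ n) x) = (f' ^ n) (k x) := by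
  induction n with
  | zero => intro x; rfl
  | succ n ih => intro x; rw [pow_succ, pow_succ, Module.End.mul_apply, Module.End.mul_apply, ih, h]

theorem pow_eq_zero_conj {F V : Type*} [Field F] [AddCommGroup V] [Module F V] (k : V ≃ₗ[F] V) {f f' : Module.End F V}
    (h : ∀ x, k (f x) = f' (k x)) (n : ℕ) (hf : f ^ n = 0) : f' ^ n = 0 := by
  apply LinearMap.ext
  intro x
  obtain ⟨x', rfl⟩ := k.surjective x
  rw [← pow_conj_eq k h, hf]
  simp

theorem finrank_ker_conj {F V : Type*} [Field F] [AddCommGroup V] [Module F V] (k : V ≃ₗ[F] V) {f f' : Module.End F V}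
    (h : ∀ x, k (f x) = f' (k x)) : Module.finrank F (LinearMap.ker f') = Module.finrank F (LinearMap.ker f) := by
  have e : LinearMap.ker f' = (LinearMap.ker f).map (k : V →ₗ[F] V) := by
    ext x
    constructor
    · intro hx
      refine ⟨k.symm x, ?_, by simp⟩
      change f (k.symm x) = 0
      apply k.injective
      rw [h, LinearEquiv.apply_symm_apply, map_zero]
      exact hx
    · rintro ⟨y, hy, rfl⟩
      change f' (k y) = 0
      rw [← h, show f y = 0 from hy, map_zero]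
  rw [e]
  exact LinearEquiv.finrank_map_eq k (LinearMap.ker f)

variable {F : Type*} [Field F] {m : ℕ}

/-- A similitude. -/
noncomputable def simE (δ : F) (hδ : δ ≠ 0) (m : ℕ) : (Fin m ⊕ Fin m → F) ≃ₗ[F] (Fin m ⊕ Fin m → F) where
  toFun x := Sum.elim (fun i => δ * x (Sum.inl i)) (fun i => x (Sum.inr i))
  invFun x := Sum.elim (fun i => δ⁻¹ * x (Sum.inl i)) (fun i => x (Sum.inr i))
  left_inv x := by
    funext i
    rcases i with i | i
    · simp [hδ]
    · simp
  right_inv x := by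
    funext i
    rcases i with i | i
    · simp [hδ]
    · simp
  map_add' x y := by
    funext i
    rcases i with i | i
    · simp [mul_add]
    · simp
  map_smul' a x := by
    funext i
    rcases i with i | i
    · simp; ring
    · simp

theorem simE_sim (δ : F) (hδ : δ ≠ 0) (x y : Fin m ⊕ Fin m → F) :
    sB F m (simE δ hδ m x) (simE δ hδ m y) = δ * sB F m x y := by
  rw [sB_apply, sB_apply, sympForm_eq, sympForm_eq, Finset.mul_sum]
  refine Finset.sum_congr rfl fun i _ => ?_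
  change _ * _ - _ * _ = _
  simp [simE]
  ring

theorem isConj_of_isometry (u1 u2 : Matrix.symplecticGroup (Fin m) F) (g : (Fin m ⊕ Fin m → F) ≃ₗ[F] (Fin m ⊕ Fin m → F))
    (hg : ∀ x, g ((spEnd u1 : Module.End F (Fin m ⊕ Fin m → F)) x) = (spEnd u2 : Module.End F (Fin m ⊕ Fin m → F)) (g x))
    (hiso : ∀ x y, sB F m (g x) (g y) = sB F m x y) : IsConj u1 u2 := by
  obtain ⟨w, hw⟩ := exists_spEnd (g : (Fin m ⊕ Fin m → F) →ₗ[F] (Fin m ⊕ Fin m → F)) hiso
  rw [isConj_iff]
  refine ⟨w, ?_⟩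
  rw [mul_inv_eq_iff_eq_mul]
  apply spEnd_injective
  change (spEnd (w * u1) : Module.End F (Fin m ⊕ Fin m → F)) = (spEnd (u2 * w) : Module.End F (Fin m ⊕ Fin m → F))
  rw [spEnd_mul, spEnd_mul, hw]
  apply LinearMap.ext
  intro x
  exact hg x

theorem isometry_of_isConj (u1 u2 : Matrix.symplecticGroup (Fin m) F) (h : IsConj u1 u2) :
    ∃ g : (Fin m ⊕ Fin m → F) ≃ₗ[F] (Fin m ⊕ Fin m → F),
    (∀ x, g ((spEnd u1 : Module.End F (Fin m ⊕ Fin m → F)) x) = (spEnd u2 : Module.End F (Fin m ⊕ Fin m → F)) (g x)) ∧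
    (∀ x y, sB F m (g x) (g y) = sB F m x y) := by
  rw [isConj_iff] at h
  obtain ⟨w, hw⟩ := h
  rw [mul_inv_eq_iff_eq_mul] at hw
  refine ⟨LinearMap.GeneralLinearGroup.generalLinearEquiv F _ (spEnd w), ?_, ?_⟩
  · intro x
    change ((spEnd w : Module.End F (Fin m ⊕ Fin m → F)) * (spEnd u1 : Module.End F (Fin m ⊕ Fin m → F))) x =
      ((spEnd u2 : Module.End F (Fin m ⊕ Fin m → F)) * (spEnd w : Module.End F (Fin m ⊕ Fin m → F))) x
    rw [← spEnd_mul, ← spEnd_mul, hw]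
  · intro x y
    exact spEnd_iso w x y

theorem isSquare_mul_of_nonsquare [Fintype F] (hF : ringChar F ≠ 2) {a b : F} (ha : a ≠ 0) (hb : b ≠ 0)
    (ha' : ¬ IsSquare a) (hb' : ¬ IsSquare b) : IsSquare (a * b) := by
  classical
  rw [← quadraticChar_one_iff_isSquare (mul_ne_zero ha hb), map_mul,
    quadraticChar_neg_one_iff_not_isSquare.2 ha', quadraticChar_neg_one_iff_not_isSquare.2 hb']
  norm_num

theorem card_regular_unipotent_classes {F : Type*} [Field F] [Fintype F] {q : ℕ} (hF : Fintype.card F = q) (hq : Odd q)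
    {m : ℕ} (hm : 1 ≤ m) : Nat.card {C : ConjClasses ↥(Matrix.symplecticGroup (Fin m) F) //
      ∃ u : Matrix.symplecticGroup (Fin m) F, ConjClasses.mk u = C ∧
      ((u : Matrix (Fin m ⊕ Fin m) (Fin m ⊕ Fin m) F) - 1) ^ (2 * m) = 0 ∧
      ((u : Matrix (Fin m ⊕ Fin m) (Fin m ⊕ Fin m) F) - 1).rank = 2 * m - 1} = 2 := by
  have h2 := two_ne_zero_of_odd hF hq
  obtain ⟨p, hp⟩ := CharP.exists F
  have hpp : p.Prime := (CharP.char_is_prime_or_zero F p).resolve_right (by
    intro h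
    subst h
    have := CharP.charP_to_charZero F
    exact not_finite F)
  have hfp : Fact p.Prime := ⟨hpp⟩
  have hp2 : p ≠ 2 := by
    rintro rfl
    apply h2
    exact_mod_cast (CharP.cast_eq_zero F 2)
  have hrc : ringChar F ≠ 2 := by
    rw [ringChar.eq F p]; exact hp2
  have hn : 2 * m = Module.finrank F (Fin m ⊕ Fin m → F) := by
    rw [Module.finrank_fintype_fun_eq_card, Fintype.card_sum, Fintype.card_fin]; ring
  have hV : Nontrivial (Fin m ⊕ Fin m → F) := by
    rw [← Module.finrank_pos_iff (R := F)]; omega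
  obtain ⟨δ, hδ⟩ := FiniteField.exists_nonsquare hrc
  have hδ0 : δ ≠ 0 := by
    rintro rfl
    exact hδ ⟨0, by simp⟩
  obtain ⟨u0, h01, h02⟩ := exists_regular_unipotent (F := F) h2 hm
  obtain ⟨k, hk⟩ : ∃ k : (Fin m ⊕ Fin m → F) ≃ₗ[F] (Fin m ⊕ Fin m → F), k = simE δ hδ0 m := ⟨_, rfl⟩
  have hksim : ∀ x y, sB F m (k x) (k y) = δ * sB F m x y := by
    intro x y; rw [hk]; exact simE_sim δ hδ0 x y
  obtain ⟨ud, hud⟩ := exists_spEnd ((k : (Fin m ⊕ Fin m → F) →ₗ[F] (Fin m ⊕ Fin m → F)) ∘ₗ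
      (spEnd u0 : Module.End F (Fin m ⊕ Fin m → F)) ∘ₗ (k.symm : (Fin m ⊕ Fin m → F) →ₗ[F] (Fin m ⊕ Fin m → F))) (by
    intro x y
    obtain ⟨x', rfl⟩ := k.surjective x
    obtain ⟨y', rfl⟩ := k.surjective y
    have e : ∀ z, ((k : (Fin m ⊕ Fin m → F) →ₗ[F] (Fin m ⊕ Fin m → F)) ∘ₗ
      (spEnd u0 : Module.End F (Fin m ⊕ Fin m → F)) ∘ₗ (k.symm : (Fin m ⊕ Fin m → F) →ₗ[F] (Fin m ⊕ Fin m → F))) (k z) =
      k ((spEnd u0 : Module.End F (Fin m ⊕ Fin m → F)) z) := by
      intro z; simp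
    rw [e, e, hksim, spEnd_iso, hksim])
  have hkc : ∀ x, k ((spEnd u0 : Module.End F (Fin m ⊕ Fin m → F)) x) = (spEnd ud : Module.End F (Fin m ⊕ Fin m → F)) (k x) := by
    intro x
    rw [hud]
    simp
  have hkc' : ∀ x, k (((spEnd u0 : Module.End F (Fin m ⊕ Fin m → F)) - 1) x) = ((spEnd ud : Module.End F (Fin m ⊕ Fin m → F)) - 1) (k x) := by
    intro x
    rw [LinearMap.sub_apply, LinearMap.sub_apply, map_sub, hkc]
    rfl
  have hd1 := pow_eq_zero_conj k hkc' (2 * m) h01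
  have hd2 : Module.finrank F (LinearMap.ker ((spEnd ud : Module.End F (Fin m ⊕ Fin m → F)) - 1)) = 1 := by
    rw [finrank_ker_conj k hkc', h02]
  have hnc : ¬ IsConj u0 ud := by
    intro hc
    obtain ⟨g, hg1, hg2⟩ := isometry_of_isConj u0 ud hc
    have hR : RelM (sB F m) (spEnd u0 : Module.End F (Fin m ⊕ Fin m → F)) (spEnd ud : Module.End F (Fin m ⊕ Fin m → F)) δ := by
      refine ⟨k, algebraMap F _ δ, hkc, commute_algebraMap _ _, ?_, ?_⟩
      · intro x y
        rw [hksim, Module.algebraMap_end_apply, map_smul, LinearMap.smul_apply, smul_eq_mul]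
      · rw [sub_self]; exact IsNilpotent.zero
    exact hδ (RelM.isSquare (sB_isAlt m) (sB_nondegenerate m) sB_nondeg hn (by omega) (spEnd_iso u0) h01 h02 hR g hg1 hg2)
  have key : ∀ u : Matrix.symplecticGroup (Fin m) F, ((spEnd u : Module.End F (Fin m ⊕ Fin m → F)) - 1) ^ (2 * m) = 0 →
      Module.finrank F (LinearMap.ker ((spEnd u : Module.End F (Fin m ⊕ Fin m → F)) - 1)) = 1 → IsConj u0 u ∨ IsConj ud u := by
    intro u hu1 hu2
    obtain ⟨a, ha, hR⟩ := RelM.exists (B := sB F m) (sB_isAlt m) (sB_nondegenerate m) sB_nondeg hn (by omega) (spEnd ud) (spEnd u)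
      (spEnd_iso ud) (spEnd_iso u) hd1 hd2 hu1 hu2
    by_cases hsq : IsSquare a
    · right
      obtain ⟨b, rfl⟩ := hsq
      have hb : b ≠ 0 := by
        rintro rfl; exact ha (by simp)
      obtain ⟨g, hg1, hg2⟩ := hR.exists_isometry hp2 (sB_isAlt m) hb
      exact isConj_of_isometry ud u g hg1 hg2
    · left
      have hR' := hR.trans_sim k hkc hksim
      obtain ⟨b, hb'⟩ := isSquare_mul_of_nonsquare hrc hδ0 ha hδ hsq
      have hb : b ≠ 0 := by
        rintro rfl
        rw [mul_zero] at hb'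
        exact (mul_ne_zero hδ0 ha) hb'
      rw [hb'] at hR'
      obtain ⟨g, hg1, hg2⟩ := hR'.exists_isometry hp2 (sB_isAlt m) hb
      exact isConj_of_isometry u0 u g hg1 hg2
  have e0 := (spEnd_regular hm u0).2 ⟨h01, h02⟩
  have ed := (spEnd_regular hm ud).2 ⟨hd1, hd2⟩
  rw [Nat.card_eq_two_iff]
  refine ⟨⟨ConjClasses.mk u0, u0, rfl, e0.1, e0.2⟩, ⟨ConjClasses.mk ud, ud, rfl, ed.1, ed.2⟩, ?_, ?_⟩
  · intro h
    exact hnc (ConjClasses.mk_eq_mk_iff_isConj.1 (congrArg Subtype.val h))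
  · rw [Set.eq_univ_iff_forall]
    rintro ⟨C, u, rfl, hu1, hu2⟩
    obtain ⟨h3, h4⟩ := (spEnd_regular hm u).1 ⟨hu1, hu2⟩
    rcases key u h3 h4 with h | h
    · left
      exact Subtype.ext (ConjClasses.mk_eq_mk_iff_isConj.2 h).symm
    · right
      exact Subtype.ext (ConjClasses.mk_eq_mk_iff_isConj.2 h).symm

end Cfsg.Agent.H43
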