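import Mathlib
import Cfsg.Agent.H43.SemiConj2
import Cfsg.Agent.H43.SympReg6

set_option autoImplicit false
set_option linter.unusedSectionVars false
set_option linter.unusedVariables false

/-! Conjugacy of semisimple symplectic matrices. -/

namespace Cfsg.Agent.H43

open Cfsg.Agent.ClGeo

theorem semisimple_alt {F V W : Type*} [Field F] [Finite F] [AddCommGroup V] [Module F V] [FiniteDimensional F V]
    [AddCommGroup W] [Module F W] [FiniteDimensional F W]
    (B : LinearMap.BilinForm F V) (B' : LinearMap.BilinForm F W)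
    (hA : B.IsAlt) (hA' : B'.IsAlt) (hB : ∀ v, (∀ w, B v w = 0) → v = 0) (hB' : ∀ v, (∀ w, B' v w = 0) → v = 0)
    (a : V ≃ₗ[F] V) (c : W ≃ₗ[F] W) (ha : ∀ x y, B (a x) (a y) = B x y) (hc : ∀ x y, B' (c x) (c y) = B' x y)
    {N : ℕ} (hN : (N : F) ≠ 0) (haN : (a : V →ₗ[F] V) ^ N = 1)
    (g : V ≃ₗ[F] W) (hg : ∀ x, g (a x) = c (g x)) :
    ∃ k : V ≃ₗ[F] W, (∀ x, k (a x) = c (k x)) ∧ ∀ x y, B' (k x) (k y) = B x y := by
  obtain ⟨U, T, a1, c1, g1, ha1, hc1, hg1, hU, hT, hinj1, hred1⟩ :=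
    reduce_alt B B' hA hA' hB hB' a c ha hc hN haN g hg 1 (one_mul 1)
  apply (fun h : ∃ k' : U ≃ₗ[F] T, (∀ x, k' (a1 x) = c1 (k' x)) ∧ (∀ x y : U, B' (k' x : W) (k' y : W) = B (x : V) (y : V)) =>
    (Exists.elim h (fun k' hk' => hred1 k' hk'.1 hk'.2)))
  have ha1N : (a1 : U →ₗ[F] U) ^ N = 1 := by
    have hpow : ∀ (n : ℕ) (x : U), ((((a1 : U →ₗ[F] U) ^ n) x : U) : V) = ((a : V →ₗ[F] V) ^ n) x := by
      intro n
      induction n with
      | zero => intro x; rfl
      | succ n ih =>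
        intro x
        rw [pow_succ, Module.End.mul_apply, ih, pow_succ, Module.End.mul_apply]
        congr 1
        exact ha1 x
    apply LinearMap.ext
    intro x
    apply Subtype.ext
    rw [hpow, haN]
    rfl
  obtain ⟨U2, T2, a2, c2, g2, ha2, hc2, hg2, hU2, hT2, hinj2, hred2⟩ :=
    reduce_alt (B.restrict U) (B'.restrict T) (fun x => hA x) (fun x => hA' x) hU hT a1 c1 (by
      intro x y
      change B (a1 x : V) (a1 y : V) = B (x : V) (y : V)
      rw [ha1, ha1, ha]) (by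
      intro x y
      change B' (c1 x : W) (c1 y : W) = B' (x : W) (y : W)
      rw [hc1, hc1, hc]) hN ha1N g1 (by
      intro x
      apply Subtype.ext
      rw [hg1, ha1, hc1, hg1, hg]) (-1) (by ring)
  apply (fun h : ∃ k' : U2 ≃ₗ[F] T2, (∀ x, k' (a2 x) = c2 (k' x)) ∧ (∀ x y : U2, B'.restrict T (k' x : T) (k' y : T) = B.restrict U (x : U) (y : U)) =>
    (Exists.elim h (fun k' hk' => hred2 k' hk'.1 hk'.2)))
  -- nondegeneracy
  have hR1 : ∀ x y : U2, ((B.restrict U).restrict U2) x y = B ((x : U) : V) ((y : U) : V) := fun x y => rfl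
  have hR2 : ∀ x y : T2, ((B'.restrict T).restrict T2) x y = B' ((x : T) : W) ((y : T) : W) := fun x y => rfl
  have hsym : ∀ x y, B y x = (-1) * B x y := by
    intro x y; rw [← hA.neg_eq]; ring
  have hsym' : ∀ x y, B' y x = (-1) * B' x y := by
    intro x y; rw [← hA'.neg_eq]; ring
  have hnd1 : ((B.restrict U).restrict U2).Nondegenerate := by
    refine ⟨hU2, ?_⟩
    intro y hy
    apply hU2
    intro w
    have h1 := hy w
    rw [hR1] at h1
    change B ((y : U) : V) ((w : U) : V) = 0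
    rw [hsym, h1, mul_zero]
  have hnd2 : ((B'.restrict T).restrict T2).Nondegenerate := by
    refine ⟨hT2, ?_⟩
    intro y hy
    apply hT2
    intro w
    have h1 := hy w
    rw [hR2] at h1
    change B' ((y : T) : W) ((w : T) : W) = 0
    rw [hsym', h1, mul_zero]
  have ha2' : ∀ x : U2, (((a2 x : U2) : U) : V) = a ((x : U) : V) := by
    intro x; rw [ha2, ha1]
  have hc2' : ∀ x : T2, (((c2 x : T2) : T) : W) = c ((x : T) : W) := by
    intro x; rw [hc2, hc1]
  obtain ⟨k, hk1, hk2⟩ := core_isometry ((B.restrict U).restrict U2) ((B'.restrict T).restrict T2) (-1) (by ring)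
    (by intro x y; rw [hR1, hR1]; exact hsym _ _) (by intro x y; rw [hR2, hR2]; exact hsym' _ _) hnd1 hnd2 a2 c2
    (by intro x y; rw [hR1, hR1, ha2', ha2', ha]) (by intro x y; rw [hR2, hR2, hc2', hc2', hc]) (by
      intro x hx
      -- a2 (a2 x) = x
      have h1 : a2 (a2 x + x) = a2 x + x := by rw [map_add, hx, add_comm]
      have h2 : a2 x + x = 0 := by
        apply Subtype.ext
        apply hinj1
        have h3 : ((((a2 (a2 x + x)) : U2) : U) : V) = (((a2 x + x : U2) : U) : V) := by rw [h1]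
        rw [ha2'] at h3
        rw [one_smul]
        exact h3
      apply hinj2
      have h3 : a2 x = -x := eq_neg_of_add_eq_zero_left h2
      have h4 : ((a2 x : U2) : U) = ((-x : U2) : U) := by rw [h3]
      rw [ha2] at h4
      rw [h4, neg_one_smul]
      rfl) g2 (by
      intro x
      apply Subtype.ext
      apply Subtype.ext
      rw [hg2, hg1, ha2', hc2', hg2, hg1, hg])
  exact ⟨k, hk1, hk2⟩

theorem isConj_symp_semisimple_iff {F : Type*} [Field F] [Fintype F] {p : ℕ} [Fact p.Prime] [CharP F p] {m : ℕ}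
    (A B : Matrix.symplecticGroup (Fin m) F) (hA : (orderOf A).Coprime p) :
    IsConj A B ↔ IsConj (A : Matrix (Fin m ⊕ Fin m) (Fin m ⊕ Fin m) F) (B : Matrix (Fin m ⊕ Fin m) (Fin m ⊕ Fin m) F) := by
  constructor
  · intro h
    rw [isConj_iff] at h
    obtain ⟨c, hc⟩ := h
    rw [mul_inv_eq_iff_eq_mul] at hc
    refine ⟨⟨(c : Matrix (Fin m ⊕ Fin m) (Fin m ⊕ Fin m) F), ((c⁻¹ : Matrix.symplecticGroup (Fin m) F) : Matrix (Fin m ⊕ Fin m) (Fin m ⊕ Fin m) F),
      congrArg Subtype.val (mul_inv_cancel c), congrArg Subtype.val (inv_mul_cancel c)⟩, ?_⟩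
    exact congrArg Subtype.val hc
  · rintro ⟨g, hg⟩
    have hg' : (g : Matrix (Fin m ⊕ Fin m) (Fin m ⊕ Fin m) F) * (A : Matrix (Fin m ⊕ Fin m) (Fin m ⊕ Fin m) F) =
      (B : Matrix (Fin m ⊕ Fin m) (Fin m ⊕ Fin m) F) * (g : Matrix (Fin m ⊕ Fin m) (Fin m ⊕ Fin m) F) := hg
    have hN : ((orderOf A : ℕ) : F) ≠ 0 := by
      rw [Ne, CharP.cast_eq_zero_iff F p]
      intro h
      have := Nat.Coprime.eq_one_of_dvd hA.symm h
      exact (Fact.out : p.Prime).one_lt.ne' this
    obtain ⟨k, hk1, hk2⟩ := semisimple_alt (sB F m) (sB F m) (sB_isAlt m) (sB_isAlt m) sB_nondeg sB_nondeg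
      (LinearMap.GeneralLinearGroup.generalLinearEquiv F _ (spEnd A)) (LinearMap.GeneralLinearGroup.generalLinearEquiv F _ (spEnd B))
      (spEnd_iso A) (spEnd_iso B) hN (by
        have h1 : ((LinearMap.GeneralLinearGroup.generalLinearEquiv F _ (spEnd A) : (Fin m ⊕ Fin m → F) ≃ₗ[F] (Fin m ⊕ Fin m → F)) :
          (Fin m ⊕ Fin m → F) →ₗ[F] (Fin m ⊕ Fin m → F)) = Matrix.toLin' (A : Matrix (Fin m ⊕ Fin m) (Fin m ⊕ Fin m) F) := rfl
        rw [h1, ← Matrix.toLin'_pow]
        have h2 : (A : Matrix (Fin m ⊕ Fin m) (Fin m ⊕ Fin m) F) ^ (orderOf A) = 1 := by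
          have := congrArg Subtype.val (pow_orderOf_eq_one A)
          exact this
        rw [h2, Matrix.toLin'_one]
        rfl) (LinearMap.GeneralLinearGroup.generalLinearEquiv F _ (glEnd g)) (by
        intro x
        change (g : Matrix (Fin m ⊕ Fin m) (Fin m ⊕ Fin m) F).mulVec ((A : Matrix (Fin m ⊕ Fin m) (Fin m ⊕ Fin m) F).mulVec x) =
          (B : Matrix (Fin m ⊕ Fin m) (Fin m ⊕ Fin m) F).mulVec ((g : Matrix (Fin m ⊕ Fin m) (Fin m ⊕ Fin m) F).mulVec x)
        rw [Matrix.mulVec_mulVec, Matrix.mulVec_mulVec, hg'])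
    exact isConj_of_isometry A B k hk1 hk2

end Cfsg.Agent.H43
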