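import Mathlib
import Cfsg.Agent.S0678
import Cfsg.Agent.S0713
import Cfsg.Agent.S5944
import Cfsg.Agent.S0144
import Cfsg.Agent.S3378
import Cfsg.Agent.S0494
import Cfsg.Agent.H57.SpecSemi
import Cfsg.Agent.Solv.Core
import Cfsg.Agent.H80.Index2

set_option autoImplicit false
set_option linter.unusedSectionVars false
set_option linter.unusedVariables false

/-! Subgroups of the alternating group of degree 8 without solvable normal subgroups. -/

namespace Cfsg.Agent.H43

open MulAction Equiv

/-- no solvable normal subgroups -/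
def NSN (G : Type*) [Group G] : Prop := ∀ N : Subgroup G, N.Normal → Group.IsSolvable N → N = ⊥

section base
variable {G : Type*} [Group G] [Finite G]

theorem nsn_of_cores (h1 : Cfsg.pPrimeCore 2 G = ⊥) (h2 : Cfsg.pCore 2 G = ⊥) : NSN G := by
  intro N hNn hs
  by_contra hN
  obtain ⟨V, p, hVn, hV, hVN, hp, hVp, hVc⟩ := Cfsg.Agent.H57.exists_normal_prime_exponent N hN hs
  have hPG : IsPGroup p V := by
    intro x
    exact ⟨1, Subtype.ext (by rw [pow_one]; exact hVp x x.2)⟩
  by_cases hp2 : p = 2
  · subst hp2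
    apply hV
    rw [← le_bot_iff, ← h2]
    exact Cfsg.Agent.Solv.le_pCore hVn hPG
  · have : Fact p.Prime := ⟨hp⟩
    obtain ⟨n, hn⟩ := hPG.exists_card_eq
    apply hV
    rw [← le_bot_iff, ← h1]
    apply Cfsg.Agent.Solv.le_pPrimeCore hVn
    rw [hn]
    exact Nat.Coprime.pow_left _ ((Nat.coprime_primes hp Nat.prime_two).2 hp2)

theorem NSN.not_solvable [Nontrivial G] (h : NSN G) : ¬ Group.IsSolvable G := by
  intro hs
  have h1 := h ⊤ inferInstance (by
    exact Group.isSolvable_of_surjective (f := (Subgroup.topEquiv (G := G)).symm.toMonoidHom) (Subgroup.topEquiv (G := G)).symm.surjective)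
  exact bot_ne_top h1.symm

theorem NSN.of_equiv {H : Type*} [Group H] (h : NSN G) (e : G ≃* H) : NSN H := by
  intro N hN hs
  have hNn : (N.map e.symm.toMonoidHom).Normal := hN.map _ e.symm.surjective
  have h1 := h (N.map e.symm.toMonoidHom) hNn (by
    exact Group.isSolvable_of_surjective (f := e.symm.toMonoidHom.subgroupMap N) (e.symm.toMonoidHom.subgroupMap_surjective N))
  rw [Subgroup.map_eq_bot_iff_of_injective _ e.symm.injective] at h1
  exact h1

theorem card_perm_fin (n : ℕ) : Nat.card (Perm (Fin n)) = n.factorial := by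
  rw [Nat.card_perm, Nat.card_eq_fintype_card, Fintype.card_fin]

theorem deg5 (φ : G →* Perm (Fin 5)) (hφ : Function.Injective φ) (h5 : 5 ∣ Nat.card G) (hs : ¬ Group.IsSolvable G) :
    Nonempty (G ≃* alternatingGroup (Fin 5)) ∨ Nonempty (G ≃* Perm (Fin 5)) := by
  have hc : Nat.card φ.range = Nat.card G := (Nat.card_congr (MonoidHom.ofInjective hφ).toEquiv).symm
  have h1 := φ.range.card_mul_index
  rw [hc, card_perm_fin] at h1
  have h120 : Nat.factorial 5 = 120 := rfl
  rw [h120] at h1
  obtain ⟨k, hk⟩ := h5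
  have h24 : k * φ.range.index = 24 := by
    rw [hk] at h1
    have : 5 * (k * φ.range.index) = 5 * 24 := by rw [← mul_assoc, h1]
    exact Nat.eq_of_mul_eq_mul_left (by norm_num) this
  have hkd : k ∈ Nat.divisors 24 := Nat.mem_divisors.2 ⟨⟨_, h24.symm⟩, by norm_num⟩
  have hd : Nat.divisors 24 = {1, 2, 3, 4, 6, 8, 12, 24} := by decide
  rw [hd] at hkd
  simp only [Finset.mem_insert, Finset.mem_singleton] at hkd
  have hsol : ∀ n, Nat.card G = n → n ∣ 60 → n < 60 → False := by
    intro n h h' h''
    exact hs (Cfsg.Agent.S3378.solv_of_dvd (by rw [h]; exact h') (by rw [h]; exact h''))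
  rcases hkd with h | h | h | h | h | h | h | h
  · exact (hsol 5 (by rw [hk, h]) (by norm_num) (by norm_num)).elim
  · exact (hsol 10 (by rw [hk, h]) (by norm_num) (by norm_num)).elim
  · exact (hsol 15 (by rw [hk, h]) (by norm_num) (by norm_num)).elim
  · exact (hsol 20 (by rw [hk, h]) (by norm_num) (by norm_num)).elim
  · exact (hsol 30 (by rw [hk, h]) (by norm_num) (by norm_num)).elim
  · exact (hs (Cfsg.Agent.S0144.result 2 5 3 1 (by norm_num) (by norm_num) (by rw [hk, h]; norm_num))).elim
  · left
    have hi : φ.range.index = 2 := by rw [h] at h24; omega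
    have h2 := Equiv.Perm.eq_alternatingGroup_of_index_eq_two hi
    exact ⟨(MonoidHom.ofInjective hφ).trans (MulEquiv.subgroupCongr h2)⟩
  · right
    have hi : φ.range.index = 1 := by rw [h] at h24; omega
    have h2 := Subgroup.index_eq_one.1 hi
    exact ⟨(MonoidHom.ofInjective hφ).trans ((MulEquiv.subgroupCongr h2).trans Subgroup.topEquiv)⟩

theorem index_six (K : Subgroup (Perm (Fin 6))) (hK : K.index = 6) : Nonempty (K ≃* Perm (Fin 5)) := by
  classical
  let X := Perm (Fin 6) ⧸ K
  have : Fintype X := Fintype.ofFinite _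
  have hX : Fintype.card X = 6 := by rw [← Nat.card_eq_fintype_card]; exact hK
  have hcard : Nat.card K = 120 := by
    have h1 := K.card_mul_index
    rw [hK, card_perm_fin] at h1
    have : Nat.factorial 6 = 720 := rfl
    omega
  let ψ : Perm (Fin 6) →* Perm X := MulAction.toPermHom _ _
  have hψ : Function.Injective ψ := by
    rw [← MonoidHom.ker_eq_bot_iff]
    by_contra hne
    have h1 : alternatingGroup (Fin 6) ≤ ψ.ker := Equiv.Perm.alternatingGroup_le_of_normal (by simp) ((Subgroup.nontrivial_iff_ne_bot _).2 hne)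
    have h2 : ψ.ker ≤ K := by
      intro g hg
      have h3 : ψ g = 1 := hg
      have h4 : g • ((1 : Perm (Fin 6)) : X) = ((1 : Perm (Fin 6)) : X) := congrArg (fun z : Perm X => z ((1 : Perm (Fin 6)) : X)) h3
      rw [MulAction.Quotient.smul_coe, eq_comm, QuotientGroup.eq] at h4
      simpa using h4
    have h3 := Subgroup.card_dvd_of_le (h1.trans h2)
    rw [hcard, nat_card_alternatingGroup, Nat.card_eq_fintype_card, Fintype.card_fin] at h3
    have h4 : Nat.factorial 6 / 2 = 360 := rfl
    rw [h4] at h3
    exact absurd (Nat.le_of_dvd (by norm_num) h3) (by norm_num)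
  -- the stabilizer of the base coset
  let x0 : X := ((1 : Perm (Fin 6)) : X)
  have hfix : ∀ k : K, ψ k x0 = x0 := by
    intro k
    change (k : Perm (Fin 6)) • ((1 : Perm (Fin 6)) : X) = ((1 : Perm (Fin 6)) : X)
    rw [MulAction.Quotient.smul_coe, eq_comm, QuotientGroup.eq]
    simp
  let θ : K →* Perm {x : X // x ≠ x0} :=
    { toFun := fun k => (ψ k).subtypePerm (fun x => by
        constructor
        · intro h hx; apply h; rw [hx]; exact hfix k
        · intro h hx; apply h; exact (ψ k).injective (hx.trans (hfix k).symm))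
      map_one' := by
        ext x
        simp
      map_mul' := by
        intro a b
        ext x
        change ψ ((a * b : K) : Perm (Fin 6)) x = ψ (a : Perm (Fin 6)) (ψ (b : Perm (Fin 6)) x)
        rw [Subgroup.coe_mul, map_mul]
        rfl }
  have hθ : ∀ (k : K) (x : {x : X // x ≠ x0}), ((θ k x : {x : X // x ≠ x0}) : X) = ψ k x := fun k x => rfl
  have hθi : Function.Injective θ := by
    rw [injective_iff_map_eq_one]
    intro k hk
    have h1 : ψ k = 1 := by
      ext x
      by_cases hx : x = x0
      · rw [hx]; exact hfix k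
      · have h2 := hθ k ⟨x, hx⟩
        rw [hk] at h2
        exact h2.symm
    have h2 : (k : Perm (Fin 6)) = 1 := hψ (h1.trans (map_one ψ).symm)
    exact Subtype.ext h2
  have hc5 : Fintype.card {x : X // x ≠ x0} = 5 := by
    rw [Fintype.card_subtype_compl, Fintype.card_subtype_eq, hX]
  have hb : Function.Bijective θ := by
    rw [Nat.bijective_iff_injective_and_card]
    refine ⟨hθi, ?_⟩
    rw [hcard, Nat.card_perm, Nat.card_eq_fintype_card, hc5]
    rfl
  have e : {x : X // x ≠ x0} ≃ Fin 5 := Fintype.equivFinOfCardEq hc5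
  exact ⟨(MulEquiv.ofBijective θ hb).trans e.permCongrHom⟩

theorem deg6 (φ : G →* Perm (Fin 6)) (hφ : Function.Injective φ) (h30 : 30 ∣ Nat.card G) (hn : NSN G) :
    (∃ n : ℕ, 5 ≤ n ∧ n ≤ 8 ∧ Nonempty (G ≃* alternatingGroup (Fin n))) ∨
    Nonempty (G ≃* Perm (Fin 5)) ∨ Nonempty (G ≃* Perm (Fin 6)) := by
  have hc : Nat.card φ.range = Nat.card G := (Nat.card_congr (MonoidHom.ofInjective hφ).toEquiv).symm
  have hnt : Nontrivial G := by
    rw [← Finite.one_lt_card_iff_nontrivial]
    have := Nat.le_of_dvd Nat.card_pos h30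
    omega
  have hs := hn.not_solvable
  have h1 := φ.range.card_mul_index
  rw [hc, card_perm_fin] at h1
  have h720 : Nat.factorial 6 = 720 := rfl
  rw [h720] at h1
  by_cases hi : φ.range.index < 6
  · have h2 : φ.range = ⊤ ∨ φ.range = alternatingGroup (Fin 6) := by
      by_contra hcon
      push Not at hcon
      have := Cfsg.Agent.S5944.result 6 (by norm_num) φ.range hcon.1 hcon.2
      omega
    rcases h2 with h2 | h2
    · right; right
      exact ⟨(MonoidHom.ofInjective hφ).trans ((MulEquiv.subgroupCongr h2).trans Subgroup.topEquiv)⟩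
    · left
      exact ⟨6, by norm_num, by norm_num, ⟨(MonoidHom.ofInjective hφ).trans (MulEquiv.subgroupCongr h2)⟩⟩
  obtain ⟨k, hk⟩ := h30
  have h24 : k * φ.range.index = 24 := by
    rw [hk] at h1
    have : 30 * (k * φ.range.index) = 30 * 24 := by rw [← mul_assoc, h1]
    exact Nat.eq_of_mul_eq_mul_left (by norm_num) this
  have hk5 : k < 5 := by
    by_contra h
    have : 5 * 6 ≤ k * φ.range.index := Nat.mul_le_mul (by omega) (by omega)
    omega
  have hk0 : k ≠ 0 := by rintro rfl; omega
  have hk' : k = 1 ∨ k = 2 ∨ k = 3 ∨ k = 4 := by omega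
  rcases hk' with h | h | h | h
  · exact (hs (Cfsg.Agent.S3378.solv_of_dvd (by rw [hk, h]; norm_num) (by rw [hk, h]; norm_num))).elim
  · -- order 60
    left
    have hc60 : Nat.card G = 60 := by rw [hk, h]
    have := Cfsg.Agent.S3378.simple_sixty hc60 hs
    exact ⟨5, le_rfl, by norm_num, Cfsg.Agent.S0494.result hc60⟩
  · -- order 90
    exfalso
    have hc90 : Nat.card G = 90 := by rw [hk, h]
    have hp2 : Fact (Nat.Prime 2) := ⟨by norm_num⟩
    obtain ⟨P⟩ : Nonempty (Sylow 2 G) := inferInstance
    have hP : Nat.card P = 2 := by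
      have := Cfsg.Agent.S3378.card_sylow_of P (k := 1) (m := 45) (by rw [hc90]; norm_num) (by norm_num)
      simpa using this
    obtain ⟨H, hH⟩ := Cfsg.Agent.H80.exists_index_two_of_cyclic_sylow (by rw [hc90]; decide) P (isCyclic_of_prime_card hP)
    have hHn : H.Normal := Subgroup.normal_of_index_eq_two hH
    have hHc : Nat.card H = 45 := by
      have := H.card_mul_index
      rw [hH, hc90] at this
      omega
    apply hs
    apply Cfsg.Agent.S3378.solvable_of_quot H
    · exact Cfsg.Agent.S0144.result 3 5 2 1 (by norm_num) (by norm_num) (by rw [hHc]; norm_num)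
    · exact Cfsg.Agent.S0144.result 2 5 1 0 (by norm_num) (by norm_num) (by
        change H.index = _
        rw [hH]; norm_num)
  · right; left
    have hi6 : φ.range.index = 6 := by rw [h] at h24; omega
    obtain ⟨e⟩ := index_six φ.range hi6
    exact ⟨(MonoidHom.ofInjective hφ).trans e⟩

end base

end Cfsg.Agent.H43
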