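import Mathlib
import Cfsg.Agent.H43.SubA8

set_option autoImplicit false
set_option linter.unusedSectionVars false
set_option linter.unusedVariables false

/-! Subgroups of the alternating group of degree 8 without solvable normal subgroups: order divisible by 5. -/

namespace Cfsg.Agent.H43

open MulAction Equiv
open scoped Pointwise

theorem no_5040 (K : Subgroup (Perm (Fin 8))) (hK : K ≤ alternatingGroup (Fin 8)) : Nat.card K ≠ 5040 := by
  intro hc
  have hA : Nat.card (alternatingGroup (Fin 8)) = 20160 := by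
    rw [nat_card_alternatingGroup, Nat.card_eq_fintype_card, Fintype.card_fin]
    rfl
  let K' := K.subgroupOf (alternatingGroup (Fin 8))
  have hK' : Nat.card K' = 5040 := by
    rw [← hc]
    exact Nat.card_congr (Subgroup.subgroupOfEquivOfLe hK).toEquiv
  have hi : K'.index = 4 := by
    have h1 := K'.card_mul_index
    rw [hK', hA] at h1
    omega
  have hsimple : IsSimpleGroup (alternatingGroup (Fin 8)) := alternatingGroup.isSimpleGroup (by simp)
  have h1 : K'.normalCore = ⊥ ∨ K'.normalCore = ⊤ := hsimple.eq_bot_or_eq_top_of_normal _ inferInstance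
  rcases h1 with h1 | h1
  · have h2 : Function.Injective (MulAction.toPermHom (alternatingGroup (Fin 8)) (alternatingGroup (Fin 8) ⧸ K')) := by
      rw [← MonoidHom.ker_eq_bot_iff, ← Subgroup.normalCore_eq_ker]
      exact h1
    have h3 := Nat.card_le_card_of_injective _ h2
    rw [hA, Nat.card_perm] at h3
    have h4 : Nat.card (alternatingGroup (Fin 8) ⧸ K') = 4 := hi
    rw [h4] at h3
    exact absurd h3 (by decide)
  · have h2 : K' = ⊤ := top_le_iff.1 (h1 ▸ K'.normalCore_le)
    rw [h2, Subgroup.index_top] at hi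
    omega

/-- a transitive group of degree 8 containing a 5-cycle is primitive -/
theorem primitive_of_five (K : Subgroup (Perm (Fin 8))) (ht : IsPretransitive K (Fin 8)) (c : Perm (Fin 8)) (hcK : c ∈ K)
    (hcyc : c.IsCycle) (hsup : c.support.card = 5) : IsPreprimitive K (Fin 8) := by
  classical
  have hfix : (c.supportᶜ : Finset (Fin 8)).card = 3 := by
    rw [Finset.card_compl, hsup, Fintype.card_fin]
  -- a block containing a fixed point of `c` with at most four elements lies in the fixed points
  have key : ∀ B : Set (Fin 8), IsBlock K B → (∃ a ∈ B, a ∉ c.support) → B.ncard ≤ 4 → B ⊆ (c.supportᶜ : Finset (Fin 8)) := by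
    rintro B hB ⟨a, haB, ha⟩ hle b hbB
    have hca : c a = a := Equiv.Perm.notMem_support.1 ha
    have hcB : ∀ n : ℤ, (⟨c, hcK⟩ ^ n : K) • B = B := by
      intro n
      have h1 : (⟨c, hcK⟩ ^ n : K) • a = a := by
        have : (⟨c, hcK⟩ : K) ∈ stabilizer K a := by
          rw [mem_stabilizer_iff]
          exact hca
        exact mem_stabilizer_iff.1 ((stabilizer K a).zpow_mem this n)
      exact (hB.smul_eq_of_mem haB (by rw [h1]; exact haB))
    rw [Finset.coe_compl, Set.mem_compl_iff, Finset.mem_coe]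
    intro hb
    have h1 : (c.support : Set (Fin 8)) ⊆ B := by
      intro y hy
      obtain ⟨n, hn⟩ := hcyc.exists_zpow_eq (Equiv.Perm.mem_support.1 hb) (Equiv.Perm.mem_support.1 hy)
      rw [← hcB n]
      refine ⟨b, hbB, ?_⟩
      change ((⟨c, hcK⟩ ^ n : K) : Perm (Fin 8)) b = y
      rw [Subgroup.coe_zpow]
      exact hn
    have h2 := Set.ncard_le_ncard h1 (Set.toFinite _)
    rw [Set.ncard_coe_finset, hsup] at h2
    omega
  have hblock : ∀ B : Set (Fin 8), IsBlock K B → B.Nonempty → B.ncard ∣ 8 := by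
    intro B hB hne
    have := hB.ncard_dvd_card hne
    rwa [Nat.card_eq_fintype_card, Fintype.card_fin] at this
  refine { toIsPretransitive := ht, isTrivialBlock_of_isBlock := ?_ }
  intro B hB
  by_cases hne : B.Nonempty
  swap
  · rw [Set.not_nonempty_iff_eq_empty] at hne
    left
    rw [hne]
    exact Set.subsingleton_empty
  have hd := hblock B hB hne
  have hle8 : B.ncard ≤ 8 := Nat.le_of_dvd (by norm_num) hd
  have hcases : B.ncard = 1 ∨ B.ncard = 2 ∨ B.ncard = 4 ∨ B.ncard = 8 := by
    have : B.ncard ∈ Nat.divisors 8 := Nat.mem_divisors.2 ⟨hd, by norm_num⟩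
    have hd8 : Nat.divisors 8 = {1, 2, 4, 8} := by decide
    rw [hd8] at this
    simpa using this
  rcases hcases with h | h | h | h
  · left
    exact (Set.ncard_le_one_iff_subsingleton).1 h.le
  · -- size two
    exfalso
    obtain ⟨b, hb⟩ := hne
    obtain ⟨a1, ha1⟩ : (c.supportᶜ : Finset (Fin 8)).Nonempty := by rw [← Finset.card_pos, hfix]; norm_num
    obtain ⟨g, hg⟩ := exists_smul_eq K b a1
    have hB1 := hB.translate g
    have hB1c : (g • B).ncard = 2 := by rw [Set.ncard_smul_set, h]
    have ha1B : a1 ∈ g • B := ⟨b, hb, hg⟩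
    have hsub1 := key (g • B) hB1 ⟨a1, ha1B, by simpa using ha1⟩ (by omega)
    obtain ⟨a2, ha2, ha2B⟩ : ∃ a2 ∈ (c.supportᶜ : Finset (Fin 8)), a2 ∉ g • B := by
      by_contra hcon
      push Not at hcon
      have h1 : ((c.supportᶜ : Finset (Fin 8)) : Set (Fin 8)) ⊆ g • B := fun x hx => hcon x (Finset.mem_coe.1 hx)
      have h2 := Set.ncard_le_ncard h1 (Set.toFinite _)
      rw [Set.ncard_coe_finset, hfix, hB1c] at h2
      omega
    obtain ⟨g', hg'⟩ := exists_smul_eq K b a2
    have hB2 := hB.translate g'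
    have hB2c : (g' • B).ncard = 2 := by rw [Set.ncard_smul_set, h]
    have ha2B2 : a2 ∈ g' • B := ⟨b, hb, hg'⟩
    have hsub2 := key (g' • B) hB2 ⟨a2, ha2B2, by simpa using ha2⟩ (by omega)
    have hdisj : Disjoint (g • B) (g' • B) := by
      rcases hB.smul_eq_smul_or_disjoint g g' with h1 | h1
      · rw [h1] at ha2B
        exact absurd ha2B2 ha2B
      · exact h1
    have h3 : ((g • B) ∪ (g' • B)).ncard = 4 := by
      rw [Set.ncard_union_eq hdisj (Set.toFinite _) (Set.toFinite _), hB1c, hB2c]
    have h4 := Set.ncard_le_ncard (Set.union_subset hsub1 hsub2) (Set.toFinite _)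
    rw [h3, Set.ncard_coe_finset, hfix] at h4
    omega
  · exfalso
    obtain ⟨b, hb⟩ := hne
    obtain ⟨a1, ha1⟩ : (c.supportᶜ : Finset (Fin 8)).Nonempty := by rw [← Finset.card_pos, hfix]; norm_num
    obtain ⟨g, hg⟩ := exists_smul_eq K b a1
    have hB1 := hB.translate g
    have hB1c : (g • B).ncard = 4 := by rw [Set.ncard_smul_set, h]
    have ha1B : a1 ∈ g • B := ⟨b, hb, hg⟩
    have hsub1 := key (g • B) hB1 ⟨a1, ha1B, by simpa using ha1⟩ (by omega)
    have h4 := Set.ncard_le_ncard hsub1 (Set.toFinite _)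
    rw [hB1c, Set.ncard_coe_finset, hfix] at h4
    omega
  · right
    exact Set.eq_of_subset_of_ncard_le (Set.subset_univ B) (by rw [Set.ncard_univ, h]; simp)

theorem five_case (K : Subgroup (Perm (Fin 8))) (hK : K ≤ alternatingGroup (Fin 8)) (hns : NSN K) (h5 : 5 ∣ Nat.card K) :
    (∃ n : ℕ, 5 ≤ n ∧ n ≤ 8 ∧ Nonempty (K ≃* alternatingGroup (Fin n))) ∨ Nonempty (K ≃* Perm (Fin 5)) ∨ Nonempty (K ≃* Perm (Fin 6)) := by
  classical
  have hp5 : Fact (Nat.Prime 5) := ⟨by norm_num⟩
  obtain ⟨c, hc⟩ := exists_prime_orderOf_dvd_card' 5 h5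
  have hco : orderOf (c : Perm (Fin 8)) = 5 := by rw [Subgroup.orderOf_coe]; exact hc
  have hcyc : (c : Perm (Fin 8)).IsCycle := Equiv.Perm.isCycle_of_prime_order' (by rw [hco]; norm_num) (by rw [hco]; simp)
  have hsup : (c : Perm (Fin 8)).support.card = 5 := by rw [← hcyc.orderOf, hco]
  obtain ⟨x, hx⟩ : (c : Perm (Fin 8)).support.Nonempty := by rw [← Finset.card_pos, hsup]; norm_num
  have hsub : ((c : Perm (Fin 8)).support : Set (Fin 8)) ⊆ orbit K x := by
    intro y hy
    obtain ⟨n, hn⟩ := hcyc.exists_zpow_eq (Equiv.Perm.mem_support.1 hx) (Equiv.Perm.mem_support.1 hy)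
    refine ⟨c ^ n, ?_⟩
    change ((c ^ n : K) : Perm (Fin 8)) x = y
    rw [Subgroup.coe_zpow]
    exact hn
  have hd5 : 5 ≤ Nat.card (orbit K x) := by
    have h1 := Set.ncard_le_ncard hsub (Set.toFinite _)
    rw [Set.ncard_coe_finset, hsup] at h1
    exact h1
  have hd8 : Nat.card (orbit K x) ≤ 8 := by
    have h1 := Set.ncard_le_ncard (Set.subset_univ (orbit K x)) (Set.toFinite _)
    rw [Set.ncard_univ, Nat.card_eq_fintype_card, Fintype.card_fin] at h1
    exact h1
  let r : K →* Perm (orbit K x) := MulAction.toPermHom K (orbit K x)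
  have hr : ∀ (k : K) (y : orbit K x), ((r k y : orbit K x) : Fin 8) = (k : Perm (Fin 8)) y := fun _ _ => rfl
  have hstab : ∀ (k : K) (y : Fin 8), (k : Perm (Fin 8)) y ∉ orbit K x ↔ y ∉ orbit K x := by
    intro k y
    rw [not_iff_not]
    constructor
    · intro h
      obtain ⟨g, hg⟩ := h
      refine ⟨k⁻¹ * g, ?_⟩
      change (k⁻¹ * g) • x = y
      rw [mul_smul]
      have h1 : g • x = k • y := hg
      rw [h1, inv_smul_smul]
    · rintro ⟨g, hg⟩
      refine ⟨k * g, ?_⟩
      change (k * g) • x = k • y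
      rw [mul_smul]
      have h1 : g • x = y := hg
      rw [h1]
  let s : K →* Perm {y : Fin 8 // y ∉ orbit K x} :=
    { toFun := fun k => (k : Perm (Fin 8)).subtypePerm (hstab k)
      map_one' := by
        ext y
        rfl
      map_mul' := by
        intro a b
        ext y
        rfl }
  have hs : ∀ (k : K) (y : {y : Fin 8 // y ∉ orbit K x}), ((s k y : {y : Fin 8 // y ∉ orbit K x}) : Fin 8) = (k : Perm (Fin 8)) y := fun _ _ => rfl
  have hrs : ∀ k : K, r k = 1 → s k = 1 → k = 1 := by
    intro k h1 h2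
    apply Subtype.ext
    ext y
    by_cases hy : y ∈ orbit K x
    · have h3 := hr k ⟨y, hy⟩
      rw [h1] at h3
      exact congrArg Fin.val h3.symm
    · have h3 := hs k ⟨y, hy⟩
      rw [h2] at h3
      exact congrArg Fin.val h3.symm
  have hcompl : Nat.card {y : Fin 8 // y ∉ orbit K x} = 8 - Nat.card (orbit K x) := by
    have h1 := Set.ncard_add_ncard_compl (orbit K x)
    rw [Nat.card_eq_fintype_card, Fintype.card_fin] at h1
    have h2 : Nat.card {y : Fin 8 // y ∉ orbit K x} = (orbit K x)ᶜ.ncard := rfl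
    have h3 : Nat.card (orbit K x) = (orbit K x).ncard := rfl
    omega
  have hrinj : Function.Injective r := by
    rw [← MonoidHom.ker_eq_bot_iff]
    apply hns _ inferInstance
    have h1 : Function.Injective (s.comp r.ker.subtype) := by
      rw [injective_iff_map_eq_one]
      intro k hk
      exact Subtype.ext (hrs k k.2 hk)
    have h2 : Nat.card r.ker ∣ Nat.card (Perm {y : Fin 8 // y ∉ orbit K x}) := Subgroup.card_dvd_of_injective _ h1
    rw [Nat.card_perm, hcompl] at h2
    have h3 : (8 - Nat.card (orbit K x)).factorial ∣ Nat.factorial 3 := Nat.factorial_dvd_factorial (by omega)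
    have h4 : Nat.card r.ker ∣ 6 := h2.trans h3
    apply Cfsg.Agent.S3378.solv_of_dvd (h4.trans (by norm_num))
    exact lt_of_le_of_lt (Nat.le_of_dvd (by norm_num) h4) (by norm_num)
  have hnt : Nontrivial K := by
    rw [← Finite.one_lt_card_iff_nontrivial]
    have := Nat.le_of_dvd Nat.card_pos h5
    omega
  have hsol := hns.not_solvable
  obtain ⟨d, hd⟩ : ∃ d, Nat.card (orbit K x) = d := ⟨_, rfl⟩
  have e : orbit K x ≃ Fin d := Finite.equivFinOfCardEq hd
  let φ : K →* Perm (Fin d) := e.permCongrHom.toMonoidHom.comp r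
  have hφ : Function.Injective φ := e.permCongrHom.injective.comp hrinj
  have hφa : ∀ (k : K) (i : Fin d), φ k i = e (r k (e.symm i)) := fun _ _ => rfl
  have htr : ∀ i j : Fin d, ∃ k : K, φ k i = j := by
    intro i j
    obtain ⟨k, hk⟩ := exists_smul_eq K (e.symm i) (e.symm j)
    refine ⟨k, ?_⟩
    rw [hφa]
    have : r k (e.symm i) = k • e.symm i := rfl
    rw [this, hk, e.apply_symm_apply]
  have hdc : d ∣ Nat.card K := by
    rw [← hd]
    have h1 := MulAction.index_stabilizer K x
    have h2 : Nat.card (orbit K x) = (orbit K x).ncard := rfl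
    rw [h2, ← h1]
    exact Subgroup.index_dvd_card _
  rw [hd] at hd5 hd8
  have hcases : d = 5 ∨ d = 6 ∨ d = 7 ∨ d = 8 := by omega
  rcases hcases with h | h | h | h
  · subst h
    rcases deg5 φ hφ h5 hsol with h1 | h1
    · exact Or.inl ⟨5, by norm_num, by norm_num, h1⟩
    · exact Or.inr (Or.inl h1)
  · subst h
    exact deg6 φ hφ (Nat.Coprime.mul_dvd_of_dvd_of_dvd (by norm_num) hdc h5) hns
  · subst h
    left
    refine ⟨7, by norm_num, by norm_num, ?_⟩
    have hrt : IsPretransitive φ.range (Fin 7) := ⟨fun i j => by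
      obtain ⟨k, hk⟩ := htr i j
      exact ⟨⟨φ k, k, rfl⟩, hk⟩⟩
    have hrs' : ¬ Group.IsSolvable φ.range := by
      intro h1
      exact hsol (Group.isSolvable_of_surjective (f := (MonoidHom.ofInjective hφ).symm.toMonoidHom) (MonoidHom.ofInjective hφ).symm.surjective)
    have hcr : Nat.card φ.range = Nat.card K := (Nat.card_congr (MonoidHom.ofInjective hφ).toEquiv).symm
    have hA : alternatingGroup (Fin 7) ≤ φ.range := by
      by_contra hcon
      have h1 := (Cfsg.Agent.S0678.result (by simp) φ.range hrs' hcon).1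
      rw [hcr] at h1
      rw [h1] at h5
      exact absurd h5 (by norm_num)
    have h2 : φ.range = alternatingGroup (Fin 7) := by
      by_contra hne
      have h3 : φ.range.index < 7 := by
        have h4 := Subgroup.index_dvd_of_le hA
        rw [alternatingGroup.index_eq_two] at h4
        exact lt_of_le_of_lt (Nat.le_of_dvd (by norm_num) h4) (by norm_num)
      have h4 : φ.range = ⊤ := by
        by_contra hne'
        have := Cfsg.Agent.S5944.result 7 (by norm_num) φ.range hne' hne
        omega
      have h5' : Nat.card K = 5040 := by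
        rw [← hcr, h4, Subgroup.card_top, card_perm_fin]
        rfl
      exact no_5040 K hK h5'
    exact ⟨(MonoidHom.ofInjective hφ).trans (MulEquiv.subgroupCongr h2)⟩
  · left
    refine ⟨8, by norm_num, le_rfl, ?_⟩
    have huniv : orbit K x = Set.univ := by
      apply Set.eq_of_subset_of_ncard_le (Set.subset_univ _)
      have h3 : Nat.card (orbit K x) = (orbit K x).ncard := rfl
      rw [← h3, hd, h, Set.ncard_univ]
      simp
    have ht : IsPretransitive K (Fin 8) := by
      refine ⟨fun a b => ?_⟩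
      have ha : a ∈ orbit K x := by rw [huniv]; trivial
      have hb : b ∈ orbit K x := by rw [huniv]; trivial
      obtain ⟨g, hg⟩ := ha
      obtain ⟨g', hg'⟩ := hb
      refine ⟨g' * g⁻¹, ?_⟩
      have h1 : g • x = a := hg
      have h2 : g' • x = b := hg'
      rw [mul_smul, ← h1, inv_smul_smul, h2]
    have hprim := primitive_of_five K ht c c.2 hcyc hsup
    have hle := Cfsg.Agent.S0713.result K hprim (by norm_num : Nat.Prime 5) (by simp) (by simp) hcyc hsup c.2
    have h2 : K = alternatingGroup (Fin 8) := le_antisymm hK hle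
    exact ⟨MulEquiv.subgroupCongr h2⟩

end Cfsg.Agent.H43
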