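import Mathlib
import Cfsg.Agent.H43.SubA8

set_option autoImplicit false
set_option linter.unusedSectionVars false
set_option linter.unusedVariables false

/-! Subgroups of `GL(4,2)` of order prime to 5 without solvable normal subgroups. -/

namespace Cfsg.Agent.H43

open MulAction

local notation "𝔽₂" => ZMod 2

section red
variable {V : Type*} [AddCommGroup V] [Module 𝔽₂ V] [FiniteDimensional 𝔽₂ V] {G : Type*} [Group G] [Finite G]

/-- restriction of a representation to an invariant subspace -/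
noncomputable def resU (ρ : G →* Module.End 𝔽₂ V) (U : Submodule 𝔽₂ V) (hU : ∀ g, ∀ u ∈ U, ρ g u ∈ U) : G →* (Module.End 𝔽₂ U)ˣ :=
  MonoidHom.toHomUnits
    { toFun := fun g => (ρ g).restrict (hU g)
      map_one' := by
        apply LinearMap.ext
        intro u
        apply Subtype.ext
        rw [LinearMap.restrict_coe_apply, map_one]
        rfl
      map_mul' := by
        intro g h
        apply LinearMap.ext
        intro u
        apply Subtype.ext
        rw [LinearMap.restrict_coe_apply, map_mul]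
        rfl }

theorem resU_apply (ρ : G →* Module.End 𝔽₂ V) (U : Submodule 𝔽₂ V) (hU : ∀ g, ∀ u ∈ U, ρ g u ∈ U) (g : G) (u : U) :
    (((resU ρ U hU g : Module.End 𝔽₂ U) u : U) : V) = ρ g u := rfl

noncomputable def resQ (ρ : G →* Module.End 𝔽₂ V) (U : Submodule 𝔽₂ V) (hU : ∀ g, ∀ u ∈ U, ρ g u ∈ U) : G →* (Module.End 𝔽₂ (V ⧸ U))ˣ :=
  MonoidHom.toHomUnits
    { toFun := fun g => U.mapQ U (ρ g) (hU g)
      map_one' := by
        apply Submodule.linearMap_qext
        apply LinearMap.ext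
        intro u
        rw [LinearMap.comp_apply, Submodule.mkQ_apply, Submodule.mapQ_apply, map_one]
        rfl
      map_mul' := by
        intro g h
        apply Submodule.linearMap_qext
        apply LinearMap.ext
        intro u
        rw [LinearMap.comp_apply, Submodule.mkQ_apply, Submodule.mapQ_apply, map_mul]
        rfl }

theorem resQ_apply (ρ : G →* Module.End 𝔽₂ V) (U : Submodule 𝔽₂ V) (hU : ∀ g, ∀ u ∈ U, ρ g u ∈ U) (g : G) (v : V) :
    (resQ ρ U hU g : Module.End 𝔽₂ (V ⧸ U)) (Submodule.Quotient.mk v) = Submodule.Quotient.mk (ρ g v) := rfl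

theorem res_injective (hn : NSN G) (ρ : G →* Module.End 𝔽₂ V) (hρ : Function.Injective ρ) (U : Submodule 𝔽₂ V) (hU : ∀ g, ∀ u ∈ U, ρ g u ∈ U) :
    Function.Injective ((resU ρ U hU).prod (resQ ρ U hU)) := by
  rw [← MonoidHom.ker_eq_bot_iff]
  have h2 : ∀ x ∈ ((resU ρ U hU).prod (resQ ρ U hU)).ker, x ^ 2 = 1 := by
    intro x hx
    rw [MonoidHom.mem_ker, MonoidHom.prod_apply, Prod.mk_eq_one] at hx
    obtain ⟨h1, h2⟩ := hx
    apply hρ
    apply LinearMap.ext
    intro v
    rw [map_pow, pow_two, map_one, Module.End.mul_apply, Module.End.one_apply]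
    have h3 : ρ x v - v ∈ U := by
      rw [← Submodule.Quotient.eq, ← resQ_apply ρ U hU, h2]
      rfl
    have h4 : ρ x (ρ x v - v) = ρ x v - v := by
      have := resU_apply ρ U hU x ⟨_, h3⟩
      rw [h1] at this
      exact this.symm
    rw [map_sub] at h4
    have h5 : ρ x (ρ x v) = (2 : 𝔽₂) • ρ x v - v := by
      rw [two_smul, sub_eq_iff_eq_add.1 h4]
      abel
    have h6 : (2 : 𝔽₂) = 0 := rfl
    rw [h5, h6, zero_smul, zero_sub]
    have h7 : v + v = 0 := by rw [← two_smul 𝔽₂ v, h6, zero_smul]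
    exact neg_eq_of_add_eq_zero_left h7
  apply hn _ inferInstance
  have hp : IsPGroup 2 ((resU ρ U hU).prod (resQ ρ U hU)).ker := by
    intro x
    exact ⟨1, Subtype.ext (by rw [pow_one]; exact h2 x x.2)⟩
  have : Fact (Nat.Prime 2) := ⟨Nat.prime_two⟩
  have := hp.isNilpotent
  infer_instance

/-- units of the endomorphism ring -/
theorem exists_units_equiv {W : Type*} [AddCommGroup W] [Module 𝔽₂ W] [FiniteDimensional 𝔽₂ W] {k : ℕ} (hk : Module.finrank 𝔽₂ W = k) :
    Nonempty ((Module.End 𝔽₂ W)ˣ ≃* GL (Fin k) 𝔽₂) := by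
  let b := Module.finBasisOfFinrankEq 𝔽₂ W hk
  exact ⟨Units.mapEquiv (LinearMap.toMatrixAlgEquiv b).toMulEquiv⟩

theorem card_GL1 : Nat.card (GL (Fin 1) 𝔽₂) = 1 := by
  rw [Matrix.card_GL_field]; simp
theorem card_GL2 : Nat.card (GL (Fin 2) 𝔽₂) = 6 := by
  rw [Matrix.card_GL_field]; simp [Fin.prod_univ_two]
theorem card_GL3 : Nat.card (GL (Fin 3) 𝔽₂) = 168 := by
  rw [Matrix.card_GL_field]; simp [Fin.prod_univ_three]
theorem card_GL4 : Nat.card (GL (Fin 4) 𝔽₂) = 20160 := by
  rw [Matrix.card_GL_field]; simp [Fin.prod_univ_four]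

theorem embed_GL3 (hn : NSN G) (ρ : G →* Module.End 𝔽₂ V) (hρ : Function.Injective ρ) (hV : Module.finrank 𝔽₂ V = 4)
    (U : Submodule 𝔽₂ V) (hU : ∀ g, ∀ u ∈ U, ρ g u ∈ U) (hU0 : U ≠ ⊥) (hU1 : U ≠ ⊤) (h7 : 7 ∣ Nat.card G) :
    ∃ ι : G →* GL (Fin 3) 𝔽₂, Function.Injective ι := by
  have hinj := res_injective hn ρ hρ U hU
  have hk0 : Module.finrank 𝔽₂ U ≠ 0 := fun h => hU0 (Submodule.finrank_eq_zero.1 h)
  have hk4 : Module.finrank 𝔽₂ U ≠ 4 := fun h => hU1 (Submodule.eq_top_of_finrank_eq (h.trans hV.symm))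
  have hq := U.finrank_quotient_add_finrank
  rw [hV] at hq
  have hcases : Module.finrank 𝔽₂ U = 1 ∨ Module.finrank 𝔽₂ U = 2 ∨ Module.finrank 𝔽₂ U = 3 := by omega
  rcases hcases with h | h | h
  · obtain ⟨e1⟩ := exists_units_equiv h
    obtain ⟨e3⟩ := exists_units_equiv (W := V ⧸ U) (k := 3) (by omega)
    have hs : Subsingleton (GL (Fin 1) 𝔽₂) := (Nat.card_eq_one_iff_unique.1 card_GL1).1
    refine ⟨e3.toMonoidHom.comp (resQ ρ U hU), e3.injective.comp ?_⟩
    intro g g' hg
    apply hinj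
    exact Prod.ext (e1.injective (Subsingleton.elim _ _)) hg
  · exfalso
    obtain ⟨e1⟩ := exists_units_equiv h
    obtain ⟨e3⟩ := exists_units_equiv (W := V ⧸ U) (k := 2) (by omega)
    have h1 := Subgroup.card_dvd_of_injective _ hinj
    rw [Nat.card_prod, Nat.card_congr e1.toEquiv, Nat.card_congr e3.toEquiv, card_GL2] at h1
    exact absurd (h7.trans h1) (by norm_num)
  · obtain ⟨e3⟩ := exists_units_equiv h
    obtain ⟨e1⟩ := exists_units_equiv (W := V ⧸ U) (k := 1) (by omega)
    have hs : Subsingleton (GL (Fin 1) 𝔽₂) := (Nat.card_eq_one_iff_unique.1 card_GL1).1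
    refine ⟨e3.toMonoidHom.comp (resU ρ U hU), e3.injective.comp ?_⟩
    intro g g' hg
    apply hinj
    exact Prod.ext hg (e1.injective (Subsingleton.elim _ _))

theorem iso_GL3 (hn : NSN G) (h7 : 7 ∣ Nat.card G) (ι : G →* GL (Fin 3) 𝔽₂) (hι : Function.Injective ι) :
    Nonempty (G ≃* GL (Fin 3) 𝔽₂) := by
  have hp7 : Fact (Nat.Prime 7) := ⟨by norm_num⟩
  have hnt : Nontrivial G := by
    rw [← Finite.one_lt_card_iff_nontrivial]
    have := Nat.le_of_dvd Nat.card_pos h7
    omega
  have hs := hn.not_solvable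
  have h1 := Subgroup.card_dvd_of_injective _ hι
  rw [card_GL3] at h1
  obtain ⟨m, hm⟩ := h7
  have hm24 : m ∣ 24 := by
    rw [hm] at h1
    have : 7 * m ∣ 7 * 24 := h1
    exact Nat.dvd_of_mul_dvd_mul_left (by norm_num) this
  have hm7 : ¬ 7 ∣ m := fun h => absurd (h.trans hm24) (by norm_num)
  obtain ⟨P⟩ : Nonempty (Sylow 7 G) := inferInstance
  have hP : Nat.card P = 7 := by
    have := Cfsg.Agent.S3378.card_sylow_of P (k := 1) (m := m) (by rw [hm, pow_one]) hm7
    simpa using this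
  have hidx : (P : Subgroup G).index = m := by
    have h2 := (P : Subgroup G).card_mul_index
    have h3 : Nat.card (P : Subgroup G) = 7 := hP
    rw [h3, hm] at h2
    omega
  have hn7 : Nat.card (Sylow 7 G) ∣ m := by
    rw [← hidx]
    exact Sylow.card_dvd_index P
  have hmod : Nat.card (Sylow 7 G) ≡ 1 [MOD 7] := card_sylow_modEq_one 7 G
  have hne1 : Nat.card (Sylow 7 G) ≠ 1 := by
    intro h
    have hsub : Subsingleton (Sylow 7 G) := (Nat.card_eq_one_iff_unique.1 h).1
    have hPn : (P : Subgroup G).Normal := Sylow.normal_of_subsingleton P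
    have h3 := hn _ hPn (Cfsg.Agent.S0144.result 2 7 0 1 (by norm_num) (by norm_num) (by
      have h3 : Nat.card (P : Subgroup G) = 7 := hP
      rw [h3]; norm_num))
    have h4 : Nat.card (P : Subgroup G) = 7 := hP
    rw [h3, Subgroup.card_bot] at h4
    omega
  have hd24 : Nat.divisors 24 = {1, 2, 3, 4, 6, 8, 12, 24} := by decide
  have hmem : Nat.card (Sylow 7 G) ∈ Nat.divisors 24 := Nat.mem_divisors.2 ⟨hn7.trans hm24, by norm_num⟩
  rw [hd24] at hmem
  simp only [Finset.mem_insert, Finset.mem_singleton] at hmem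
  have h8 : Nat.card (Sylow 7 G) = 8 := by
    rcases hmem with h | h | h | h | h | h | h | h
    · exact absurd h hne1
    all_goals first
      | exact h
      | (rw [h] at hmod; exact absurd hmod (by decide))
  rw [h8] at hn7
  have hmm : m ∈ Nat.divisors 24 := Nat.mem_divisors.2 ⟨hm24, by norm_num⟩
  rw [hd24] at hmm
  simp only [Finset.mem_insert, Finset.mem_singleton] at hmm
  have hm24' : m = 24 := by
    rcases hmm with h | h | h | h | h | h | h | h
    · rw [h] at hn7; exact absurd hn7 (by norm_num)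
    · rw [h] at hn7; exact absurd hn7 (by norm_num)
    · rw [h] at hn7; exact absurd hn7 (by norm_num)
    · rw [h] at hn7; exact absurd hn7 (by norm_num)
    · rw [h] at hn7; exact absurd hn7 (by norm_num)
    · exact absurd (Cfsg.Agent.S0144.result 2 7 3 1 (by norm_num) (by norm_num) (by rw [hm, h]; norm_num)) hs
    · rw [h] at hn7; exact absurd hn7 (by norm_num)
    · exact h
  have hb : Function.Bijective ι := by
    rw [Nat.bijective_iff_injective_and_card]
    exact ⟨hι, by rw [hm, hm24', card_GL3]⟩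
  exact ⟨MulEquiv.ofBijective ι hb⟩

end red

end Cfsg.Agent.H43
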