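import Mathlib
import Cfsg.Agent.H43.SubGL4

set_option autoImplicit false
set_option linter.unusedSectionVars false
set_option linter.unusedVariables false

/-! Subgroups of `GL(4,2)` of order divisible by 7 and prime to 5 are reducible. -/

namespace Cfsg.Agent.H43

open MulAction

local notation "𝔽₂" => ZMod 2

section red
variable {V : Type*} [AddCommGroup V] [Module 𝔽₂ V] [FiniteDimensional 𝔽₂ V] {G : Type*} [Group G] [Finite G]

theorem two_pow_mod_seven : ∀ k : ℕ, k < 4 → 2 ^ k ≡ 2 [MOD 7] → k = 1 := by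
  decide

theorem exists_invariant (ρ : G →* Module.End 𝔽₂ V) (hρ : Function.Injective ρ) (hV : Module.finrank 𝔽₂ V = 4)
    (h7 : 7 ∣ Nat.card G) (h5 : ¬ 5 ∣ Nat.card G) : ∃ U : Submodule 𝔽₂ V, (∀ g, ∀ u ∈ U, ρ g u ∈ U) ∧ U ≠ ⊥ ∧ U ≠ ⊤ := by
  classical
  have hp7 : Fact (Nat.Prime 7) := ⟨by norm_num⟩
  have hfin : Finite V := Module.finite_of_finite 𝔽₂
  have hcV : Nat.card V = 16 := by
    rw [Module.natCard_eq_pow_finrank (K := 𝔽₂), hV]
    simp
  letI act : MulAction G V := MulAction.compHom V ρ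
  have hact : ∀ (g : G) (v : V), g • v = ρ g v := fun _ _ => rfl
  obtain ⟨g, hg⟩ := exists_prime_orderOf_dvd_card' 7 h7
  let P := Subgroup.zpowers g
  have hP : Nat.card P = 7 := by rw [Nat.card_zpowers, hg]
  have hPp : IsPGroup 7 P := IsPGroup.of_card (n := 1) (by rw [hP, pow_one])
  have hg1 : ρ g ≠ 1 := by
    intro h
    have : g = 1 := hρ (h.trans (map_one ρ).symm)
    rw [this, orderOf_one] at hg
    omega
  let N : V →ₗ[𝔽₂] V := ρ g - 1
  have hN : ∀ v, N v = ρ g v - v := fun v => rfl
  have hfixP : ∀ v : V, v ∈ fixedPoints P V ↔ N v = 0 := by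
    intro v
    rw [hN, sub_eq_zero]
    constructor
    · intro h
      exact h ⟨g, Subgroup.mem_zpowers g⟩
    · rintro h ⟨p, n, rfl⟩
      have h1 : g ∈ stabilizer G v := h
      exact (stabilizer G v).zpow_mem h1 n
  have hcfix : Nat.card (fixedPoints P V) = 2 ^ Module.finrank 𝔽₂ (LinearMap.ker N) := by
    have h1 : Nat.card (LinearMap.ker N) = 2 ^ Module.finrank 𝔽₂ (LinearMap.ker N) := by
      rw [Module.natCard_eq_pow_finrank (K := 𝔽₂)]
      simp
    rw [← h1]
    exact Nat.card_congr (Equiv.subtypeEquivRight (fun v => (hfixP v).trans LinearMap.mem_ker.symm))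
  have hk4 : Module.finrank 𝔽₂ (LinearMap.ker N) < 4 := by
    rw [← hV]
    apply Submodule.finrank_lt
    intro h
    apply hg1
    apply LinearMap.ext
    intro v
    have h2 : v ∈ LinearMap.ker N := by rw [h]; trivial
    rw [LinearMap.mem_ker, hN, sub_eq_zero] at h2
    exact h2
  have hk : Module.finrank 𝔽₂ (LinearMap.ker N) = 1 := by
    apply two_pow_mod_seven _ hk4
    rw [← hcfix]
    have h1 := hPp.card_modEq_card_fixedPoints V
    rw [hcV] at h1
    exact h1.symm.trans (by decide)
  rw [hk, pow_one] at hcfix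
  obtain ⟨⟨v, hvk⟩, hv0, hall⟩ := finrank_eq_one_iff'.1 hk
  have hv0' : v ≠ 0 := fun h => hv0 (Subtype.ext h)
  have hvu : ∀ w, N w = 0 → w = 0 ∨ w = v := by
    intro w hw
    obtain ⟨c, hc⟩ := hall ⟨w, LinearMap.mem_ker.2 hw⟩
    have h1 : c • v = w := congrArg Subtype.val hc
    have h2 : ∀ c : 𝔽₂, c = 0 ∨ c = 1 := by decide
    rcases h2 c with rfl | rfl
    · left; rw [← h1, zero_smul]
    · right; rw [← h1, one_smul]
  have hvN : N v = 0 := LinearMap.mem_ker.1 hvk
  -- the orbit of v
  have h0 : ∀ g : G, g • (0 : V) = 0 := fun g => by rw [hact, map_zero]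
  have hO0 : (0 : V) ∉ orbit G v := by
    rintro ⟨k, hk'⟩
    apply hv0'
    have h1 : k • v = 0 := hk'
    have h2 := congrArg (fun z => k⁻¹ • z) h1
    simp only [inv_smul_smul, h0] at h2
    exact h2
  have hOdvd : Nat.card (orbit G v) ∣ Nat.card G := by
    have h1 := MulAction.index_stabilizer G v
    have h2 : Nat.card (orbit G v) = (orbit G v).ncard := rfl
    rw [h2, ← h1]
    exact Subgroup.index_dvd_card _
  have hOmod : Nat.card (orbit G v) ≡ 1 [MOD 7] := by
    have h1 := hPp.card_modEq_card_fixedPoints (orbit G v)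
    have h2 : Nat.card (fixedPoints P (orbit G v)) = 1 := by
      rw [Nat.card_eq_one_iff_unique]
      refine ⟨⟨?_⟩, ⟨⟨⟨v, mem_orbit_self v⟩, ?_⟩⟩⟩
      · rintro ⟨⟨a, ha⟩, ha'⟩ ⟨⟨b, hb⟩, hb'⟩
        have e1 : ∀ (a : V) (ha : a ∈ orbit G v), (⟨a, ha⟩ : orbit G v) ∈ fixedPoints P (orbit G v) → a = v := by
          intro a ha ha'
          have h3 : a ∈ fixedPoints P V := by
            intro p
            exact congrArg Subtype.val (ha' p)
          rcases hvu a ((hfixP a).1 h3) with h4 | h4
          · exact absurd (h4 ▸ ha) hO0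
          · exact h4
        apply Subtype.ext
        apply Subtype.ext
        exact (e1 a ha ha').trans (e1 b hb hb').symm
      · intro p
        apply Subtype.ext
        exact (hfixP v).2 hvN p
    rw [h2] at h1
    exact h1
  have hOle : Nat.card (orbit G v) ≤ 15 := by
    have h1 : orbit G v ⊆ {0}ᶜ := by
      intro w hw h
      exact hO0 (by rw [← Set.mem_singleton_iff.1 h]; exact hw)
    have h2 := Set.ncard_le_ncard h1 (Set.toFinite _)
    have h3 := Set.ncard_add_ncard_compl ({0} : Set V)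
    rw [Set.ncard_singleton, hcV] at h3
    change (orbit G v).ncard ≤ 15
    omega
  have hOc : Nat.card (orbit G v) = 1 ∨ Nat.card (orbit G v) = 8 := by
    have h1 : ∀ n : ℕ, n ≤ 15 → n ≡ 1 [MOD 7] → n = 1 ∨ n = 8 ∨ n = 15 := by decide
    rcases h1 _ hOle hOmod with h | h | h
    · exact Or.inl h
    · exact Or.inr h
    · exfalso
      apply h5
      rw [h] at hOdvd
      exact (show 5 ∣ 15 by norm_num).trans hOdvd
  rcases hOc with hO | hO
  · -- v is fixed
    refine ⟨Submodule.span 𝔽₂ {v}, ?_, ?_, ?_⟩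
    · intro k u hu
      obtain ⟨c, rfl⟩ := Submodule.mem_span_singleton.1 hu
      rw [map_smul]
      have h1 : ρ k v = v := by
        have h2 : (⟨k • v, mem_orbit v k⟩ : orbit G v) = ⟨v, mem_orbit_self v⟩ := by
          have := (Nat.card_eq_one_iff_unique.1 hO).1
          exact Subsingleton.elim _ _
        exact congrArg Subtype.val h2
      rw [h1]
      exact Submodule.smul_mem _ _ (Submodule.mem_span_singleton_self v)
    · rw [Ne, Submodule.span_singleton_eq_bot]
      exact hv0'
    · intro h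
      have h1 := finrank_span_singleton (K := 𝔽₂) hv0'
      rw [h, finrank_top, hV] at h1
      omega
  · -- the complement
    let O' : Set V := {w | w ≠ 0 ∧ w ∉ orbit G v}
    have hO'inv : ∀ (k : G) (w : V), w ∈ O' → k • w ∈ O' := by
      rintro k w ⟨hw0, hwO⟩
      refine ⟨?_, ?_⟩
      · intro h
        apply hw0
        have h2 := congrArg (fun z => k⁻¹ • z) h
        simp only [inv_smul_smul, h0] at h2
        exact h2
      · rintro ⟨j, hj⟩
        apply hwO
        refine ⟨k⁻¹ * j, ?_⟩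
        have h1 : j • v = k • w := hj
        change (k⁻¹ * j) • v = w
        rw [mul_smul, h1, inv_smul_smul]
    have hO'c : O'.ncard = 7 := by
      have h1 : O' = (insert 0 (orbit G v))ᶜ := by
        ext w
        simp only [O', Set.mem_compl_iff, Set.mem_insert_iff, not_or, Set.mem_setOf_eq, ne_eq]
      have h2 := Set.ncard_add_ncard_compl (insert 0 (orbit G v))
      rw [← h1, Set.ncard_insert_of_notMem hO0, hcV] at h2
      have h3 : (orbit G v).ncard = 8 := hO
      omega
    have htrans : ∀ a ∈ O', ∀ b ∈ O', ∃ n : ℕ, (g ^ n) • a = b := by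
      intro a ha b hb
      have h1 : orbit P a ⊆ O' := by
        rintro _ ⟨p, rfl⟩
        exact hO'inv (p : G) a ha
      have h2 : Nat.card (orbit P a) ∣ 7 := by
        have h1 := MulAction.index_stabilizer P a
        have h2 : Nat.card (orbit P a) = (orbit P a).ncard := rfl
        rw [h2, ← h1, ← hP]
        exact Subgroup.index_dvd_card _
      have h3 : Nat.card (orbit P a) ≠ 1 := by
        intro h
        have h4 : a ∈ fixedPoints P V := by
          intro p
          have h5 : (⟨p • a, mem_orbit a p⟩ : orbit P a) = ⟨a, mem_orbit_self a⟩ := by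
            have := (Nat.card_eq_one_iff_unique.1 h).1
            exact Subsingleton.elim _ _
          exact congrArg Subtype.val h5
        rcases hvu a ((hfixP a).1 h4) with h5 | h5
        · exact ha.1 h5
        · exact ha.2 (h5 ▸ mem_orbit_self _)
      have h4 : Nat.card (orbit P a) = 7 := ((Nat.dvd_prime (by norm_num)).1 h2).resolve_left h3
      have h5 : orbit P a = O' := by
        apply Set.eq_of_subset_of_ncard_le h1
        rw [hO'c]
        exact h4.ge
      rw [← h5] at hb
      obtain ⟨⟨p, hp⟩, hp'⟩ := hb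
      have hp2 : p ∈ Submonoid.powers g := by
        rw [mem_powers_iff_mem_zpowers]; exact hp
      obtain ⟨n, rfl⟩ := hp2
      exact ⟨n, hp'⟩
    let S : Set V := {w | ∃ a ∈ O', ∃ b ∈ O', w = a + b}
    refine ⟨Submodule.span 𝔽₂ S, ?_, ?_, ?_⟩
    · intro k u hu
      have h1 : Submodule.span 𝔽₂ S ≤ (Submodule.span 𝔽₂ S).comap (ρ k) := by
        rw [Submodule.span_le]
        rintro _ ⟨a, ha, b, hb, rfl⟩
        rw [SetLike.mem_coe, Submodule.mem_comap, map_add]
        exact Submodule.subset_span ⟨_, hO'inv k a ha, _, hO'inv k b hb, rfl⟩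
      exact h1 hu
    · have h1 : 1 < O'.ncard := by rw [hO'c]; norm_num
      obtain ⟨a, ha, b, hb, hab⟩ := (Set.one_lt_ncard (Set.toFinite _)).1 h1
      intro h
      have h2 : a + b ∈ Submodule.span 𝔽₂ S := Submodule.subset_span ⟨a, ha, b, hb, rfl⟩
      rw [h, Submodule.mem_bot] at h2
      apply hab
      have h7 : b + b = 0 := by
        have h6 : (2 : 𝔽₂) = 0 := rfl
        rw [← two_smul 𝔽₂ b, h6, zero_smul]
      rw [← h7] at h2
      exact add_right_cancel h2
    · have h1 : Submodule.span 𝔽₂ S ≤ LinearMap.range N := by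
        rw [Submodule.span_le]
        rintro _ ⟨a, ha, b, hb, rfl⟩
        obtain ⟨n, rfl⟩ := htrans a ha b hb
        have h7 : a + (g ^ n) • a = (g ^ n) • a - a := by
          have h8 : a + a = 0 := by
            have h6 : (2 : 𝔽₂) = 0 := rfl
            rw [← two_smul 𝔽₂ a, h6, zero_smul]
          rw [eq_sub_iff_add_eq, add_right_comm, h8, zero_add]
        rw [SetLike.mem_coe, h7]
        clear h7 hb
        induction n with
        | zero => rw [pow_zero, one_smul, sub_self]; exact Submodule.zero_mem _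
        | succ n ih =>
          have h8 : (g ^ (n + 1)) • a - a = ρ g ((g ^ n) • a - a) + N a := by
            rw [pow_succ', mul_smul, hact g, hN, map_sub]
            abel
          rw [h8]
          refine Submodule.add_mem _ ?_ ⟨a, rfl⟩
          obtain ⟨y, hy⟩ := ih
          rw [← hy, hN, map_sub]
          exact ⟨ρ g y, by rw [hN]⟩
      intro h
      rw [h] at h1
      have h2 : LinearMap.range N = ⊤ := top_le_iff.1 h1
      have h3 := LinearMap.finrank_range_add_finrank_ker N
      rw [h2, finrank_top, hk, hV] at h3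
      omega

theorem seven_dvd {H : Type*} [Group H] [Finite H] (hs : ¬ Group.IsSolvable H) (hd : Nat.card H ∣ 20160) (h5 : ¬ 5 ∣ Nat.card H) : 7 ∣ Nat.card H := by
  by_contra h7
  apply hs
  have h1 : Nat.card H ∣ 2 ^ 6 * 3 ^ 2 := by
    have h2 : Nat.card H ∣ 35 * (2 ^ 6 * 3 ^ 2) := by
      have : 35 * (2 ^ 6 * 3 ^ 2) = 20160 := by norm_num
      rw [this]; exact hd
    apply Nat.Coprime.dvd_of_dvd_mul_left _ h2
    have h3 : Nat.Coprime (Nat.card H) 5 := ((Nat.Prime.coprime_iff_not_dvd (by norm_num)).2 h5).symm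
    have h4 : Nat.Coprime (Nat.card H) 7 := ((Nat.Prime.coprime_iff_not_dvd (by norm_num)).2 h7).symm
    exact h3.mul_right h4
  obtain ⟨x, y, hx, hy, hxy⟩ := (Nat.dvd_mul).1 h1
  obtain ⟨a, _, rfl⟩ := (Nat.dvd_prime_pow Nat.prime_two).1 hx
  obtain ⟨b, _, rfl⟩ := (Nat.dvd_prime_pow Nat.prime_three).1 hy
  exact Cfsg.Agent.S0144.result 2 3 a b Nat.prime_two Nat.prime_three hxy.symm

theorem not_five_case (hn : NSN G) (hnt : Nontrivial G) (ρ : G →* Module.End 𝔽₂ V) (hρ : Function.Injective ρ) (hV : Module.finrank 𝔽₂ V = 4)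
    (h5 : ¬ 5 ∣ Nat.card G) (hd : Nat.card G ∣ 20160) : Nonempty (G ≃* GL (Fin 3) 𝔽₂) := by
  have h7 := seven_dvd hn.not_solvable hd h5
  obtain ⟨U, hU, hU0, hU1⟩ := exists_invariant ρ hρ hV h7 h5
  obtain ⟨ι, hι⟩ := embed_GL3 hn ρ hρ hV U hU hU0 hU1 h7
  exact iso_GL3 hn h7 ι hι

end red

end Cfsg.Agent.H43
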