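import Mathlib
import Cfsg.Agent.H43.SubA8b
import Cfsg.Agent.H43.SubGL4b
import Cfsg.Agent.S0256
import Cfsg.Agent.H4.CardSL

set_option autoImplicit false
set_option linter.unusedSectionVars false
set_option linter.unusedVariables false

/-! Subgroups of `GL(4,2)` without solvable normal subgroups. -/

namespace Cfsg.Agent.H43

local notation "𝔽₂" => ZMod 2

theorem exists_GL4_equiv : Nonempty (GL (Fin 4) 𝔽₂ ≃* alternatingGroup (Fin 8)) := by
  obtain ⟨e⟩ := Cfsg.Agent.S0256.result (F := 𝔽₂) (by simp [ZMod.card])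
  have hc : Subgroup.center (Matrix.SpecialLinearGroup (Fin 4) 𝔽₂) = ⊥ := by
    have h3 := Cfsg.Agent.H4.card_center_SL (F := 𝔽₂) 4 (by norm_num)
    rw [ZMod.card] at h3
    exact Subgroup.card_eq_one.1 h3
  have e2 : Matrix.ProjectiveSpecialLinearGroup (Fin 4) 𝔽₂ ≃* Matrix.SpecialLinearGroup (Fin 4) 𝔽₂ :=
    (QuotientGroup.quotientMulEquivOfEq hc).trans QuotientGroup.quotientBot
  have hb : Function.Bijective (Matrix.SpecialLinearGroup.toGL : Matrix.SpecialLinearGroup (Fin 4) 𝔽₂ →* GL (Fin 4) 𝔽₂) := by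
    constructor
    · exact Matrix.SpecialLinearGroup.toGL_injective
    · intro g
      have hd : (g : Matrix (Fin 4) (Fin 4) 𝔽₂).det = 1 := by
        have h1 : (g : Matrix (Fin 4) (Fin 4) 𝔽₂).det ≠ 0 := (Matrix.isUnits_det_units g).ne_zero
        have h2 : ∀ a : 𝔽₂, a ≠ 0 → a = 1 := by decide
        exact h2 _ h1
      obtain ⟨s, hs⟩ : ∃ s : Matrix.SpecialLinearGroup (Fin 4) 𝔽₂, (s : Matrix (Fin 4) (Fin 4) 𝔽₂) = g := ⟨⟨g, hd⟩, rfl⟩
      exact ⟨s, Units.ext ((Matrix.SpecialLinearGroup.coe_GL_coe_matrix s).trans hs)⟩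
  exact ⟨(MulEquiv.ofBijective _ hb).symm.trans (e2.symm.trans e)⟩

theorem sub_GL4 (H : Subgroup (GL (Fin 4) 𝔽₂)) (hH : H ≠ ⊥) (hO : Cfsg.pPrimeCore 2 ↥H = ⊥) (hO2 : Cfsg.pCore 2 ↥H = ⊥) :
    (∃ n : ℕ, 5 ≤ n ∧ n ≤ 8 ∧ Nonempty (↥H ≃* alternatingGroup (Fin n))) ∨
    Nonempty (↥H ≃* Equiv.Perm (Fin 5)) ∨ Nonempty (↥H ≃* Equiv.Perm (Fin 6)) ∨ Nonempty (↥H ≃* GL (Fin 3) (ZMod 2)) := by
  have hn : NSN H := nsn_of_cores hO hO2
  have hnt : Nontrivial H := (Subgroup.nontrivial_iff_ne_bot H).2 hH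
  by_cases h5 : 5 ∣ Nat.card H
  · obtain ⟨e⟩ := exists_GL4_equiv
    let φ : H →* Equiv.Perm (Fin 8) := (alternatingGroup (Fin 8)).subtype.comp (e.toMonoidHom.comp H.subtype)
    have hφ : Function.Injective φ := (Subgroup.subtype_injective _).comp (e.injective.comp (Subgroup.subtype_injective _))
    have f : H ≃* φ.range := MonoidHom.ofInjective hφ
    have hle : φ.range ≤ alternatingGroup (Fin 8) := by
      rintro _ ⟨x, rfl⟩
      exact (e x).2
    have h1 := five_case φ.range hle (hn.of_equiv f) (by rw [← Nat.card_congr f.toEquiv]; exact h5)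
    rcases h1 with ⟨n, h2, h3, ⟨k⟩⟩ | hk | hk
    · exact Or.inl ⟨n, h2, h3, ⟨f.trans k⟩⟩
    · obtain ⟨k⟩ := hk
      exact Or.inr (Or.inl ⟨f.trans k⟩)
    · obtain ⟨k⟩ := hk
      exact Or.inr (Or.inr (Or.inl ⟨f.trans k⟩))
  · right; right; right
    let ρ : H →* Module.End 𝔽₂ (Fin 4 → 𝔽₂) :=
      ((Matrix.toLinAlgEquiv' : Matrix (Fin 4) (Fin 4) 𝔽₂ ≃ₐ[𝔽₂] _).toMonoidHom).comp ((Units.coeHom _).comp H.subtype)
    have hρ : Function.Injective ρ :=
      (Matrix.toLinAlgEquiv' : Matrix (Fin 4) (Fin 4) 𝔽₂ ≃ₐ[𝔽₂] _).injective.comp (Units.val_injective.comp (Subgroup.subtype_injective _))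
    refine not_five_case hn hnt ρ hρ ?_ h5 ?_
    · rw [Module.finrank_fintype_fun_eq_card, Fintype.card_fin]
    · rw [← card_GL4]
      exact Subgroup.card_subgroup_dvd_card H

end Cfsg.Agent.H43
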