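import Mathlib
import Cfsg.Agent.H43.NormSub
import Cfsg.Agent.ClGeo.Herm
import Cfsg.Agent.AutLie.Norm

set_option autoImplicit false
set_option linter.unusedSectionVars false
set_option linter.unusedVariables false

/-! Conjugacy in unitary groups. -/

namespace Cfsg.Agent.H43

section
variable {K ι : Type*} [Field K] [Finite K] [Fintype ι] [DecidableEq ι] (σ : K →+* K) (hσ : ∀ x, σ (σ x) = x)

/-- conjugate transpose -/
def stm (M : Matrix ι ι K) : Matrix ι ι K := (M.map σ).transpose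

theorem stm_mul (M N : Matrix ι ι K) : stm σ (M * N) = stm σ N * stm σ M := by
  unfold stm
  rw [Matrix.map_mul, Matrix.transpose_mul]

theorem stm_add (M N : Matrix ι ι K) : stm σ (M + N) = stm σ M + stm σ N := by
  unfold stm
  rw [Matrix.map_add σ (map_add σ), Matrix.transpose_add]

theorem stm_one : stm σ (1 : Matrix ι ι K) = 1 := by
  unfold stm
  rw [Matrix.map_one σ (map_zero σ) (map_one σ), Matrix.transpose_one]

include hσ in
theorem stm_stm (M : Matrix ι ι K) : stm σ (stm σ M) = M := by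
  ext i j
  unfold stm
  simp [hσ]

theorem stm_smul_one (a : K) : stm σ (a • (1 : Matrix ι ι K)) = σ a • 1 := by
  ext i j
  unfold stm
  by_cases h : i = j
  · subst h; simp
  · simp [h, Ne.symm h]

include hσ in
theorem stm_injective : Function.Injective (stm σ : Matrix ι ι K → Matrix ι ι K) := by
  intro M N h
  rw [← stm_stm σ hσ M, h, stm_stm σ hσ]

theorem stm_units (g : GL ι K) : stm σ ((g⁻¹ : GL ι K) : Matrix ι ι K) * stm σ (g : Matrix ι ι K) = 1 := by
  rw [← stm_mul]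
  have : (g : Matrix ι ι K) * ((g⁻¹ : GL ι K) : Matrix ι ι K) = 1 := Units.mul_inv g
  rw [this, stm_one]

theorem stm_units' (g : GL ι K) : stm σ (g : Matrix ι ι K) * stm σ ((g⁻¹ : GL ι K) : Matrix ι ι K) = 1 := by
  rw [← stm_mul]
  have : ((g⁻¹ : GL ι K) : Matrix ι ι K) * (g : Matrix ι ι K) = 1 := Units.inv_mul g
  rw [this, stm_one]

include hσ in
/-- Conjugate elements are conjugate by an isometry. -/
theorem unitary_conj (hne : σ ≠ RingHom.id K) (A B : GL ι K) (hA : stm σ (A : Matrix ι ι K) * (A : Matrix ι ι K) = 1)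
    (hB : stm σ (B : Matrix ι ι K) * (B : Matrix ι ι K) = 1) (g : GL ι K) (hg : g * A = B * g) :
    ∃ k : GL ι K, stm σ (k : Matrix ι ι K) * (k : Matrix ι ι K) = 1 ∧ k * A = B * k := by
  obtain ⟨ω, hω⟩ : ∃ ω, σ ω ≠ ω := by
    by_contra h
    push Not at h
    exact hne (RingHom.ext h)
  obtain ⟨h, hh⟩ : ∃ h : Matrix ι ι K, h = stm σ (g : Matrix ι ι K) * (g : Matrix ι ι K) := ⟨_, rfl⟩
  have hsh : stm σ h = h := by rw [hh, stm_mul, stm_stm σ hσ]
  obtain ⟨t, ht⟩ : ∃ t : Matrix ι ι K, t = ω • 1 := ⟨_, rfl⟩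
  have htc : ∀ z : Matrix ι ι K, t * z = z * t := by
    intro z; rw [ht, smul_mul_assoc, one_mul, mul_smul_comm, mul_one]
  have hst : stm σ t = σ ω • 1 := by rw [ht, stm_smul_one]
  have hstc : ∀ z : Matrix ι ι K, stm σ t * z = z * stm σ t := by
    intro z; rw [hst, smul_mul_assoc, one_mul, mul_smul_comm, mul_one]
  have hfinM : Finite (Matrix ι ι K) := inferInstance
  obtain ⟨X, hX⟩ : ∃ X : Set (Matrix ι ι K), X = {h, t} := ⟨_, rfl⟩
  have hXc : ∀ x ∈ X, ∀ y ∈ X, x * y = y * x := by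
    intro x hx y hy
    rw [hX] at hx hy
    rcases hx with rfl | hx
    · rcases hy with rfl | hy
      · rfl
      · rw [Set.mem_singleton_iff.1 hy]; exact (htc _).symm
    · rw [Set.mem_singleton_iff.1 hx]; exact htc _
  have hg' : (g : Matrix ι ι K) * (A : Matrix ι ι K) = (B : Matrix ι ι K) * (g : Matrix ι ι K) := congrArg Units.val hg
  -- A commutes with h
  have hAh : h * (A : Matrix ι ι K) = (A : Matrix ι ι K) * h := by
    have h1 : stm σ (A : Matrix ι ι K) * h * (A : Matrix ι ι K) = h := by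
      rw [hh]
      calc stm σ (A : Matrix ι ι K) * (stm σ (g : Matrix ι ι K) * (g : Matrix ι ι K)) * (A : Matrix ι ι K)
          = stm σ ((g : Matrix ι ι K) * (A : Matrix ι ι K)) * ((g : Matrix ι ι K) * (A : Matrix ι ι K)) := by
            rw [stm_mul]; simp only [mul_assoc]
        _ = stm σ (g : Matrix ι ι K) * (stm σ (B : Matrix ι ι K) * (B : Matrix ι ι K)) * (g : Matrix ι ι K) := by
            rw [hg', stm_mul]; simp only [mul_assoc]
        _ = _ := by rw [hB, mul_one]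
    have h2 : (A : Matrix ι ι K) * stm σ (A : Matrix ι ι K) = 1 := mul_eq_one_comm.1 hA
    calc h * (A : Matrix ι ι K) = ((A : Matrix ι ι K) * stm σ (A : Matrix ι ι K)) * h * (A : Matrix ι ι K) := by rw [h2, one_mul]
      _ = (A : Matrix ι ι K) * (stm σ (A : Matrix ι ι K) * h * (A : Matrix ι ι K)) := by simp only [mul_assoc]
      _ = _ := by rw [h1]
  have hbs := bic_star X (stm σ) (stm_mul σ) (stm_injective σ hσ) (by
    intro x hx z hz
    have hz' : ∀ x ∈ X, x * z = z * x := hz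
    rw [hX] at hx hz'
    rcases hx with rfl | hx
    · have h1 := hz' x (by simp)
      have h2 := congrArg (stm σ) h1
      rw [stm_mul, stm_mul, hsh] at h2
      exact h2.symm
    · rw [Set.mem_singleton_iff.1 hx]; exact htc _)
  obtain ⟨_, hN⟩ := norm_package (bic X) (bic_comm X hXc) (stm σ) hbs (fun x _ y _ => stm_add σ x y)
    (fun x _ y _ => stm_mul σ x y) (stm_one σ) (fun x _ => stm_stm σ hσ x) t (subset_bic X (by rw [hX]; simp)) (by
      rw [ht, stm_smul_one, ← sub_smul]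
      have h1 : ω - σ ω ≠ 0 := sub_ne_zero.2 (Ne.symm hω)
      rw [← Algebra.algebraMap_eq_smul_one]
      exact h1.isUnit.map _)
  have hhu : IsUnit h := by
    rw [hh]
    have h1 : IsUnit (stm σ (g : Matrix ι ι K)) := IsUnit.of_mul_eq_one _ (stm_units' σ g)
    exact h1.mul g.isUnit
  obtain ⟨c, hc, hcu, hch⟩ := hN h (subset_bic X (by rw [hX]; simp)) hhu hsh
  obtain ⟨c, rfl⟩ := hcu
  have hch' : stm σ (c : Matrix ι ι K) * (c : Matrix ι ι K) = h := by
    rw [← hch]
    exact bic_comm X hXc _ (hbs _ hc) _ hc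
  have hAc : (A : Matrix ι ι K) * (c : Matrix ι ι K) = (c : Matrix ι ι K) * (A : Matrix ι ι K) := by
    apply bic_commute X _ hc
    intro x hx
    rw [hX] at hx
    rcases hx with rfl | hx
    · exact hAh
    · rw [Set.mem_singleton_iff.1 hx]; exact htc _
  refine ⟨g * c⁻¹, ?_, ?_⟩
  · rw [Units.val_mul, stm_mul]
    calc stm σ ((c⁻¹ : GL ι K) : Matrix ι ι K) * stm σ (g : Matrix ι ι K) * ((g : Matrix ι ι K) * ((c⁻¹ : GL ι K) : Matrix ι ι K))
        = stm σ ((c⁻¹ : GL ι K) : Matrix ι ι K) * (stm σ (g : Matrix ι ι K) * (g : Matrix ι ι K)) * ((c⁻¹ : GL ι K) : Matrix ι ι K) := by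
          simp only [mul_assoc]
      _ = (stm σ ((c⁻¹ : GL ι K) : Matrix ι ι K) * stm σ (c : Matrix ι ι K)) * ((c : Matrix ι ι K) * ((c⁻¹ : GL ι K) : Matrix ι ι K)) := by
          rw [← hh, ← hch']; simp only [mul_assoc]
      _ = 1 := by rw [stm_units, Units.mul_inv, mul_one]
  · have h1 : A * c = c * A := Units.ext hAc
    have h2 : c⁻¹ * A = A * c⁻¹ := by
      rw [inv_mul_eq_iff_eq_mul, ← mul_assoc, ← h1, mul_assoc, mul_inv_cancel, mul_one]
    rw [mul_assoc, h2, ← mul_assoc, hg, mul_assoc]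

include hσ in
/-- A matrix similar to its conjugate-transpose inverse is similar to a unitary one. -/
theorem unitary_exists (hne : σ ≠ RingHom.id K) (A g : GL ι K)
    (hg : stm σ (A : Matrix ι ι K) * (g : Matrix ι ι K) * (A : Matrix ι ι K) = (g : Matrix ι ι K)) :
    ∃ P : GL ι K, stm σ ((P * A * P⁻¹ : GL ι K) : Matrix ι ι K) * ((P * A * P⁻¹ : GL ι K) : Matrix ι ι K) = 1 := by
  obtain ⟨ω, hω⟩ : ∃ ω, σ ω ≠ ω := by
    by_contra h
    push Not at h
    exact hne (RingHom.ext h)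
  obtain ⟨gi, hgi⟩ : ∃ gi : Matrix ι ι K, gi = ((g⁻¹ : GL ι K) : Matrix ι ι K) := ⟨_, rfl⟩
  have hgi1 : gi * (g : Matrix ι ι K) = 1 := by rw [hgi]; exact Units.inv_mul g
  have hgi2 : (g : Matrix ι ι K) * gi = 1 := by rw [hgi]; exact Units.mul_inv g
  have hsg1 : stm σ gi * stm σ (g : Matrix ι ι K) = 1 := by rw [hgi]; exact stm_units σ g
  have hsg2 : stm σ (g : Matrix ι ι K) * stm σ gi = 1 := by rw [hgi]; exact stm_units' σ g
  obtain ⟨c, hc⟩ : ∃ c : Matrix ι ι K, c = gi * stm σ (g : Matrix ι ι K) := ⟨_, rfl⟩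
  obtain ⟨ci, hci⟩ : ∃ ci : Matrix ι ι K, ci = stm σ gi * (g : Matrix ι ι K) := ⟨_, rfl⟩
  have hcc : c * ci = 1 := by
    rw [hc, hci, mul_assoc, ← mul_assoc (stm σ (g : Matrix ι ι K)), hsg2, one_mul, hgi1]
  have hcc' : ci * c = 1 := mul_eq_one_comm.1 hcc
  obtain ⟨τ, hτ⟩ : ∃ τ : Matrix ι ι K → Matrix ι ι K, ∀ x, τ x = gi * stm σ x * (g : Matrix ι ι K) := ⟨_, fun _ => rfl⟩
  have hτmul : ∀ x y, τ (x * y) = τ y * τ x := by
    intro x y
    rw [hτ, hτ, hτ, stm_mul]
    calc gi * (stm σ y * stm σ x) * (g : Matrix ι ι K) = gi * stm σ y * 1 * (stm σ x * (g : Matrix ι ι K)) := by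
          rw [mul_one]; simp only [mul_assoc]
      _ = gi * stm σ y * ((g : Matrix ι ι K) * gi) * (stm σ x * (g : Matrix ι ι K)) := by rw [hgi2]
      _ = _ := by simp only [mul_assoc]
  have hτadd : ∀ x y, τ (x + y) = τ x + τ y := by
    intro x y
    rw [hτ, hτ, hτ, stm_add, mul_add, add_mul]
  have hτ1 : τ 1 = 1 := by rw [hτ, stm_one, mul_one, hgi1]
  have hτinj : Function.Injective τ := by
    intro x y h
    rw [hτ, hτ] at h
    have h1 := congrArg (fun z => (g : Matrix ι ι K) * z * gi) h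
    simp only [mul_assoc, hgi2, mul_one] at h1
    rw [← mul_assoc, ← mul_assoc, hgi2, one_mul, one_mul] at h1
    exact stm_injective σ hσ h1
  have hτc : τ c = ci := by
    rw [hτ, hc, stm_mul, stm_stm σ hσ, hci, ← mul_assoc, hgi1, one_mul]
  have hτcτ : ∀ x, τ (τ x) = c * x * ci := by
    intro x
    rw [hτ, hτ, stm_mul, stm_mul, stm_stm σ hσ, hc, hci]
    simp only [mul_assoc]
  obtain ⟨t, ht⟩ : ∃ t : Matrix ι ι K, t = ω • 1 := ⟨_, rfl⟩
  have htc : ∀ z : Matrix ι ι K, t * z = z * t := by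
    intro z; rw [ht, smul_mul_assoc, one_mul, mul_smul_comm, mul_one]
  have hst : τ t = σ ω • 1 := by rw [hτ, ht, stm_smul_one, mul_smul_comm, mul_one, smul_mul_assoc, hgi1]
  obtain ⟨X, hX⟩ : ∃ X : Set (Matrix ι ι K), X = {c, t} := ⟨_, rfl⟩
  have hXc : ∀ x ∈ X, ∀ y ∈ X, x * y = y * x := by
    intro x hx y hy
    rw [hX] at hx hy
    rcases hx with rfl | hx
    · rcases hy with rfl | hy
      · rfl
      · rw [Set.mem_singleton_iff.1 hy]; exact (htc _).symm
    · rw [Set.mem_singleton_iff.1 hx]; exact htc _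
  have hcX : c ∈ bic X := subset_bic X (by rw [hX]; simp)
  -- A commutes with c
  have hA1 : stm σ (A : Matrix ι ι K) * stm σ (g : Matrix ι ι K) * (A : Matrix ι ι K) = stm σ (g : Matrix ι ι K) := by
    have := congrArg (stm σ) hg
    rw [stm_mul, stm_mul, stm_stm σ hσ] at this
    rw [mul_assoc]
    exact this
  have hAu : stm σ (A : Matrix ι ι K) * ((g : Matrix ι ι K) * (A : Matrix ι ι K) * gi) = 1 := by
    rw [← mul_assoc, ← mul_assoc, hg, hgi2]
  have hAu' : ((g : Matrix ι ι K) * (A : Matrix ι ι K) * gi) * stm σ (A : Matrix ι ι K) = 1 := mul_eq_one_comm.1 hAu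
  have hAc : (A : Matrix ι ι K) * c = c * (A : Matrix ι ι K) := by
    rw [hc]
    -- A gi = gi * (g A gi) 
    have h1 : (A : Matrix ι ι K) * gi = gi * ((g : Matrix ι ι K) * (A : Matrix ι ι K) * gi) := by
      rw [← mul_assoc, ← mul_assoc, hgi1, one_mul]
    have h2 : ((g : Matrix ι ι K) * (A : Matrix ι ι K) * gi) * stm σ (g : Matrix ι ι K) = stm σ (g : Matrix ι ι K) * (A : Matrix ι ι K) := by
      calc ((g : Matrix ι ι K) * (A : Matrix ι ι K) * gi) * stm σ (g : Matrix ι ι K)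
          = ((g : Matrix ι ι K) * (A : Matrix ι ι K) * gi) * (stm σ (A : Matrix ι ι K) * stm σ (g : Matrix ι ι K) * (A : Matrix ι ι K)) := by rw [hA1]
        _ = (((g : Matrix ι ι K) * (A : Matrix ι ι K) * gi) * stm σ (A : Matrix ι ι K)) * (stm σ (g : Matrix ι ι K) * (A : Matrix ι ι K)) := by
          simp only [mul_assoc]
        _ = _ := by rw [hAu', one_mul]
    rw [← mul_assoc, h1, mul_assoc, h2, mul_assoc]
  have hbs := bic_star X τ hτmul hτinj (by
    intro x hx z hz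
    have hz' : ∀ x ∈ X, x * z = z * x := hz
    rw [hX] at hx hz'
    rcases hx with rfl | hx
    · have h1 := hz' x (by simp)
      have h2 := congrArg τ h1
      rw [hτmul, hτmul, hτc] at h2
      -- τ z * ci = ci * τ z
      calc x * τ z = x * (τ z * ci) * x := by rw [mul_assoc, mul_assoc, hcc', mul_one]
        _ = x * (ci * τ z) * x := by rw [h2]
        _ = (x * ci) * τ z * x := by simp only [mul_assoc]
        _ = τ z * x := by rw [hcc, one_mul]
    · rw [Set.mem_singleton_iff.1 hx]; exact htc _)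
  obtain ⟨h90, _⟩ := norm_package (bic X) (bic_comm X hXc) τ hbs (fun x _ y _ => hτadd x y)
    (fun x _ y _ => hτmul x y) hτ1 (fun x hx => by
      rw [hτcτ, bic_comm X hXc c hcX x hx, mul_assoc, hcc, mul_one]) t (subset_bic X (by rw [hX]; simp)) (by
      rw [hst, ht, ← sub_smul]
      have h1 : ω - σ ω ≠ 0 := sub_ne_zero.2 (Ne.symm hω)
      rw [← Algebra.algebraMap_eq_smul_one]
      exact h1.isUnit.map _)
  obtain ⟨y, hy, hyu, hyc⟩ := h90 c hcX (by rw [hτc]; exact hcc)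
  obtain ⟨y, rfl⟩ := hyu
  have hAy : (A : Matrix ι ι K) * (y : Matrix ι ι K) = (y : Matrix ι ι K) * (A : Matrix ι ι K) := by
    apply bic_commute X _ hy
    intro x hx
    rw [hX] at hx
    rcases hx with rfl | hx
    · exact hAc.symm
    · rw [Set.mem_singleton_iff.1 hx]; exact htc _
  obtain ⟨H, hH⟩ : ∃ H : GL ι K, H = g * y := ⟨_, rfl⟩
  have hHv : (H : Matrix ι ι K) = (g : Matrix ι ι K) * (y : Matrix ι ι K) := by rw [hH]; rfl
  have hsH : stm σ (H : Matrix ι ι K) = (H : Matrix ι ι K) := by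
    rw [hHv, stm_mul]
    have h1 : stm σ (y : Matrix ι ι K) = (g : Matrix ι ι K) * τ (y : Matrix ι ι K) * gi := by
      rw [hτ]
      simp only [mul_assoc, hgi2, mul_one]
      rw [← mul_assoc, hgi2, one_mul]
    have h2 : (y : Matrix ι ι K) = τ (y : Matrix ι ι K) * c := by
      rw [bic_comm X hXc _ (hbs _ hy) _ hcX]
      exact hyc
    rw [h1]
    conv_rhs => rw [h2]
    rw [hc]
    simp only [mul_assoc]
  have hAH : stm σ (A : Matrix ι ι K) * (H : Matrix ι ι K) * (A : Matrix ι ι K) = (H : Matrix ι ι K) := by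
    rw [hHv]
    calc stm σ (A : Matrix ι ι K) * ((g : Matrix ι ι K) * (y : Matrix ι ι K)) * (A : Matrix ι ι K)
        = stm σ (A : Matrix ι ι K) * (g : Matrix ι ι K) * ((y : Matrix ι ι K) * (A : Matrix ι ι K)) := by simp only [mul_assoc]
      _ = stm σ (A : Matrix ι ι K) * (g : Matrix ι ι K) * (A : Matrix ι ι K) * (y : Matrix ι ι K) := by
          rw [← hAy]; simp only [mul_assoc]
      _ = _ := by rw [hg]
  -- orthonormal basis
  let σe : K ≃+* K := RingEquiv.ofBijective σ ⟨σ.injective, fun x => ⟨σ x, hσ x⟩⟩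
  obtain ⟨C, hC⟩ := Cfsg.Agent.AutLie.exists_herm_eq σe (by
    intro h
    apply hω
    exact RingEquiv.congr_fun h ω) hσ H (by
    intro i j
    have := congrFun (congrFun hsH j) i
    exact this)
  obtain ⟨P, hP⟩ : ∃ P : GL ι K, P = (Cfsg.Agent.AutPSL.mapGL σe (Cfsg.Agent.AutPSL.invTGL C))⁻¹ := ⟨_, rfl⟩
  have hPv : (P : Matrix ι ι K) = stm σ (C : Matrix ι ι K) := by
    rw [hP, Cfsg.Agent.AutPSL.coe_mapGL_inv, Cfsg.Agent.AutPSL.coe_invTGL_inv]
    rfl
  have hHP : (H : Matrix ι ι K) = stm σ (P : Matrix ι ι K) * (P : Matrix ι ι K) := by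
    rw [hC, ← hP, Units.val_mul, hPv, stm_stm σ hσ]
  refine ⟨P, ?_⟩
  rw [Units.val_mul, Units.val_mul, stm_mul, stm_mul]
  calc stm σ ((P⁻¹ : GL ι K) : Matrix ι ι K) * (stm σ (A : Matrix ι ι K) * stm σ (P : Matrix ι ι K)) *
        ((P : Matrix ι ι K) * (A : Matrix ι ι K) * ((P⁻¹ : GL ι K) : Matrix ι ι K))
      = stm σ ((P⁻¹ : GL ι K) : Matrix ι ι K) * (stm σ (A : Matrix ι ι K) * (stm σ (P : Matrix ι ι K) * (P : Matrix ι ι K)) * (A : Matrix ι ι K)) *
        ((P⁻¹ : GL ι K) : Matrix ι ι K) := by simp only [mul_assoc]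
    _ = (stm σ ((P⁻¹ : GL ι K) : Matrix ι ι K) * stm σ (P : Matrix ι ι K)) * ((P : Matrix ι ι K) * ((P⁻¹ : GL ι K) : Matrix ι ι K)) := by
        rw [← hHP, hAH, hHP]; simp only [mul_assoc]
    _ = 1 := by rw [stm_units, Units.mul_inv, mul_one]

end

end Cfsg.Agent.H43
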