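import Cfsg.Agent.H43.Unitary
import Cfsg.Prelude.Def_LieClassical

set_option autoImplicit false
set_option linter.unusedSectionVars false
set_option linter.unusedVariables false

/-! Conjugacy in unitary groups: the group `Cfsg.GU`. -/

namespace Cfsg.Agent.H43

open Matrix

theorem mem_GU_iff {K : Type*} [Field K] [Fintype K] {q n : ℕ} (hK : Fintype.card K = q ^ 2) (A : GL (Fin n) K) :
    A ∈ Cfsg.GU n K q ↔ stm (Cfsg.Agent.ClGeo.frob hK) (A : Matrix (Fin n) (Fin n) K) * (A : Matrix (Fin n) (Fin n) K) = 1 := by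
  have h0 : stm (Cfsg.Agent.ClGeo.frob hK) (A : Matrix (Fin n) (Fin n) K) * (A : Matrix (Fin n) (Fin n) K) = 1 ↔
      (A : Matrix (Fin n) (Fin n) K)ᵀ * (A : Matrix (Fin n) (Fin n) K).map (Cfsg.Agent.ClGeo.frob hK) = 1 := by
    unfold stm
    constructor
    · intro h
      have := congrArg Matrix.transpose h
      rw [Matrix.transpose_mul, Matrix.transpose_transpose, Matrix.transpose_one] at this
      exact this
    · intro h
      have := congrArg Matrix.transpose h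
      rw [Matrix.transpose_mul, Matrix.transpose_transpose, Matrix.transpose_one] at this
      exact this
  rw [h0]
  have key : ∀ u v : Fin n → K, Cfsg.hermForm n K q ((A : Matrix (Fin n) (Fin n) K) *ᵥ u) ((A : Matrix (Fin n) (Fin n) K) *ᵥ v) =
      u ⬝ᵥ (((A : Matrix (Fin n) (Fin n) K)ᵀ * (A : Matrix (Fin n) (Fin n) K).map (Cfsg.Agent.ClGeo.frob hK)) *ᵥ
        (fun i => Cfsg.Agent.ClGeo.frob hK (v i))) := by
    intro u v
    have h1 : Cfsg.hermForm n K q ((A : Matrix (Fin n) (Fin n) K) *ᵥ u) ((A : Matrix (Fin n) (Fin n) K) *ᵥ v) =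
      ((A : Matrix (Fin n) (Fin n) K) *ᵥ u) ⬝ᵥ (fun i => Cfsg.Agent.ClGeo.frob hK (((A : Matrix (Fin n) (Fin n) K) *ᵥ v) i)) := by
      unfold Cfsg.hermForm dotProduct
      refine Finset.sum_congr rfl fun i _ => ?_
      simp only [Cfsg.Agent.ClGeo.frob_apply]
    have h2 : (fun i => Cfsg.Agent.ClGeo.frob hK (((A : Matrix (Fin n) (Fin n) K) *ᵥ v) i)) =
      (A : Matrix (Fin n) (Fin n) K).map (Cfsg.Agent.ClGeo.frob hK) *ᵥ (fun i => Cfsg.Agent.ClGeo.frob hK (v i)) := by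
      funext i
      unfold Matrix.mulVec dotProduct
      rw [map_sum]
      refine Finset.sum_congr rfl fun j _ => ?_
      rw [map_mul]; rfl
    rw [h1, h2, ← Matrix.mulVec_mulVec, Matrix.dotProduct_mulVec u, Matrix.vecMul_transpose]
  have key2 : ∀ u v : Fin n → K, Cfsg.hermForm n K q u v = u ⬝ᵥ (fun i => Cfsg.Agent.ClGeo.frob hK (v i)) := by
    intro u v
    unfold Cfsg.hermForm dotProduct
    refine Finset.sum_congr rfl fun i _ => ?_
    simp only [Cfsg.Agent.ClGeo.frob_apply]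
  constructor
  · intro h
    have h' : ∀ u v : Fin n → K, Cfsg.hermForm n K q ((A : Matrix (Fin n) (Fin n) K) *ᵥ u) ((A : Matrix (Fin n) (Fin n) K) *ᵥ v) =
      Cfsg.hermForm n K q u v := h
    ext i j
    have h1 := h' (Pi.single i 1) (Pi.single j 1)
    rw [key, key2] at h1
    have e : (fun k => Cfsg.Agent.ClGeo.frob hK ((Pi.single j (1 : K) : Fin n → K) k)) = Pi.single j 1 := by
      funext k
      by_cases hj : k = j
      · subst hj; simp
      · simp [Pi.single_eq_of_ne hj]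
    rw [e] at h1
    simp only [single_one_dotProduct, Matrix.mulVec_single_one] at h1
    rw [Matrix.one_apply]
    change _ = (Pi.single j (1 : K) : Fin n → K) i at h1
    rw [Pi.single_apply] at h1
    exact h1
  · intro h
    change ∀ u v : Fin n → K, Cfsg.hermForm n K q ((A : Matrix (Fin n) (Fin n) K) *ᵥ u) ((A : Matrix (Fin n) (Fin n) K) *ᵥ v) =
      Cfsg.hermForm n K q u v
    intro u v
    rw [key, key2, h, Matrix.one_mulVec]

theorem isConj_GU_iff {K : Type*} [Field K] [Fintype K] {q n : ℕ} (hK : Fintype.card K = q ^ 2) (A B : ↥(Cfsg.GU n K q)) :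
    IsConj A B ↔ IsConj (A : GL (Fin n) K) (B : GL (Fin n) K) := by
  constructor
  · intro h
    rw [isConj_iff] at h ⊢
    obtain ⟨c, hc⟩ := h
    exact ⟨c, by rw [← hc]; rfl⟩
  · intro h
    rw [isConj_iff] at h
    obtain ⟨g, hg⟩ := h
    rw [mul_inv_eq_iff_eq_mul] at hg
    obtain ⟨k, hk1, hk2⟩ := unitary_conj (Cfsg.Agent.ClGeo.frob hK) (Cfsg.Agent.ClGeo.frob_frob hK) (Cfsg.Agent.ClGeo.frob_ne_id hK)
      (A : GL (Fin n) K) (B : GL (Fin n) K) ((mem_GU_iff hK _).1 A.2) ((mem_GU_iff hK _).1 B.2) g hg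
    rw [isConj_iff]
    refine ⟨⟨k, (mem_GU_iff hK _).2 hk1⟩, ?_⟩
    rw [mul_inv_eq_iff_eq_mul]
    exact Subtype.ext hk2

theorem exists_conj_GU_iff {K : Type*} [Field K] [Fintype K] {q n : ℕ} (hK : Fintype.card K = q ^ 2) (A : GL (Fin n) K) :
    (∃ B : ↥(Cfsg.GU n K q), IsConj A (B : GL (Fin n) K)) ↔
      IsConj (A : Matrix (Fin n) (Fin n) K) (((A : Matrix (Fin n) (Fin n) K).map (fun x : K => x ^ q)).transpose)⁻¹ := by
  have hst : ((A : Matrix (Fin n) (Fin n) K).map (fun x : K => x ^ q)).transpose = stm (Cfsg.Agent.ClGeo.frob hK) (A : Matrix (Fin n) (Fin n) K) := by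
    ext i j
    unfold stm
    simp only [Matrix.transpose_apply, Matrix.map_apply, Cfsg.Agent.ClGeo.frob_apply]
  rw [hst]
  have hu : IsUnit (stm (Cfsg.Agent.ClGeo.frob hK) (A : Matrix (Fin n) (Fin n) K)).det :=
    (Matrix.isUnit_iff_isUnit_det _).1 (IsUnit.of_mul_eq_one _ (stm_units' (Cfsg.Agent.ClGeo.frob hK) A))
  constructor
  · rintro ⟨B, hB⟩
    rw [isConj_iff] at hB
    obtain ⟨P, hP⟩ := hB
    have hB1 := (mem_GU_iff hK _).1 B.2
    rw [← hP] at hB1
    -- stm(P⁻¹) stm A stm P P A P⁻¹ = 1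
    rw [Units.val_mul, Units.val_mul, stm_mul, stm_mul] at hB1
    refine ⟨⟨stm (Cfsg.Agent.ClGeo.frob hK) (P : Matrix (Fin n) (Fin n) K) * (P : Matrix (Fin n) (Fin n) K),
      ((P⁻¹ : GL (Fin n) K) : Matrix (Fin n) (Fin n) K) * stm (Cfsg.Agent.ClGeo.frob hK) ((P⁻¹ : GL (Fin n) K) : Matrix (Fin n) (Fin n) K), ?_, ?_⟩, ?_⟩
    · rw [mul_assoc, ← mul_assoc (P : Matrix (Fin n) (Fin n) K), Units.mul_inv, one_mul, stm_units']
    · rw [mul_assoc, ← mul_assoc (stm _ _) (stm _ _), stm_units, one_mul, Units.inv_mul]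
    · change (stm (Cfsg.Agent.ClGeo.frob hK) (P : Matrix (Fin n) (Fin n) K) * (P : Matrix (Fin n) (Fin n) K)) * (A : Matrix (Fin n) (Fin n) K) =
        (stm (Cfsg.Agent.ClGeo.frob hK) (A : Matrix (Fin n) (Fin n) K))⁻¹ * (stm (Cfsg.Agent.ClGeo.frob hK) (P : Matrix (Fin n) (Fin n) K) * (P : Matrix (Fin n) (Fin n) K))
      have h1 : stm (Cfsg.Agent.ClGeo.frob hK) (A : Matrix (Fin n) (Fin n) K) *
          (stm (Cfsg.Agent.ClGeo.frob hK) (P : Matrix (Fin n) (Fin n) K) * (P : Matrix (Fin n) (Fin n) K) * (A : Matrix (Fin n) (Fin n) K)) =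
          stm (Cfsg.Agent.ClGeo.frob hK) (P : Matrix (Fin n) (Fin n) K) * (P : Matrix (Fin n) (Fin n) K) := by
        have h2 := congrArg (fun z => stm (Cfsg.Agent.ClGeo.frob hK) (P : Matrix (Fin n) (Fin n) K) * z * (P : Matrix (Fin n) (Fin n) K)) hB1
        simp only [mul_one] at h2
        refine Eq.trans ?_ h2
        have h3 := stm_units' (Cfsg.Agent.ClGeo.frob hK) P
        calc _ = (stm (Cfsg.Agent.ClGeo.frob hK) (P : Matrix (Fin n) (Fin n) K) * stm (Cfsg.Agent.ClGeo.frob hK) ((P⁻¹ : GL (Fin n) K) : Matrix (Fin n) (Fin n) K)) *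
              (stm (Cfsg.Agent.ClGeo.frob hK) (A : Matrix (Fin n) (Fin n) K) *
              (stm (Cfsg.Agent.ClGeo.frob hK) (P : Matrix (Fin n) (Fin n) K) * (P : Matrix (Fin n) (Fin n) K) * (A : Matrix (Fin n) (Fin n) K))) *
              (((P⁻¹ : GL (Fin n) K) : Matrix (Fin n) (Fin n) K) * (P : Matrix (Fin n) (Fin n) K)) := by
                rw [h3, Units.inv_mul, one_mul, mul_one]
          _ = _ := by simp only [mul_assoc]
      conv_rhs => rw [← h1]
      rw [← mul_assoc (stm (Cfsg.Agent.ClGeo.frob hK) (A : Matrix (Fin n) (Fin n) K))⁻¹, Matrix.nonsing_inv_mul _ hu, one_mul]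
  · rintro ⟨g, hg⟩
    have hg' : (g : Matrix (Fin n) (Fin n) K) * (A : Matrix (Fin n) (Fin n) K) =
      (stm (Cfsg.Agent.ClGeo.frob hK) (A : Matrix (Fin n) (Fin n) K))⁻¹ * (g : Matrix (Fin n) (Fin n) K) := hg
    obtain ⟨P, hP⟩ := unitary_exists (Cfsg.Agent.ClGeo.frob hK) (Cfsg.Agent.ClGeo.frob_frob hK) (Cfsg.Agent.ClGeo.frob_ne_id hK) A g (by
      rw [mul_assoc, hg', ← mul_assoc, Matrix.mul_nonsing_inv _ hu, one_mul])
    refine ⟨⟨P * A * P⁻¹, (mem_GU_iff hK _).2 hP⟩, ?_⟩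
    rw [isConj_iff]
    exact ⟨P, rfl⟩

end Cfsg.Agent.H43
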